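import Cfsg.Agent.W4.C2

/-! Flags in the coded orthogonal space: transport, uniqueness and the shape of the group at a point. -/

set_option autoImplicit false
set_option linter.unusedSectionVars false
set_option maxRecDepth 100000

namespace CF.W4
open Cfsg Subgroup CF.Loc CF.Even CF.LX CF.J4 CF.Comp CF.Dce CF.XG
open CF.ThR (q8 b8)

/-- a point, an opposite vector, a subspace and three matrices -/
structure Fl where
  (p o F a b c : ℕ)

/-- the matrices of a flag -/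
noncomputable def Fl.gen (f : Fl) (i : ℕ) : ℕ := nth f.c [f.a, f.b] i

/-- their products -/
noncomputable def Fl.el (f : Fl) (s : ℕ) : ℕ :=
  mm 8 (mm 8 (Bool.rec (mo 8) f.a (tb s 0)) (Bool.rec (mo 8) f.b (tb s 1))) (Bool.rec (mo 8) f.c (tb s 2))

/-- the products cover the hyperplane modulo the subspace -/
noncomputable def Fl.cov (f : Fl) : Bool :=
  forceL (lmap (fun s => vm 8 f.o (f.el s) ^^^ f.o) [0, 1, 2, 3, 4, 5, 6, 7]) fun L =>
    allFrom (fun c => Bool.rec true (lany (fun v => tb f.F (Nat.xor v c)) L) (Nat.beq (b8 c f.p) 0)) 0 256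

/-- the test for isometries -/
noncomputable def iso (x : ℕ) : Bool := force x fun x =>
  allFrom (fun i => force (fld 8 x i) fun r => Bool.rec false
    (allFrom (fun j => Nat.beq (b8 r (fld 8 x j)) (b8 (Nat.pow 2 i) (Nat.pow 2 j))) 0 8) (Nat.beq (q8 r) 0)) 0 8

/-- the possible generators at the base point -/
def GT : ℕ := 0x905234101804029f905224101804029d904234101804029b90422410180402998052341018040287805224101804028580423410180402838042241018040281925038100814025f925028100814025d924038100814024b92402810081402498250381008140257825028100814025582403810081402438240281008140241945830100804123f945820100804122d944830100804123b94482010080412298458301008041237845820100804122584483010080412338448201008041221905030101804029f905020101804029d904030101804029b90402010180402998050301018040287805020101804028580403010180402838040201018040281905030100814025f905020100814025d904030100814024b90402010081402498050301008140257805020100814025580403010081402438040201008140241905030100804123f905020100804122d904030100804123b90402010080412298050301008041237805020100804122580403010080412338040201008041221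

/-- involutions which interchange `1` and `16` -/
def SJ : ℕ := 0x80408201ea84a01048406001c0ae42108040c201aa66e01008406001806642106eeaec01e6aece1080c00201cc8420108004a001aa40821008040201804020108040a001ea84821080868401cea060108040e001aa66c210084042018066601080e02001eca4e61080c02001cc84021080048201aa40a01008042001804002108040e001eae6c21080840201ccc020108040a001aa0482100840020180042010804060010866421080040201084020108040c201eae6e01080842001ccc0021080408201aa04a01008402001800402108040420108666010800420010840021080400201080420108040200108040210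

/-- the maximal singular subspaces through `1` -/
def FJ : ℕ := 0xc000000c00000000003000000300000c00000000c00000000300000000300003000000000030000c0000000000c0000c0000000000c0000300000000003000000030000300000000c00000000c0000000c000000c000000300000000003000000c00000000c0000003000000003000000c00000000c0000003000000003000000c00000c0000000c000000000c000000003000003000000030000000003000030000000300000000030000000300000030000000300000000030000000300000c000000000c00000c000000000c00000300000000030000030000000003000000030000000300000003000000030000000300000003000000030000000300003c0000000000000000000000003c0000c3000000000000000000000000c3000000000000c0030000c003000000000000c00300000000000000000000c003000000000000300c00000c3000000000000003c000000000000000000000c003000000c30000000000000000000000c3000000c30000000000000000000000c3000030c0000000000000c03000000000000000000000030c0000000000000c03000000000000f000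00000000000000f00000000000000f00000000000000000f00000c030000000000000c03000000000000000000000c030000000000000c03000000000000000f000000000000000f000000000000000f000000000000000f00000cc00000c00c000000000000000000000000000000000000033000003003000030030000300300000000000000000000000000000000000030030000300300000000000000000000cc00000000cc000000000000000000003300000000330000000000000000000000330000003300000000000000000000003300000033000000000000000000000000000000000000c0c000000c0c0000303000000303000000000000000000000000000000000000030300000303000003030000030300003cc300000000000000000000000000000000000000000000000000003cc3000000000000f00f00000000000000000000000000000000000000000000f00f00000000000000000000cc33000000000000000000000000000000000000cc33000000000000000000000000000000ff000000000000000000000000000000ff000000000000000000000000000000000000c3c300000000000000000000c3c3000000000000000000000000000000000000000000000f0f0000000000000f0f0000000000000000000000000000000000000000000000000000333300003333000000000000000000000000000000000000000000000000000000000000ffff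

/-- the possible generators -/
def gm (τ i φ : ℕ) : ℕ := fld 64 GT (24 * τ + 8 * i + φ)

/-- the possible generators at the opposite point -/
noncomputable def gj (j τ i φ : ℕ) : ℕ := mm 8 (fld 64 SJ j) (mm 8 (gm τ i φ) (fld 64 SJ j))

/-- a matrix with given rows -/
def asm (a b c d e f g h : ℕ) : ℕ := a + 256 * (b + 256 * (c + 256 * (d + 256 * (e + 256 * (f + 256 * (g + 256 * h))))))

theorem asm_eq {M : ℕ} (h : M < 2 ^ 64) : M = asm (fld 8 M 0) (fld 8 M 1) (fld 8 M 2) (fld 8 M 3) (fld 8 M 4) (fld 8 M 5)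
    (fld 8 M 6) (fld 8 M 7) := by
  simp only [asm, fld, Nat.shiftRight_eq_div_pow]; omega

theorem b8_xor' (u v w : ℕ) : b8 u (v ^^^ w) = b8 u v ^^^ b8 u w := by
  rw [ThR.b8_comm, ThR.b8_xor, ThR.b8_comm v, ThR.b8_comm w]

theorem b8_zero (w : ℕ) : b8 0 w = 0 := by simpa using ThR.b8_xor 0 0 w

theorem iso_q {x : ℕ} (h : iso x = true) : ∀ c < 256, q8 (vm 8 c x) = q8 c := by
  rw [iso, force_eq] at h
  have h1 := fun i hi => brec_and.1 ((force_eq _ _).symm.trans (allFrom_zero.1 h i hi))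
  have h2 : ∀ i < 8, ∀ w < 2 ^ 8, b8 (vm 8 (2 ^ i) x) (vm 8 w x) = b8 (2 ^ i) w := fun i hi =>
    xor_ind (by rw [vm_zero, ThR.b8_comm, b8_zero, ThR.b8_comm, b8_zero])
      (fun j hj => by rw [vm_pow hi, vm_pow hj]; exact beq_iff.1 (allFrom_zero.1 (h1 i hi).2 j hj))
      fun a _ b _ ha hb => by rw [vm_xor, b8_xor', b8_xor', ha, hb]
  have h3 : ∀ v < 2 ^ 8, ∀ w < 2 ^ 8, b8 (vm 8 v x) (vm 8 w x) = b8 v w :=
    xor_ind (fun w _ => by rw [vm_zero, b8_zero, b8_zero]) h2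
      fun a _ b _ ha hb w hw => by rw [vm_xor, ThR.b8_xor, ThR.b8_xor, ha w hw, hb w hw]
  exact xor_ind (n := 8) (by rw [vm_zero]) (fun i hi => by
      rw [vm_pow hi, beq_iff.1 (h1 i hi).1, (by decide +kernel : ∀ i < 8, q8 (2 ^ i) = 0) i hi])
    fun a ha b hb e1 e2 => by rw [vm_xor, ThR.q8_xor, ThR.q8_xor, e1, e2, h3 a ha b hb]

theorem iso_b {x c d : ℕ} (h : iso x = true) (hc : c < 256) (hd : d < 256) : b8 (vm 8 c x) (vm 8 d x) = b8 c d := by
  have := iso_q h _ (Nat.xor_lt_two_pow (n := 8) hc hd)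
  rw [vm_xor, ThR.q8_xor, ThR.q8_xor, iso_q h c hc, iso_q h d hd] at this
  exact xor_cancel this

theorem iso_F {x : ℕ} (h : iso x = true) (k : ∀ c < 16, FM0.testBit (vm 8 (2 * c) x) = true) :
    ∀ c < 256, FM0.testBit (vm 8 c x) = FM0.testBit c := fun c hc => Bool.eq_iff_iff.2 ⟨fun l => by
  have r : ∀ e < 16, b8 c (2 * e) = 0 := fun e he => by
    rw [← iso_b h hc (by omega)]
    exact (by decide +kernel : ∀ u < 256, FM0.testBit u = true → ∀ v < 256, FM0.testBit v = true → b8 u v = 0) _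
      (vm_lt 8 _ _) l _ (vm_lt 8 _ _) (k e he)
  exact (by decide +kernel : ∀ c < 256, (∀ e < 16, b8 c (2 * e) = 0) → FM0.testBit c = true) c hc r, fun l => by
  obtain ⟨e, he, rfl⟩ := (by decide +kernel : ∀ c < 256, FM0.testBit c = true → ∃ e < 16, c = 2 * e) c hc l
  exact k e he⟩

variable {G : Type*} [Group G] (Q : G → Subgroup G) (D : Set G) (z : G) (π π' : G → ℕ)

/-- the flag occurs -/
structure Ok (f : Fl) : Prop where
  Γ : gΓ Q D z π f.p
  F : ∀ c < 256, gF Q D z π f.p c ↔ f.F.testBit c = true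
  o : f.o < 256
  op : b8 f.o f.p = 1
  A : ∀ i, gA Q D z π f.p (f.gen i)

/-- transport along a matrix -/
structure Tr (Y : ℕ) : Prop where
  Γ : ∀ {p}, gΓ Q D z π p → gΓ Q D z π' (vm 8 p Y)
  F : ∀ {p c}, gF Q D z π p c → gF Q D z π' (vm 8 p Y) (vm 8 c Y)
  F' : ∀ {p d}, p < 256 → gF Q D z π' (vm 8 p Y) d → ∃ c < 256, gF Q D z π p c ∧ vm 8 c Y = d
  A : ∀ {p X X'}, gA Q D z π p X → mm 8 X Y = mm 8 Y X' → gA Q D z π' (vm 8 p Y) X'
  surj : ∀ d < 256, ∃ c < 256, vm 8 c Y = d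

variable {Q D z π π'} [Finite G] {a a' b e g h t x y : G} {p c o M N W X Y FM FM' AL : ℕ} {f f' : Fl}

local notation "𝐀" => J4.Ac 8 (Q z) π

theorem Tr.Fiff (T : Tr Q D z π π' Y) (hp : p < 256) (k : ∀ c < 256, gF Q D z π p c ↔ FM.testBit c = true)
    (hF : ∀ c < 256, FM'.testBit (vm 8 c Y) = FM.testBit c) :
    ∀ c < 256, gF Q D z π' (vm 8 p Y) c ↔ FM'.testBit c = true := fun d hd => ⟨fun l => by
  obtain ⟨c, hc, r, rfl⟩ := T.F' hp l
  rw [hF c hc, ← k c hc]; exact r, fun l => by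
  obtain ⟨c, hc, rfl⟩ := T.surj d hd
  exact T.F ((k c hc).2 (hF c hc ▸ l))⟩

namespace St
variable (S : St Q D z π)
include S

theorem chg (k : iso Y = true) : St Q D z fun e => vm 8 (π e) Y := by
  have B : ThR.Bj fun c => vm 8 c Y := ⟨fun c => vm_lt 8 c Y, fun a _ b _ => vm_xor 8 a b Y, fun c hc l =>
    (by decide +kernel : ∀ c < 256, (∀ i < 8, b8 c (2 ^ i) = 0) → c = 0) c hc fun i hi => by
      rw [← iso_b k hc (Nat.pow_lt_pow_right (m := i) (n := 8) one_lt_two hi), show vm 8 c Y = 0 from l, b8_zero]⟩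
  exact ⟨S.sys, S.zD, { S.lq with
    pos := p8, le := S.lq.z_le, mul := fun x hx y hy => by rw [S.co.mul x hx y hy, vm_xor], lt := fun _ _ => vm_lt _ _ _
    surj := fun c hc => by
      obtain ⟨d, hd, rfl⟩ := B.surj hc
      obtain ⟨x, hx, rfl⟩ := S.co.surj d hd
      exact ⟨x, hx, rfl⟩
    ker := fun x hx => by
      rw [← S.co.ker x hx]
      exact ⟨B.ker _ (S.lt hx), fun l => by rw [l, vm_zero]⟩
    sq' := fun x hx => by rw [iso_q k _ (S.lt hx), S.fr.sq' x hx] }⟩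

theorem tr_chg (S' : St Q D z π') (k : ∀ e ∈ Q z, π' e = vm 8 (π e) Y) : Tr Q D z π π' Y where
  Γ := fun ⟨a, j, e⟩ => ⟨a, j, e ▸ k a j.aQ⟩
  F := fun ⟨a, j, e, y, h1, h2, l⟩ => ⟨a, j, e ▸ k a j.aQ, y, h1, h2, l ▸ k y h1⟩
  F' := fun {p d} hp ⟨a, j, e, y, h1, h2, l⟩ => by
    obtain ⟨x, hx, rfl⟩ := S.co.surj p hp
    exact ⟨_, S.lt h1, ⟨a, j, (S.co.eq_iff j.aQ hx).2 ((S'.co.eq_iff j.aQ hx).1 (e.trans (k x hx).symm)), y, h1, h2, rfl⟩,
      (k y h1).symm.trans l⟩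
  A := fun ⟨a, j, e, b, hb, l⟩ r => ⟨a, j, e ▸ k a j.aQ, b, hb, l.1, fun y hy => by
    rw [k _ (norm_mem l.1 hy), l.2 y hy, ← vm_mm p8, r, vm_mm p8, k y hy]⟩
  surj := fun d hd => let ⟨x, hx, e⟩ := S'.co.surj d hd; ⟨_, S.lt hx, (k x hx).symm.trans e⟩

theorem tr_act (k : gN Q z π Y) : Tr Q D z π π Y := by
  obtain ⟨N, -, n1, n2, n3⟩ := S.N_inv k
  exact ⟨fun l => S.Γ_act l k, fun l => S.F_act l k, fun {p d} hp l => by
    obtain ⟨_, _, _, _, h1, _, rfl⟩ := id l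
    exact ⟨_, vm_lt 8 _ _, n2 p hp ▸ S.F_act l n1, n3 _ (S.lt h1)⟩,
    fun l r => S.A_act l k fun c _ => by rw [← vm_mm p8, r, vm_mm p8], fun d hd => ⟨_, vm_lt 8 _ _, n3 d hd⟩⟩

theorem N_b8 (k : gN Q z π Y) {d : ℕ} (hc : c < 256) (hd : d < 256) : b8 (vm 8 c Y) (vm 8 d Y) = b8 c d :=
  let ⟨_, k⟩ := k; S.b8_ac k hc hd

theorem A_one (k : gΓ Q D z π p) : gA Q D z π p (mo 8) := let ⟨a, j, e⟩ := k; ⟨a, j, e, 1, one_mem _, S.one⟩

theorem A_two (k : gA Q D z π p M) (l : gA Q D z π p N) :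
    ∃ a, Adj Q D z a ∧ π a = p ∧ ∃ b ∈ Q a, ∃ b' ∈ Q a, 𝐀 b M ∧ 𝐀 b' N :=
  let ⟨a, j, e, b, hb, k⟩ := k
  let ⟨b', hb', l⟩ := S.A_norm j (e ▸ l)
  ⟨a, j, e, b, hb, b', hb', k, l⟩

theorem A_mul (k : gA Q D z π p M) (l : gA Q D z π p N) : gA Q D z π p (mm 8 M N) :=
  let ⟨a, j, e, _, hb, _, hb', k, l⟩ := S.A_two k l
  ⟨a, j, e, _, mul_mem hb hb', S.mul k l⟩

theorem A_comm (k : gA Q D z π p M) (l : gA Q D z π p N) : mm 8 M N = mm 8 N M := by
  obtain ⟨a, j, -, b, hb, b', hb', k, l⟩ := S.A_two k l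
  refine S.uniq (S.mul k l) ?_ (mm_lt p8 _ _) (mm_lt p8 _ _)
  rcases S.sys.cases j.aD hb hb' with r | r
  · rw [conj_eq_iff.1 r]; exact S.mul l k
  · rw [mul_inv_eq_iff_eq_mul.1 r, mul_assoc]
    exact S.co.congr (S.mul (S.self j.aQ) (S.mul l k)) fun c hc => by rw [vm_mm p8, vm_mo p8 hc]

theorem A_fix (k : gA Q D z π p M) : vm 8 p M = p := by
  obtain ⟨a, j, rfl, b, hb, k⟩ := k
  rw [← k.2 a j.aQ, mul_assoc, ← S.sys.zc j.aD hb, inv_mul_cancel_left]

theorem A_sq (k : gA Q D z π p M) : mm 8 M M = mo 8 :=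
  let ⟨_, j, _, _, hb, k⟩ := k
  S.uniq (S.mul k k) (S.self (S.sys.sqQ j hb)) (mm_lt p8 _ _) (mo_lt p8)

theorem A_F (k : gA Q D z π p M) (hc : c < 256) (l : b8 c p = 0) : gF Q D z π p (vm 8 c M ^^^ c) := by
  obtain ⟨a, j, rfl, b, hb, k⟩ := k
  obtain ⟨x, hx, rfl⟩ := S.co.surj c hc
  have m := norm_mem k.1 hx
  refine ⟨a, j, rfl, b⁻¹ * x * b * x⁻¹, mul_mem m (inv_mem hx), ?_, by rw [S.co.mul _ m _ (inv_mem hx), S.co.inv hx, k.2 x hx]⟩
  rw [mul_assoc, mul_assoc, ← mul_assoc x]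
  exact mul_mem (inv_mem hb) (S.sys.fam.nor ((S.fr.comm_iff hx j.aQ).2 l) hb)

theorem flip (j : Adj Q D z a) (hx : x ∈ Q z) (l : b8 (π x) (π a) = 1) : x * a * x⁻¹ = z * a :=
  S.sys.not_comm j hx fun r => by rw [(S.fr.comm_iff hx j.aQ).1 r] at l; exact zero_ne_one l

theorem A_uniq (k : gA Q D z π p X) (l : gA Q D z π p M) (ho : o < 256) (op : b8 o p = 1)
    (r : gF Q D z π p (vm 8 o X ^^^ vm 8 o M)) : ∀ c < 256, vm 8 c X = vm 8 c M := fun c hc => by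
  obtain ⟨a, j, rfl, b, hb, b', hb', k, l⟩ := S.A_two k l
  obtain ⟨x, hx, rfl⟩ := S.co.surj o ho
  have m := norm_mem k.1 hx
  have m' := norm_mem l.1 (inv_mem hx)
  rw [← k.2 x hx, ← S.co.inv hx, ← l.2 _ (inv_mem hx), ← S.co.mul _ m _ m', S.F_norm j (mul_mem m m')] at r
  have := S.sys.k1_inj j hx (S.flip j hx op) (mul_mem hb (inv_mem hb')) (by
    have := mul_mem (mul_mem hb r) (inv_mem hb)
    rwa [show b * (b⁻¹ * x * b * (b'⁻¹ * x⁻¹ * b')) * b⁻¹ = x * (b * b'⁻¹) * x⁻¹ * (b * b'⁻¹)⁻¹ by group] at this)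
  have r := S.mul (S.self this) l
  rw [inv_mul_cancel_right] at r
  rw [S.co.uniq k r hc, vm_mm p8, vm_mo p8 hc]

theorem A_ex (k : gΓ Q D z π p) (ho : o < 256) (op : b8 o p = 1) (hc : c < 256) (l : b8 c p = 0) :
    ∃ M < 2 ^ 64, gA Q D z π p M ∧ gF Q D z π p (vm 8 o M ^^^ o ^^^ c) := by
  obtain ⟨a, j, rfl⟩ := k
  obtain ⟨x, hx, rfl⟩ := S.co.surj o ho
  obtain ⟨y, hy, rfl⟩ := S.co.surj c hc
  obtain ⟨b, h1, h2, -, h3⟩ := S.sys.k1_to j hx (S.flip j hx op) S.sys.fam hy ((S.fr.comm_iff hy j.aQ).2 l) hy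
  obtain ⟨M, hM, k⟩ := S.ex_ac (comm_inv h2)
  have m := norm_mem k.1 (inv_mem hx)
  refine ⟨M, hM, ⟨a, j, rfl, _, inv_mem h1, k⟩, a, j, rfl, _, mul_mem (inv_mem hy) (S.sys.comm_mem hx h2), h3, ?_⟩
  rw [show x * b * x⁻¹ * b⁻¹ = x * (b⁻¹⁻¹ * x⁻¹ * b⁻¹) by group, S.co.mul _ (inv_mem hy) _ (mul_mem hx m), S.co.mul _ hx _ m,
    k.2 _ (inv_mem hx), S.co.inv hx, S.co.inv hy, Nat.xor_comm, Nat.xor_comm (π x)]

theorem F_q8 (k : gF Q D z π p c) : q8 c = 0 :=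
  let ⟨_, j, _, _, h1, h2, e⟩ := k; e ▸ (S.fr.sq_iff h1).1 (S.sys.E_sq j h1 h2)

theorem F_b8 {d : ℕ} (k : gF Q D z π p c) (l : gF Q D z π p d) : b8 c d = 0 := by
  obtain ⟨a, j, rfl, x, h1, h2, rfl⟩ := k
  obtain ⟨_, _, _, y, k1, _, rfl⟩ := id l
  exact (S.fr.comm_iff h1 k1).1 (S.sys.E_comm j h1 h2 k1 ((S.F_norm j k1).1 l))

theorem F_self (k : gΓ Q D z π p) : gF Q D z π p p := let ⟨a, j, e⟩ := k; ⟨a, j, e, a, j.aQ, S.sys.mem j.aD, e⟩

theorem el (k : Ok Q D z π f) (s : ℕ) : gA Q D z π f.p (f.el s) := by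
  have r : ∀ i (t : Bool), gA Q D z π f.p (Bool.rec (mo 8) (f.gen i) t) := fun i t => by
    cases t
    exacts [S.A_one k.Γ, k.A i]
  exact S.A_mul (S.A_mul (r 0 _) (r 1 _)) (r 2 _)

theorem full (k : Ok Q D z π f) (v : f.cov = true) (l : gA Q D z π f.p X) :
    ∃ s < 8, ∀ c < 256, vm 8 c X = vm 8 c (f.el s) := by
  rw [Fl.cov, forceL_eq, lmap_eq] at v
  have m := Nat.xor_lt_two_pow (vm_lt 8 f.o X) k.o
  obtain ⟨_, hv, r⟩ := lany_iff.1 (brec_imp.1 (allFrom_zero.1 v _ m) (beq_iff.2 (by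
    rw [ThR.b8_xor, k.op, ← S.A_fix l, S.N_b8 (A_N l) k.o (S.Γ_lt k.Γ).1, k.op]; rfl)))
  obtain ⟨s, hs, rfl⟩ := List.mem_map.1 hv
  refine ⟨s, (by decide : ∀ s ∈ [0, 1, 2, 3, 4, 5, 6, 7], s < 8) s hs, S.A_uniq l (S.el k s) k.o k.op ((k.F _ (Nat.xor_lt_two_pow (vm_lt 8 _ _) (vm_lt 8 _ _))).2 ?_)⟩
  rw [← tb_eq, ← r]
  congr 1
  show _ = (vm 8 f.o (f.el s) ^^^ f.o) ^^^ (vm 8 f.o X ^^^ f.o)
  rw [xor4, Nat.xor_self, Nat.xor_zero, Nat.xor_comm]

theorem fg (k : Ok Q D z π f) (v : f.cov = true) (l : ∀ s < 8, f.el s = fld 64 AL s) : Fg Q D z π f.p f.F AL :=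
  ⟨k.Γ, k.F, fun M hM r => let ⟨s, hs, e⟩ := S.full k v r; ⟨s, hs, l s hs ▸ mat_ext p8 hM (mm_lt p8 _ _) e⟩,
    fun s hs => l s hs ▸ S.el k s⟩

theorem mv' (T : Tr Q D z π π' Y) (k : Ok Q D z π f) (hp : vm 8 f.p Y = f'.p)
    (hF : ∀ c < 256, f'.F.testBit (vm 8 c Y) = f.F.testBit c) (ho : f'.o < 256) (op : b8 f'.o f'.p = 1)
    (hA : ∀ i < 3, ∃ X, gA Q D z π f.p X ∧ mm 8 X Y = mm 8 Y (f'.gen i)) : Ok Q D z π' f' :=
  ⟨hp ▸ T.Γ k.Γ, hp ▸ T.Fiff (S.Γ_lt k.Γ).1 k.F hF, ho, op, fun i => by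
    obtain ⟨X, l, r⟩ := hA (min i 2) (by omega)
    have : f'.gen (min i 2) = f'.gen i := by
      rcases i with _ | _ | i
      exacts [rfl, rfl, by rw [min_eq_right (by omega)]; rfl]
    exact hp ▸ T.A l (this ▸ r)⟩

end St

/-- a test for all codes with a property -/
noncomputable def al (P : ℕ → Prop) [DecidablePred P] (k : ℕ → Bool) : Bool :=
  allFrom (fun c => Bool.rec true (k c) (decide (P c))) 0 256

theorem al_iff {P : ℕ → Prop} [DecidablePred P] {k : ℕ → Bool} : al P k = true ↔ ∀ c < 256, P c → k c = true := by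
  simp only [al, allFrom_zero, brec_imp, decide_eq_true_eq]

set_option synthInstance.maxSize 100000 in
theorem shape_dec : ∀ i < 3, ∀ a < 256, FM0.testBit (a ^^^ 1 ^^^ 32 * 2 ^ i) = true ∧ q8 a = 0 →
    ∀ f < 256, FM0.testBit (f ^^^ 32) = true ∧ q8 f = 0 ∧ b8 a f = 0 →
    ∀ g < 256, FM0.testBit (g ^^^ 64) = true ∧ q8 g = 0 ∧ b8 a g = 0 ∧ b8 f g = 0 →
    ∀ h < 256, FM0.testBit (h ^^^ 128) = true ∧ q8 h = 0 ∧ b8 a h = 0 ∧ b8 f h = 0 ∧ b8 g h = 0 →
    ∀ b < 256, FM0.testBit (b ^^^ 2) = true ∧ b8 a b = 0 ∧ b8 b f = 1 ∧ b8 b g = 0 ∧ b8 b h = 0 →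
    ∀ c < 256, FM0.testBit (c ^^^ 4) = true ∧ b8 a c = 0 ∧ b8 c f = 0 ∧ b8 c g = 1 ∧ b8 c h = 0 →
    ∀ d < 256, FM0.testBit (d ^^^ 8) = true ∧ b8 a d = 0 ∧ b8 d f = 0 ∧ b8 d g = 0 ∧ b8 d h = 1 →
    mm 8 (asm a b c d 16 f g h) (asm a b c d 16 f g h) = mo 8 → ∃ τ < 2, ∃ φ < 8, asm a b c d 16 f g h = gm τ i φ := by
  have : ∀ i : ℕ, i < 3 → (al (fun a => FM0.testBit (a ^^^ 1 ^^^ 32 * 2 ^ i) = true ∧ q8 a = 0) fun a =>
      al (fun f => FM0.testBit (f ^^^ 32) = true ∧ q8 f = 0 ∧ b8 a f = 0) fun f =>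
      al (fun g => FM0.testBit (g ^^^ 64) = true ∧ q8 g = 0 ∧ b8 a g = 0 ∧ b8 f g = 0) fun g =>
      al (fun h => FM0.testBit (h ^^^ 128) = true ∧ q8 h = 0 ∧ b8 a h = 0 ∧ b8 f h = 0 ∧ b8 g h = 0) fun h =>
      al (fun b => FM0.testBit (b ^^^ 2) = true ∧ b8 a b = 0 ∧ b8 b f = 1 ∧ b8 b g = 0 ∧ b8 b h = 0) fun b =>
      al (fun c => FM0.testBit (c ^^^ 4) = true ∧ b8 a c = 0 ∧ b8 c f = 0 ∧ b8 c g = 1 ∧ b8 c h = 0) fun c =>
      al (fun d => FM0.testBit (d ^^^ 8) = true ∧ b8 a d = 0 ∧ b8 d f = 0 ∧ b8 d g = 0 ∧ b8 d h = 1) fun d =>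
      decide (mm 8 (asm a b c d 16 f g h) (asm a b c d 16 f g h) = mo 8 →
        ∃ τ : ℕ, τ < 2 ∧ ∃ φ : ℕ, φ < 8 ∧ asm a b c d 16 f g h = gm τ i φ)) = true := by decide +kernel
  simpa only [al_iff, decide_eq_true_eq] using this

set_option synthInstance.maxSize 100000 in
theorem tau_dec : ∀ τ < 2, ∀ τ' < 2, ∀ φ < 8, ∀ φ' < 8, ∀ i < 2,
    mm 8 (gm τ 0 φ) (gm τ' (i + 1) φ') = mm 8 (gm τ' (i + 1) φ') (gm τ 0 φ) → τ' = τ := by decide +kernel

set_option synthInstance.maxSize 100000 in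
theorem sj_dec : ∀ j < 30, iso (fld 64 SJ j) = true ∧ mm 8 (fld 64 SJ j) (fld 64 SJ j) = mo 8 ∧ vm 8 1 (fld 64 SJ j) = 16 ∧
    vm 8 16 (fld 64 SJ j) = 1 ∧ (∀ c < 256, FM0.testBit (vm 8 c (fld 64 SJ j)) = (fld 256 FJ j).testBit c) ∧
    ((List.range 256).filter (fld 256 FJ j).testBit).length = 16 ∧
    ∀ c < 256, (fld 256 FJ j).testBit (c ^^^ 1) = (fld 256 FJ j).testBit c := by decide +kernel

/-- the singular vectors orthogonal to `1` and `16` -/
def WS : List ℕ := [2, 4, 6, 8, 10, 12, 14, 32, 36, 40, 44, 64, 66, 72, 74, 96, 102, 104, 110, 128, 130, 132, 134, 160,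
  164, 170, 174, 192, 194, 204, 206, 224, 230, 234, 236]

set_option synthInstance.maxSize 100000 in
theorem fj_dec : (∀ c < 256, q8 c = 0 → b8 c 1 = 0 → c = 0 ∨ c = 1 ∨ c ∈ WS ∨ c ^^^ 1 ∈ WS) ∧
    (∀ j < 30, (fld 256 FJ j).testBit 0 = true) ∧ (∀ c ∈ WS, c < 256 ∧ ∃ j < 30, (fld 256 FJ j).testBit c = true) ∧
    ∀ c ∈ WS, ∀ d ∈ WS, b8 c d = 0 → c ≠ d → ∃ i < 30, (fld 256 FJ i).testBit c = true ∧ (fld 256 FJ i).testBit d = true ∧
      ∃ j < 30, j ≠ i ∧ (fld 256 FJ j).testBit c = true ∧ (fld 256 FJ j).testBit d = true ∧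
        ∀ e ∈ WS, b8 e c = 0 → b8 e d = 0 → ((fld 256 FJ i).testBit e = true ∨ (fld 256 FJ j).testBit e = true) ∧
          ((fld 256 FJ j).testBit e = true ∨ ∀ e' ∈ WS, (fld 256 FJ j).testBit e' = true → b8 e e' = 0 →
            (fld 256 FJ i).testBit e' = true) := by decide +kernel

namespace St
variable (S : St Q D z π)
include S

theorem shape (k : gΓ Q D z π 16) (hF : ∀ c < 256, gF Q D z π 16 c ↔ FM0.testBit c = true) :
    ∃ τ < 2, ∃ φ < 8, ∃ φ' < 8, ∃ φ'' < 8, Ok Q D z π ⟨16, 1, FM0, gm τ 0 φ, gm τ 1 φ', gm τ 2 φ''⟩ := by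
  have key : ∀ i < 3, ∃ τ < 2, ∃ φ < 8, gA Q D z π 16 (gm τ i φ) := fun i hi => by
    obtain ⟨l1, l2⟩ := (by decide +kernel : ∀ i < 3, 32 * 2 ^ i < 256 ∧ b8 (32 * 2 ^ i) 16 = 0) i hi
    obtain ⟨M, hM, a, r⟩ := S.A_ex k (o := 1) (by decide) (by decide +kernel) l1 l2
    have p2 : ∀ {i}, i < 8 → 2 ^ i < 256 := Nat.pow_lt_pow_right one_lt_two
    have B : ∀ i < 8, ∀ j < 8, b8 (fld 8 M i) (fld 8 M j) = b8 (2 ^ i) (2 ^ j) := fun i hi j hj => by
      rw [← vm_pow hi, ← vm_pow hj, S.N_b8 (A_N a) (p2 hi) (p2 hj)]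
    have q : ∀ i < 8, q8 (fld 8 M i) = 0 := fun i hi => by
      obtain ⟨_, a⟩ := A_N a
      rw [← vm_pow hi, S.q8_ac a (p2 hi), (by decide +kernel : ∀ i < 8, q8 (2 ^ i) = 0) i hi]
    have F : ∀ i < 7, FM0.testBit (fld 8 M (i + 1) ^^^ 2 ^ (i + 1)) = true := fun i hi => by
      have : i + 1 < 8 := by omega
      rw [← hF _ (Nat.xor_lt_two_pow (fld_lt _ _ _) (p2 this)), ← vm_pow this]
      exact S.A_F a (p2 this) ((by decide +kernel : ∀ i < 7, b8 (2 ^ (i + 1)) 16 = 0) i hi)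
    have e := asm_eq hM
    rw [show fld 8 M 4 = 16 from (vm_pow (i := 4) (by decide) M).symm.trans (S.A_fix a)] at e
    rw [hF _ (Nat.xor_lt_two_pow (n := 8) (Nat.xor_lt_two_pow (vm_lt _ _ _) (by decide)) l1),
      show vm 8 1 M = fld 8 M 0 from vm_pow (i := 0) (by decide) M] at r
    have b : ∀ i j v (h : (decide (i < 8) && decide (j < 8) && b8 (2 ^ i) (2 ^ j) == v) = true := by decide +kernel),
        b8 (fld 8 M i) (fld 8 M j) = v := fun i j v h => by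
      simp only [Bool.and_eq_true, decide_eq_true_eq, beq_iff_eq] at h
      rw [B i h.1.1 j h.1.2, h.2]
    obtain ⟨τ, h1, φ, h2, l⟩ := shape_dec i hi _ (fld_lt _ _ _) ⟨r, q 0 (by decide)⟩ _ (fld_lt _ _ _) ⟨F 4 (by decide),
      q 5 (by decide), b 0 5 0⟩ _ (fld_lt _ _ _) ⟨F 5 (by decide), q 6 (by decide), b 0 6 0, b 5 6 0⟩ _ (fld_lt _ _ _)
      ⟨F 6 (by decide), q 7 (by decide), b 0 7 0, b 5 7 0, b 6 7 0⟩ _ (fld_lt _ _ _) ⟨F 0 (by decide), b 0 1 0, b 1 5 1,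
      b 1 6 0, b 1 7 0⟩ _ (fld_lt _ _ _) ⟨F 1 (by decide), b 0 2 0, b 2 5 0, b 2 6 1, b 2 7 0⟩ _ (fld_lt _ _ _)
      ⟨F 2 (by decide), b 0 3 0, b 3 5 0, b 3 6 0, b 3 7 1⟩ (e ▸ S.A_sq a)
    exact ⟨τ, h1, φ, h2, l ▸ e ▸ a⟩
  obtain ⟨τ, h1, φ, h2, a0⟩ := key 0 (by decide)
  obtain ⟨τ1, h3, φ1, h4, a1⟩ := key 1 (by decide)
  obtain ⟨τ2, h5, φ2, h6, a2⟩ := key 2 (by decide)
  obtain rfl := tau_dec τ h1 τ1 h3 φ h2 φ1 h4 0 (by decide) (S.A_comm a0 a1)
  obtain rfl := tau_dec _ h1 τ2 h5 φ h2 φ2 h6 1 (by decide) (S.A_comm a0 a2)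
  refine ⟨_, h1, φ, h2, φ1, h4, φ2, h6, k, hF, (by decide : 1 < 256), (by decide +kernel : b8 1 16 = 1), fun i => ?_⟩
  rcases i with _ | _ | i
  exacts [a0, a1, a2]

variable (e32 : ∀ {d a}, Adj Q D d a → Nat.card ↥(Q d ⊓ Q a) = 32)
include e32

theorem F_full (k : gΓ Q D z π p) (l : ((List.range 256).filter FM.testBit).length = 16)
    (r : ∀ c < 256, gF Q D z π p c → FM.testBit c = true) : ∀ c < 256, gF Q D z π p c ↔ FM.testBit c = true :=
  fun c hc => ⟨r c hc, fun m => by_contra fun n => by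
    obtain ⟨a, j, rfl⟩ := k
    have := S.fr.card_le (A := Q z ⊓ Q a) inf_le_left (L := ((List.range 256).filter FM.testBit).erase c) fun g hg => by
      have e : gF Q D z π (π a) (π g) := ⟨a, j, rfl, g, hg.1, hg.2, rfl⟩
      exact (List.mem_erase_of_ne fun l : π g = c => n (l ▸ e)).2
        (List.mem_filter.2 ⟨List.mem_range.2 (S.lt hg.1), r _ (S.lt hg.1) e⟩)
    rw [e32 j, List.length_erase_of_mem (List.mem_filter.2 ⟨List.mem_range.2 hc, m⟩), l] at this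
    omega⟩

theorem exF (k : gΓ Q D z π 1) : ∃ j < 30, ∀ c < 256, gF Q D z π 1 c ↔ (fld 256 FJ j).testBit c = true := by
  obtain ⟨d1, d2, d3, d4⟩ := fj_dec
  suffices ∃ j < 30, ∀ c ∈ WS, gF Q D z π 1 c → (fld 256 FJ j).testBit c = true by
    obtain ⟨j, hj, l⟩ := this
    obtain ⟨-, -, -, -, -, s1, s2⟩ := sj_dec j hj
    refine ⟨j, hj, S.F_full e32 k s1 fun c hc r => ?_⟩
    rcases d1 c hc (S.F_q8 r) (S.F_b8 r (S.F_self k)) with rfl | rfl | m | m
    · exact d2 j hj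
    · exact (s2 0 (by decide)).trans (d2 j hj)
    · exact l c m r
    · obtain ⟨a, j, e⟩ := k
      obtain ⟨_, _, _, y, h1, _, rfl⟩ := id r
      rw [← s2 _ hc]
      exact l _ m ⟨a, j, e, y * a, mul_mem h1 j.aQ, mul_mem ((S.F_norm j h1).1 (e ▸ r)) (S.sys.mem j.aD),
        by rw [S.co.mul _ h1 _ j.aQ, e]⟩
  by_cases n : ∃ c ∈ WS, gF Q D z π 1 c
  swap
  · exact ⟨0, by decide, fun c m r => (n ⟨c, m, r⟩).elim⟩
  obtain ⟨c, hc, r⟩ := n
  by_cases n : ∃ d ∈ WS, gF Q D z π 1 d ∧ c ≠ d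
  swap
  · obtain ⟨j, hj, l⟩ := (d3 c hc).2
    exact ⟨j, hj, fun d m r => by_contra fun k => n ⟨d, m, r, fun e => k (e ▸ l)⟩⟩
  obtain ⟨d, hd, r', n⟩ := n
  obtain ⟨i, hi, -, -, j, hj, -, -, -, l⟩ := d4 c hc d hd (S.F_b8 r r') n
  by_cases n : ∀ e ∈ WS, gF Q D z π 1 e → (fld 256 FJ j).testBit e = true
  · exact ⟨j, hj, n⟩
  push Not at n
  obtain ⟨e, he, r1, n⟩ := n
  exact ⟨i, hi, fun e' he' r2 => (l e' he' (S.F_b8 r2 r) (S.F_b8 r2 r')).1.elim id fun m =>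
    (l e he (S.F_b8 r1 r) (S.F_b8 r1 r')).2.resolve_left n e' he' m (S.F_b8 r1 r2)⟩

theorem shape1 (k : gΓ Q D z π 1) : ∃ j < 30, ∃ τ < 2, ∃ φ < 8, ∃ φ' < 8, ∃ φ'' < 8,
    Ok Q D z π ⟨1, 16, fld 256 FJ j, gj j τ 0 φ, gj j τ 1 φ', gj j τ 2 φ''⟩ := by
  obtain ⟨j, hj, l⟩ := S.exF e32 k
  obtain ⟨s1, s2, s3, s4, s5, -⟩ := sj_dec j hj
  have S' := S.chg s1
  have T := S.tr_chg S' fun _ _ => rfl
  have vv : ∀ c < 256, vm 8 (vm 8 c (fld 64 SJ j)) (fld 64 SJ j) = c := fun c hc => by rw [← vm_mm p8, s2, vm_mo p8 hc]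
  obtain ⟨τ, h1, φ, h2, φ1, h3, φ2, h4, r⟩ := S'.shape (s3 ▸ T.Γ k) (s3 ▸ T.Fiff (by decide) l s5)
  have e : ∀ g, mm 8 g (fld 64 SJ j) = mm 8 (fld 64 SJ j) (mm 8 (fld 64 SJ j) (mm 8 g (fld 64 SJ j))) := fun g => by
    rw [← mm_assoc p8, s2, mo_mm p8 (mm_lt p8 _ _)]
  refine ⟨j, hj, τ, h1, φ, h2, φ1, h3, φ2, h4, S'.mv' (S'.tr_chg S fun e he => (vv _ (S.lt he)).symm) r s4
    (fun c hc => by rw [← s5 _ (vm_lt 8 _ _), vv c hc]) (by decide : 16 < 256) (by decide +kernel : b8 16 1 = 1) fun i hi => ⟨_, r.A i, ?_⟩⟩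
  interval_cases i <;> exact e _

theorem c2 (k : Ok Q D z π f) (k' : Ok Q D z π f') (v : f.cov = true) (v' : f'.cov = true) (w : gN Q z π W)
    (h1 : f'.F.testBit (vm 8 f.p W) = true) (h2 : vm 8 f.p W ≠ f'.p) {LA LF : List ℕ}
    (hA : ∀ s < 8, ∀ s' < 8, mm 8 (f.el s) W = mm 8 W (f'.el s') → s' ∈ LA)
    (hF : ∀ c < 256, f.F.testBit c = true → f'.F.testBit (vm 8 c W) = true → vm 8 c W ∈ LF) :
    16 ≤ LA.length * LF.length := by
  obtain ⟨a, j, e⟩ := k'.Γ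
  obtain ⟨a', j', e'⟩ := S.Γ_act k.Γ w
  have pl := (S.Γ_lt k.Γ).1
  have J : Adj Q D a a' := ⟨j.aD, j'.aD, (S.F_norm j j'.aQ).1 (by rw [e, e', k'.F _ (vm_lt 8 _ _)]; exact h1),
    fun l => h2 (by rw [← e', l, e])⟩
  obtain ⟨N, -, n1, n2, n3⟩ := S.N_inv w
  have c1 := card_le_rel (A := Q a ⊓ Q a') (Z := Q z) (r := fun y s => 𝐀 y (f'.el s)) (fun _ _ _ _ _ => S.div) (L := LA)
    fun y hy => by
      obtain ⟨M, -, l⟩ := S.ex_ac (S.sys.E_comm J hy.1 hy.2 (S.sys.symm j).aQ (S.sys.symm j').aQ)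
      obtain ⟨s', hs', r'⟩ := S.full k' v' ⟨a, j, e, y, hy.1, l⟩
      have := S.A_act ⟨a', j', e', y, hy.2, l⟩ n1 (X' := mm 8 (mm 8 W M) N) fun c hc => by
        rw [vm_mm p8, vm_mm p8, n3 c hc]
      rw [n2 _ pl] at this
      obtain ⟨s, hs, r⟩ := S.full k v this
      refine ⟨s', hA s hs s' hs' (mat_ext p8 (mm_lt p8 _ _) (mm_lt p8 _ _) fun c hc => ?_), S.co.congr l r'⟩
      rw [vm_mm p8, vm_mm p8, ← r c hc, vm_mm p8, vm_mm p8, n3 _ (vm_lt 8 _ _), r' _ (vm_lt 8 _ _)]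
  have c2 := S.fr.card_le (A := Q a ⊓ Q a' ⊓ Q z) inf_le_right (L := LF) fun y hy => by
    obtain ⟨c, hc, l, r⟩ := (S.tr_act w).F' pl ⟨a', j', e', y, hy.2, hy.1.2, rfl⟩
    exact r ▸ hF c hc ((k.F c hc).1 l) (r ▸ (k'.F _ (S.lt hy.2)).1 ⟨a, j, e, y, hy.2, hy.1.1, rfl⟩)
  have := c1.trans (Nat.mul_le_mul_left _ c2)
  rw [e32 J, ← mul_assoc] at this
  omega

end St

end CF.W4
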