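import Cfsg.Agent.Comp.MatG
import Cfsg.Agent.Comp.Pres

/-! A presentation and a model of the orthogonal group of minus type. -/

set_option autoImplicit false
set_option maxRecDepth 1000000
set_option maxHeartbeats 0
set_option Elab.async false

namespace CF.W4.Od

open CF.Comp

/-- the relators -/
def RO : List (List Nat) := [[1, 1], [5, 5], [7, 7], [9, 9], [11, 11], [13, 13], [3, 3, 3], [1, 3, 1, 3, 1, 3], [5, 3, 5, 3], [1, 5, 1, 5, 1, 5], [7, 5, 7, 5, 7, 5, 7, 5], [7, 9, 7, 9, 7, 9], [9, 3, 9, 4], [9, 1, 9, 7, 1, 7, 1, 5, 7, 5], [5, 9, 5, 9, 5, 9, 5, 9], [11, 3, 11, 4], [11, 1, 11, 1], [11, 5, 11, 5], [9, 11, 9, 7, 11, 7, 11], [13, 3, 13, 4], [13, 1, 13, 1], [13, 5, 13, 5], [13, 7, 13, 7, 11, 7, 11], [13, 9, 13, 9, 13, 9], [1, 7, 3, 1, 4, 7, 1, 7, 3, 1, 4, 7, 5, 7, 5]]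

/-- the relators in the first generators -/
def RK (k : Nat) : List (List Nat) := RO.filter fun r => r.all fun x => Nat.ble x (2 * k)

noncomputable def e2_c0 : BT (Bx Nat) := (BT.leaf (Bx.mk (nat_lit 0x0)))
noncomputable def e2_c1 : BT (Bx Nat) := (BT.leaf (Bx.mk (nat_lit 0x14b57951aa2d44a8786b0ce18c2f50709000)))
noncomputable def e2_c2 : BT (Bx Nat) := (BT.leaf (Bx.mk (nat_lit 0x379ace9ae4461c6d558a3b5618e985709800)))
noncomputable def e2_c3 : BT (Bx Nat) := (BT.leaf (Bx.mk (nat_lit 0x55875525d2e359c36d56a9353aa385b0a000)))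
noncomputable def e2_p : BT (Bx Nat) := (BT.leaf (Bx.mk (nat_lit 0xe02dc3d81d419018c1883882443442441000000)))
noncomputable def e2_e : BT Nat := BT.leaf (nat_lit 0)
noncomputable def e2_cols : List (BT (Bx Nat)) := [e2_c0, e2_c1, e2_c2, e2_c3]
noncomputable def e2_ch (x j : Nat) : Bx Nat := chunkG e2_cols (nat_lit 1) x j
noncomputable def e2_L (x : Nat) : Bx (Nat → Nat) := lookG e2_ch (nat_lit 8) (nat_lit 255) (nat_lit 11) (nat_lit 2047) x
noncomputable def e2_pc (_ j : Nat) : Bx Nat := e2_p.get j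
noncomputable def e2_pb : Bx (Nat → Nat) := lookG e2_pc (nat_lit 8) (nat_lit 255) (nat_lit 12) (nat_lit 4095) (nat_lit 0)
noncomputable def e2_rots : BT CW := (BT.node (nat_lit 5) (BT.node (nat_lit 2) (BT.node (nat_lit 1) (BT.leaf ⟨[], (nat_lit 1000000), (nat_lit 0), (nat_lit 0), (nat_lit 0)⟩) (BT.leaf ⟨[], (nat_lit 1000000), (nat_lit 0), (nat_lit 0), (nat_lit 1)⟩)) (BT.node (nat_lit 3) (BT.leaf ⟨[], (nat_lit 1000000), (nat_lit 0), (nat_lit 0), (nat_lit 2)⟩) (BT.node (nat_lit 4) (BT.leaf ⟨[(nat_lit 1), (nat_lit 1)], (nat_lit 0), (nat_lit 0), (nat_lit 0), (nat_lit 3)⟩) (BT.leaf ⟨[(nat_lit 3), (nat_lit 2)], (nat_lit 3), (nat_lit 1), (nat_lit 0), (nat_lit 3)⟩)))) (BT.node (nat_lit 8) (BT.node (nat_lit 6) (BT.leaf ⟨[(nat_lit 2), (nat_lit 3)], (nat_lit 3), (nat_lit 0), (nat_lit 0), (nat_lit 3)⟩) (BT.node (nat_lit 7) (BT.leaf ⟨[(nat_lit 2), (nat_lit 2), (nat_lit 2)], (nat_lit 1), (nat_lit 0), (nat_lit 0), (nat_lit 3)⟩)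 (BT.leaf ⟨[(nat_lit 2), (nat_lit 1), (nat_lit 2), (nat_lit 1), (nat_lit 2), (nat_lit 1)], (nat_lit 2), (nat_lit 1), (nat_lit 0), (nat_lit 3)⟩))) (BT.node (nat_lit 9) (BT.leaf ⟨[(nat_lit 3), (nat_lit 1), (nat_lit 3), (nat_lit 1), (nat_lit 3), (nat_lit 1)], (nat_lit 7), (nat_lit 0), (nat_lit 0), (nat_lit 3)⟩) (BT.node (nat_lit 10) (BT.leaf ⟨[(nat_lit 3), (nat_lit 3), (nat_lit 3)], (nat_lit 6), (nat_lit 0), (nat_lit 0), (nat_lit 3)⟩) (BT.leaf ⟨[(nat_lit 1), (nat_lit 3), (nat_lit 1), (nat_lit 3), (nat_lit 1), (nat_lit 3)], (nat_lit 7), (nat_lit 1), (nat_lit 0), (nat_lit 3)⟩)))))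
noncomputable def e2_hcs : List CW := []
noncomputable def e2_H (x j : Nat) : Bx (Nat → Nat → Nat) := mkH e2_L e2_pb.1 e2_e.get (lmap CW.w e2_hcs) (nat_lit 12) (nat_lit 13) (nat_lit 4) (nat_lit 16) (nat_lit 256) (nat_lit 1023) x (e2_rots.get j)
noncomputable def e2_F (x b : Nat) : Bool := blkOK e2_H e2_ch (nat_lit 13) (nat_lit 16) (nat_lit 16) (nat_lit 8) (nat_lit 255) (nat_lit 11) (nat_lit 2047) x b

theorem e2_k0_0 : allFrom (e2_F (nat_lit 0)) (nat_lit 0) (nat_lit 4) = true := by decide +kernel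
theorem e2_k1_0 : allFrom (e2_F (nat_lit 1)) (nat_lit 0) (nat_lit 4) = true := by decide +kernel
theorem e2_k2_0 : allFrom (e2_F (nat_lit 2)) (nat_lit 0) (nat_lit 4) = true := by decide +kernel
theorem e2_k3_0 : allFrom (e2_F (nat_lit 3)) (nat_lit 0) (nat_lit 4) = true := by decide +kernel

noncomputable def e3_c0 : BT (Bx Nat) := (BT.leaf (Bx.mk (nat_lit 0x0)))
noncomputable def e3_c1 : BT (Bx Nat) := (BT.leaf (Bx.mk (nat_lit 0x2b1658aa8ba6400)))
noncomputable def e3_c2 : BT (Bx Nat) := (BT.leaf (Bx.mk (nat_lit 0x8edc5a31caa6400)))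
noncomputable def e3_c3 : BT (Bx Nat) := (BT.leaf (Bx.mk (nat_lit 0x4d233a35328c400)))
noncomputable def e3_c4 : BT (Bx Nat) := (BT.leaf (Bx.mk (nat_lit 0x2915d74e21a2800)))
noncomputable def e3_p : BT (Bx Nat) := (BT.leaf (Bx.mk (nat_lit 0x361ec290291000000)))
noncomputable def e3_e0 : BT Nat := (BT.node (nat_lit 66) (BT.leaf (nat_lit 262146)) (BT.leaf (nat_lit 2)))
noncomputable def e3_e : BT Nat := e3_e0
noncomputable def e3_cols : List (BT (Bx Nat)) := [e3_c0, e3_c1, e3_c2, e3_c3, e3_c4]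
noncomputable def e3_ch (x j : Nat) : Bx Nat := chunkG e3_cols (nat_lit 1) x j
noncomputable def e3_L (x : Nat) : Bx (Nat → Nat) := lookG e3_ch (nat_lit 8) (nat_lit 255) (nat_lit 10) (nat_lit 1023) x
noncomputable def e3_pc (_ j : Nat) : Bx Nat := e3_p.get j
noncomputable def e3_pb : Bx (Nat → Nat) := lookG e3_pc (nat_lit 8) (nat_lit 255) (nat_lit 11) (nat_lit 2047) (nat_lit 0)
noncomputable def e3_rots : BT CW := (BT.node (nat_lit 6) (BT.node (nat_lit 3) (BT.node (nat_lit 1) (BT.leaf ⟨[], (nat_lit 1000000), (nat_lit 0), (nat_lit 0), (nat_lit 0)⟩) (BT.node (nat_lit 2) (BT.leaf ⟨[], (nat_lit 1000000), (nat_lit 0), (nat_lit 0), (nat_lit 1)⟩) (BT.leaf ⟨[], (nat_lit 1000000), (nat_lit 0), (nat_lit 0), (nat_lit 2)⟩))) (BT.node (nat_lit 4) (BT.leaf ⟨[(nat_lit 4), (nat_lit 4)], (nat_lit 1), (nat_lit 0), (nat_lit 0), (nat_lit 3)⟩) (BT.node (nat_lit 5) (BT.leaf ⟨[(nat_lit 1), (nat_lit 1)], (nat_lit 0), (nat_lit 0), (nat_lit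 0), (nat_lit 3)⟩) (BT.leaf ⟨[(nat_lit 3), (nat_lit 2)], (nat_lit 7), (nat_lit 1), (nat_lit 0), (nat_lit 3)⟩)))) (BT.node (nat_lit 9) (BT.node (nat_lit 7) (BT.leaf ⟨[(nat_lit 2), (nat_lit 3)], (nat_lit 7), (nat_lit 0), (nat_lit 0), (nat_lit 3)⟩) (BT.node (nat_lit 8) (BT.leaf ⟨[(nat_lit 2), (nat_lit 2), (nat_lit 2)], (nat_lit 2), (nat_lit 0), (nat_lit 0), (nat_lit 3)⟩) (BT.leaf ⟨[(nat_lit 2), (nat_lit 4), (nat_lit 2), (nat_lit 4)], (nat_lit 4), (nat_lit 1), (nat_lit 0), (nat_lit 3)⟩))) (BT.node (nat_lit 10) (BT.leaf ⟨[(nat_lit 4), (nat_lit 1), (nat_lit 4), (nat_lit 1), (nat_lit 4), (nat_lit 1)], (nat_lit 5), (nat_lit 1), (nat_lit 0), (nat_lit 3)⟩) (BT.node (nat_lit 11) (BT.leaf ⟨[(nat_lit 4), (nat_lit 2), (nat_lit 4), (nat_lit 2)], (nat_lit 4), (nat_lit 0), (nat_lit 0), (nat_lit 3)⟩) (BT.leaf ⟨[(nat_lit 1), (nat_lit 2), (nat_lit 1), (nat_lit 2), (nat_lit 1), (nat_lit 2)], (nat_lit 3), (nat_lit 0), (nat_lit 0), (nat_lit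 3)⟩)))))
noncomputable def e3_hcs : List CW := [⟨[(nat_lit 2)], (nat_lit 0), (nat_lit 0), (nat_lit 0), (nat_lit 0)⟩, ⟨[(nat_lit 1)], (nat_lit 1), (nat_lit 0), (nat_lit 0), (nat_lit 0)⟩, ⟨[(nat_lit 3)], (nat_lit 2), (nat_lit 0), (nat_lit 0), (nat_lit 0)⟩, ⟨[(nat_lit 1)], (nat_lit 3), (nat_lit 0), (nat_lit 0), (nat_lit 0)⟩]
noncomputable def e3_H (x j : Nat) : Bx (Nat → Nat → Nat) := mkH e3_L e3_pb.1 e3_e.get (lmap CW.w e3_hcs) (nat_lit 5) (nat_lit 6) (nat_lit 5) (nat_lit 8) (nat_lit 128) (nat_lit 511) x (e3_rots.get j)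
noncomputable def e3_F (x b : Nat) : Bool := blkOK e3_H e3_ch (nat_lit 6) (nat_lit 8) (nat_lit 16) (nat_lit 8) (nat_lit 255) (nat_lit 10) (nat_lit 1023) x b

theorem e3_k0_0 : allFrom (e3_F (nat_lit 0)) (nat_lit 0) (nat_lit 4) = true := by decide +kernel
theorem e3_k1_0 : allFrom (e3_F (nat_lit 1)) (nat_lit 0) (nat_lit 4) = true := by decide +kernel
theorem e3_k2_0 : allFrom (e3_F (nat_lit 2)) (nat_lit 0) (nat_lit 4) = true := by decide +kernel
theorem e3_k3_0 : allFrom (e3_F (nat_lit 3)) (nat_lit 0) (nat_lit 4) = true := by decide +kernel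
theorem e3_k4_0 : allFrom (e3_F (nat_lit 4)) (nat_lit 0) (nat_lit 4) = true := by decide +kernel

noncomputable def e4_c0 : BT (Bx Nat) := (BT.leaf (Bx.mk (nat_lit 0x150f8b14d65c3d8b876930c72a1c53437068640fb10981904eb24b554dc0ef51181743670877610edc01b8843ae6063e10dcc21b86e864406e5e0d9281d17e466606e600dcc21b880320686e010c58218d483a41863430c60218c04320706e4a0d91218b203644863c90dc96190283729064440c48e1a18c3431868270c0bc18b74317106427713441b388364c866c20c71418c8834310681a0d0cc1aa2431a1063e20c4041890830e5061cb0d0a21989de322861500cd0c19ba1d2b2061e60c13a188703111862c30c5141898c30f2061440c2c81861030c0000050cb80000103061061020c24a184943061860830c1000000000000000000000000000000000000000000000000000000000000000000000000000000000)))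
noncomputable def e4_c1 : BT (Bx Nat) := (BT.leaf (Bx.mk (nat_lit 0x568510000000002b427568480000000002b422000000000000000000000000a197c0000000000000000000d8710000000000ad0655a0b40000000000000000000000000000ac51e00002c0780000000001603b400000000000000000000000580ec0000000001d9ae580e90000000000000056824ad0473a18e969ed80e6b01ca00002b410d6820b01c360380000000000b01bb6036c0000000000000000002c06d5681a00001432a000004e82a000013069ab409d80c0b017f58a22c05cd80b80000000000000000000ac50b602b2b409580a9ad02200002c053d6284b014b60266c04bd8157b02a758a2ac0a5d6289b02636023ac04658122b023f60476c08dd8114ac5056020ec0c080000)))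
noncomputable def e4_c2 : BT (Bx Nat) := (BT.leaf (Bx.mk (nat_lit 0x5665a0000000000000000000acc9c000000000000000000000000000000000acc7f4199ea4a000000a58c000000000054939000000000200f380000803800000000000000000001603c8000000000000000000000000000000001603b8000000000000000000000005640c00001603ac0000000000000000000000000000000014b6e00000566220000000002c071800000000000000000000000ac817498cc00005640a00001590269317000009cc694b06c000056617000016030800005640800001602eeb203d2621b016c00000000054a13a923200002c055000000000000000000000000a4c3d5900a930958158b02a96053ec0a658147b0265604bec096d8123b02415900ea24358115b010b60446c0c080000)))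
noncomputable def e4_c3 : BT (Bx Nat) := (BT.leaf (Bx.mk (nat_lit 0x525ec0000000000000000000000015a738000054adaad38c00000000000000a4bcd52afc0000000000000000002a55c509e3000000000200df8000000001603d2a2ec5639000001603cc000000000000000000000000000000001603bc00000000000000000000000545c7ac718000000000000000000000000000000000b01cf39784000000000ad3440000294f0509be0000000000000050b2ba8b6558e2c000000000ac715516b6b1c480000000015a66400005259d000016030c000000000ac711602f2a2d056387b016f52c4ea54b80000a13540000294cd80000b015000002b1c200000a533951646b1c158159b02ab60542c0a6d8148b0267604c2c09758124b024348e16b1c1d8116b010d6044ab1c080000)))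
noncomputable def e4_c4 : BT (Bx Nat) := (BT.leaf (Bx.mk (nat_lit 0x84fdd09bbc000054bd380ee501dcc0000000000000159d140000567410000000000000000000000000000213ac00000ace6a000000000580f5000000000243dc447e1000011cb3aa3d7d46b0a4ee000002b187000000000111d5aa3d6d46ae00000000000000000000000000002c075000009a177340f2c074000000000129442b391000000000000002c072467590000000002c06fd671ba8f4151a84000052754a4eab49d3293a680000ace332866c000000000000013068aa5ca0000000001602f69399527330000000000000000000b016800002c055800000000151e46a34952725ac60749c56938b48fbeac61560546b184d8149ac60f6023ec046d4508b01176047ac08e56302b022760212c0c080000)))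
noncomputable def e4_c5 : BT (Bx Nat) := (BT.leaf (Bx.mk (nat_lit 0x1c9f5000000000000002b46980000000000000000000000000000da3d6a8b380000a51d200000000000000000000000000000000000000000000000568b20000000000000000000000015883c000000000b01e20000000000000000001588340000000000000000000000000000000015a2b2b455568a80000000002b45280000000015a28800000000000000000000000580e20000000002b44d80000b01bd6037000000000000000000000000580c600001603140000580c4000015a24ec0608000000001602fac05d000000000000000000000000b016b5a2480000000000000000000000000000b014d6026ac04c5620bb02ad6054ac0a75814ab01215881ab102d6204ac4076022ac044d8088b010f58806c04100000)))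
noncomputable def e4_p : BT (Bx Nat) := (BT.leaf (Bx.mk (nat_lit 0xf704f683f583f582f4c5f441f383f382f381f201d182d144d101d044cfc3cf01cec1ce44ce42ce05cdc1cd81cd44ccc5ccc1cc85cc81cb41c403c402c401c3c5c3c3c3c2c3c1c385c384c383c382c345c343c342c341c305c304c303c302ab05aa85aa05a983a982a945a901a8c1a885a884a883a882a845a841a801a7c3a7c2a6c5a6c4a2c3a2c2a2c1a283a282a243a242868186448642860185c3854184c584c182038202820181c381c281c18184818181448141648564816445644161036102610160c440834082a2c5a284a281a244a24181c481858145610560c560c360c240844081204500000000)))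
noncomputable def e4_e0 : BT Nat := (BT.node (nat_lit 4160) (BT.node (nat_lit 2436) (BT.node (nat_lit 1792) (BT.node (nat_lit 1280) (BT.node (nat_lit 1088) (BT.node (nat_lit 66) (BT.leaf (nat_lit 524290)) (BT.node (nat_lit 68) (BT.leaf (nat_lit 262146)) (BT.leaf (nat_lit 2)))) (BT.node (nat_lit 1152) (BT.leaf (nat_lit 5893)) (BT.node (nat_lit 1216) (BT.leaf (nat_lit 6405)) (BT.leaf (nat_lit 9477))))) (BT.node (nat_lit 1472) (BT.node (nat_lit 1344) (BT.leaf (nat_lit 9489)) (BT.node (nat_lit 1408) (BT.leaf (nat_lit 4625)) (BT.leaf (nat_lit 4369)))) (BT.node (nat_lit 1600) (BT.leaf (nat_lit 10765)) (BT.node (nat_lit 1728) (BT.leaf (nat_lit 10249)) (BT.leaf (nat_lit 10761)))))) (BT.node (nat_lit 2176) (BT.node (nat_lit 1984) (BT.node (nat_lit 1856) (BT.leaf (nat_lit 4877)) (BT.node (nat_lit 1920) (BT.leaf (nat_lit 10253)) (BT.leaf (nat_lit 4873)))) (BT.node (nat_lit 2048) (BT.leaf (nat_lit 9733)) (BT.node (nat_lit 2112)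 (BT.leaf (nat_lit 11533)) (BT.leaf (nat_lit 6933))))) (BT.node (nat_lit 2368) (BT.node (nat_lit 2240) (BT.leaf (nat_lit 9745)) (BT.node (nat_lit 2304) (BT.leaf (nat_lit 16133)) (BT.leaf (nat_lit 16389)))) (BT.node (nat_lit 2432) (BT.leaf (nat_lit 16661)) (BT.node (nat_lit 2433) (BT.leaf (nat_lit 4885)) (BT.leaf (nat_lit 244))))))) (BT.node (nat_lit 3264) (BT.node (nat_lit 2880) (BT.node (nat_lit 2688) (BT.node (nat_lit 2560) (BT.leaf (nat_lit 244)) (BT.node (nat_lit 2624) (BT.leaf (nat_lit 17429)) (BT.leaf (nat_lit 11269)))) (BT.node (nat_lit 2692) (BT.leaf (nat_lit 10245)) (BT.node (nat_lit 2816) (BT.leaf (nat_lit 208)) (BT.leaf (nat_lit 17941))))) (BT.node (nat_lit 3072) (BT.node (nat_lit 2944) (BT.leaf (nat_lit 23045)) (BT.node (nat_lit 3008) (BT.leaf (nat_lit 11529)) (BT.leaf (nat_lit 8457)))) (BT.node (nat_lit 3136) (BT.leaf (nat_lit 8461)) (BT.node (nat_lit 3200) (BT.leaf (nat_lit 8709)) (BT.leaf (nat_lit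 8465)))))) (BT.node (nat_lit 3648) (BT.node (nat_lit 3456) (BT.node (nat_lit 3328) (BT.leaf (nat_lit 8209)) (BT.node (nat_lit 3392) (BT.leaf (nat_lit 11017)) (BT.leaf (nat_lit 24337)))) (BT.node (nat_lit 3520) (BT.leaf (nat_lit 7945)) (BT.node (nat_lit 3584) (BT.leaf (nat_lit 7949)) (BT.leaf (nat_lit 18441))))) (BT.node (nat_lit 3840) (BT.node (nat_lit 3712) (BT.leaf (nat_lit 8453)) (BT.node (nat_lit 3776) (BT.leaf (nat_lit 13589)) (BT.leaf (nat_lit 17169)))) (BT.node (nat_lit 4032) (BT.node (nat_lit 3968) (BT.leaf (nat_lit 16913)) (BT.leaf (nat_lit 8725))) (BT.node (nat_lit 4096) (BT.leaf (nat_lit 23821)) (BT.leaf (nat_lit 23305)))))))) (BT.node (nat_lit 5760) (BT.node (nat_lit 4928) (BT.node (nat_lit 4544) (BT.node (nat_lit 4352) (BT.node (nat_lit 4224) (BT.leaf (nat_lit 26641)) (BT.node (nat_lit 4288) (BT.leaf (nat_lit 9737)) (BT.leaf (nat_lit 9741)))) (BT.node (nat_lit 4416) (BT.leaf (nat_lit 24069)) (BT.node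 (nat_lit 4480) (BT.leaf (nat_lit 10773)) (BT.leaf (nat_lit 27405))))) (BT.node (nat_lit 4736) (BT.node (nat_lit 4608) (BT.leaf (nat_lit 18445)) (BT.node (nat_lit 4672) (BT.leaf (nat_lit 27653)) (BT.leaf (nat_lit 14353)))) (BT.node (nat_lit 4800) (BT.leaf (nat_lit 14357)) (BT.node (nat_lit 4864) (BT.leaf (nat_lit 13061)) (BT.leaf (nat_lit 11793)))))) (BT.node (nat_lit 5312) (BT.node (nat_lit 5120) (BT.node (nat_lit 4992) (BT.leaf (nat_lit 11537)) (BT.node (nat_lit 5056) (BT.leaf (nat_lit 27909)) (BT.leaf (nat_lit 14601)))) (BT.node (nat_lit 5184) (BT.leaf (nat_lit 14605)) (BT.node (nat_lit 5248) (BT.leaf (nat_lit 17669)) (BT.leaf (nat_lit 17681))))) (BT.node (nat_lit 5504) (BT.node (nat_lit 5376) (BT.leaf (nat_lit 28949)) (BT.node (nat_lit 5440) (BT.leaf (nat_lit 12305)) (BT.leaf (nat_lit 12049)))) (BT.node (nat_lit 5632) (BT.node (nat_lit 5568) (BT.leaf (nat_lit 19985)) (BT.leaf (nat_lit 24589))) (BT.node (nat_lit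 5696) (BT.leaf (nat_lit 15881)) (BT.leaf (nat_lit 15885))))))) (BT.node (nat_lit 6400) (BT.node (nat_lit 6016) (BT.node (nat_lit 5952) (BT.node (nat_lit 5826) (BT.leaf (nat_lit 28433)) (BT.node (nat_lit 5888) (BT.leaf (nat_lit 404)) (BT.leaf (nat_lit 28677)))) (BT.node (nat_lit 5954) (BT.leaf (nat_lit 23301)) (BT.node (nat_lit 5955) (BT.leaf (nat_lit 408)) (BT.leaf (nat_lit 408))))) (BT.node (nat_lit 6208) (BT.node (nat_lit 6017) (BT.leaf (nat_lit 13077)) (BT.node (nat_lit 6144) (BT.leaf (nat_lit 420)) (BT.leaf (nat_lit 13829)))) (BT.node (nat_lit 6272) (BT.leaf (nat_lit 14085)) (BT.node (nat_lit 6336) (BT.leaf (nat_lit 22037)) (BT.leaf (nat_lit 15877)))))) (BT.node (nat_lit 7040) (BT.node (nat_lit 6592) (BT.node (nat_lit 6464) (BT.leaf (nat_lit 24849)) (BT.node (nat_lit 6528) (BT.leaf (nat_lit 15109)) (BT.leaf (nat_lit 15365)))) (BT.node (nat_lit 6720) (BT.leaf (nat_lit 23817)) (BT.node (nat_lit 6912) (BT.leaf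 (nat_lit 26389)) (BT.leaf (nat_lit 28177))))) (BT.node (nat_lit 7232) (BT.node (nat_lit 7104) (BT.leaf (nat_lit 19977)) (BT.node (nat_lit 7168) (BT.leaf (nat_lit 19981)) (BT.leaf (nat_lit 27153)))) (BT.node (nat_lit 7360) (BT.node (nat_lit 7296) (BT.leaf (nat_lit 23569)) (BT.leaf (nat_lit 29705))) (BT.node (nat_lit 7488) (BT.leaf (nat_lit 29709)) (BT.leaf (nat_lit 27157)))))))))
noncomputable def e4_e : BT Nat := e4_e0
noncomputable def e4_cols : List (BT (Bx Nat)) := [e4_c0, e4_c1, e4_c2, e4_c3, e4_c4, e4_c5]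
noncomputable def e4_ch (x j : Nat) : Bx Nat := chunkG e4_cols (nat_lit 1) x j
noncomputable def e4_L (x : Nat) : Bx (Nat → Nat) := lookG e4_ch (nat_lit 8) (nat_lit 255) (nat_lit 19) (nat_lit 524287) x
noncomputable def e4_pc (_ j : Nat) : Bx Nat := e4_p.get j
noncomputable def e4_pb : Bx (Nat → Nat) := lookG e4_pc (nat_lit 8) (nat_lit 255) (nat_lit 16) (nat_lit 65535) (nat_lit 0)
noncomputable def e4_rots : BT CW := (BT.node (nat_lit 22) (BT.node (nat_lit 11) (BT.node (nat_lit 5) (BT.node (nat_lit 2) (BT.node (nat_lit 1) (BT.leaf ⟨[], (nat_lit 1000000), (nat_lit 0), (nat_lit 0), (nat_lit 0)⟩) (BT.leaf ⟨[], (nat_lit 1000000), (nat_lit 0), (nat_lit 0), (nat_lit 1)⟩)) (BT.node (nat_lit 3) (BT.leaf ⟨[], (nat_lit 1000000), (nat_lit 0), (nat_lit 0), (nat_lit 2)⟩) (BT.node (nat_lit 4) (BT.leaf ⟨[(nat_lit 5), (nat_lit 5)], (nat_lit 2), (nat_lit 0), (nat_lit 0), (nat_lit 3)⟩) (BT.leaf ⟨[(nat_lit 1), (nat_lit 1)], (nat_lit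 0), (nat_lit 0), (nat_lit 0), (nat_lit 3)⟩)))) (BT.node (nat_lit 8) (BT.node (nat_lit 6) (BT.leaf ⟨[(nat_lit 4), (nat_lit 4)], (nat_lit 1), (nat_lit 0), (nat_lit 0), (nat_lit 3)⟩) (BT.node (nat_lit 7) (BT.leaf ⟨[(nat_lit 3), (nat_lit 2)], (nat_lit 11), (nat_lit 1), (nat_lit 0), (nat_lit 3)⟩) (BT.leaf ⟨[(nat_lit 2), (nat_lit 3)], (nat_lit 11), (nat_lit 0), (nat_lit 0), (nat_lit 3)⟩))) (BT.node (nat_lit 9) (BT.leaf ⟨[(nat_lit 2), (nat_lit 2), (nat_lit 2)], (nat_lit 3), (nat_lit 0), (nat_lit 0), (nat_lit 3)⟩) (BT.node (nat_lit 10) (BT.leaf ⟨[(nat_lit 4), (nat_lit 5), (nat_lit 4), (nat_lit 5), (nat_lit 4), (nat_lit 5), (nat_lit 4), (nat_lit 5)], (nat_lit 7), (nat_lit 1), (nat_lit 0), (nat_lit 3)⟩) (BT.leaf ⟨[(nat_lit 3), (nat_lit 3), (nat_lit 3)], (nat_lit 16), (nat_lit 0), (nat_lit 0), (nat_lit 4)⟩))))) (BT.node (nat_lit 16) (BT.node (nat_lit 13) (BT.node (nat_lit 12) (BT.leaf ⟨[(nat_lit 2), (nat_lit 3)], (nat_lit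 11), (nat_lit 0), (nat_lit 0), (nat_lit 4)⟩) (BT.leaf ⟨[(nat_lit 4), (nat_lit 2), (nat_lit 4), (nat_lit 2)], (nat_lit 5), (nat_lit 0), (nat_lit 0), (nat_lit 4)⟩)) (BT.node (nat_lit 14) (BT.leaf ⟨[(nat_lit 4), (nat_lit 4)], (nat_lit 1), (nat_lit 0), (nat_lit 0), (nat_lit 4)⟩) (BT.node (nat_lit 15) (BT.leaf ⟨[(nat_lit 4), (nat_lit 3), (nat_lit 4), (nat_lit 3)], (nat_lit 18), (nat_lit 1), (nat_lit 0), (nat_lit 4)⟩) (BT.leaf ⟨[(nat_lit 1), (nat_lit 1)], (nat_lit 0), (nat_lit 0), (nat_lit 0), (nat_lit 4)⟩)))) (BT.node (nat_lit 19) (BT.node (nat_lit 17) (BT.leaf ⟨[(nat_lit 5), (nat_lit 5)], (nat_lit 2), (nat_lit 0), (nat_lit 0), (nat_lit 4)⟩) (BT.node (nat_lit 18) (BT.leaf ⟨[(nat_lit 2), (nat_lit 1), (nat_lit 2), (nat_lit 1), (nat_lit 2), (nat_lit 1)], (nat_lit 4), (nat_lit 1), (nat_lit 0), (nat_lit 4)⟩) (BT.leaf ⟨[(nat_lit 3), (nat_lit 2)], (nat_lit 11), (nat_lit 1), (nat_lit 0), (nat_lit 4)⟩))) (BT.node (nat_lit 20)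 (BT.leaf ⟨[(nat_lit 2), (nat_lit 4), (nat_lit 2), (nat_lit 4)], (nat_lit 5), (nat_lit 1), (nat_lit 0), (nat_lit 4)⟩) (BT.node (nat_lit 21) (BT.leaf ⟨[(nat_lit 3), (nat_lit 1), (nat_lit 3), (nat_lit 1), (nat_lit 3), (nat_lit 1)], (nat_lit 17), (nat_lit 0), (nat_lit 0), (nat_lit 4)⟩) (BT.leaf ⟨[(nat_lit 3), (nat_lit 4), (nat_lit 3), (nat_lit 4)], (nat_lit 18), (nat_lit 0), (nat_lit 0), (nat_lit 4)⟩)))))) (BT.node (nat_lit 33) (BT.node (nat_lit 27) (BT.node (nat_lit 24) (BT.node (nat_lit 23) (BT.leaf ⟨[(nat_lit 4), (nat_lit 1), (nat_lit 4), (nat_lit 1), (nat_lit 4), (nat_lit 1)], (nat_lit 6), (nat_lit 1), (nat_lit 0), (nat_lit 4)⟩) (BT.leaf ⟨[(nat_lit 2), (nat_lit 2), (nat_lit 2)], (nat_lit 3), (nat_lit 0), (nat_lit 0), (nat_lit 4)⟩)) (BT.node (nat_lit 25) (BT.leaf ⟨[(nat_lit 1), (nat_lit 2), (nat_lit 1), (nat_lit 2), (nat_lit 1), (nat_lit 2)], (nat_lit 4), (nat_lit 0), (nat_lit 0), (nat_lit 4)⟩) (BT.node (nat_lit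 26) (BT.leaf ⟨[(nat_lit 1), (nat_lit 4), (nat_lit 1), (nat_lit 4), (nat_lit 1), (nat_lit 4)], (nat_lit 6), (nat_lit 0), (nat_lit 0), (nat_lit 4)⟩) (BT.leaf ⟨[(nat_lit 2), (nat_lit 1), (nat_lit 3), (nat_lit 5), (nat_lit 1), (nat_lit 5), (nat_lit 2), (nat_lit 1), (nat_lit 3), (nat_lit 5), (nat_lit 4), (nat_lit 5), (nat_lit 4), (nat_lit 1), (nat_lit 5)], (nat_lit 8), (nat_lit 2), (nat_lit 0), (nat_lit 4)⟩)))) (BT.node (nat_lit 30) (BT.node (nat_lit 28) (BT.leaf ⟨[(nat_lit 0), (nat_lit 5), (nat_lit 4), (nat_lit 1), (nat_lit 5), (nat_lit 2), (nat_lit 1), (nat_lit 3), (nat_lit 5), (nat_lit 1), (nat_lit 5), (nat_lit 2), (nat_lit 1), (nat_lit 3), (nat_lit 5), (nat_lit 4)], (nat_lit 8), (nat_lit 13), (nat_lit 1), (nat_lit 4)⟩) (BT.node (nat_lit 29) (BT.leaf ⟨[(nat_lit 0), (nat_lit 3), (nat_lit 5), (nat_lit 1), (nat_lit 5), (nat_lit 2), (nat_lit 1), (nat_lit 3), (nat_lit 5), (nat_lit 1), (nat_lit 4), (nat_lit 5), (nat_lit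 4), (nat_lit 5), (nat_lit 2), (nat_lit 1)], (nat_lit 21), (nat_lit 6), (nat_lit 1), (nat_lit 4)⟩) (BT.leaf ⟨[(nat_lit 0), (nat_lit 1), (nat_lit 4), (nat_lit 1), (nat_lit 4), (nat_lit 1), (nat_lit 4)], (nat_lit 6), (nat_lit 0), (nat_lit 1), (nat_lit 5)⟩))) (BT.node (nat_lit 31) (BT.leaf ⟨[(nat_lit 4), (nat_lit 4)], (nat_lit 1), (nat_lit 0), (nat_lit 0), (nat_lit 5)⟩) (BT.node (nat_lit 32) (BT.leaf ⟨[(nat_lit 4), (nat_lit 2), (nat_lit 4), (nat_lit 2)], (nat_lit 5), (nat_lit 0), (nat_lit 0), (nat_lit 5)⟩) (BT.leaf ⟨[(nat_lit 4), (nat_lit 3), (nat_lit 4), (nat_lit 3)], (nat_lit 18), (nat_lit 1), (nat_lit 0), (nat_lit 5)⟩))))) (BT.node (nat_lit 38) (BT.node (nat_lit 35) (BT.node (nat_lit 34) (BT.leaf ⟨[(nat_lit 5), (nat_lit 2), (nat_lit 1), (nat_lit 3), (nat_lit 5), (nat_lit 4), (nat_lit 5), (nat_lit 4), (nat_lit 1), (nat_lit 5), (nat_lit 2), (nat_lit 1), (nat_lit 3), (nat_lit 5), (nat_lit 1)], (nat_lit 8), (nat_lit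 7), (nat_lit 0), (nat_lit 4)⟩) (BT.leaf ⟨[(nat_lit 0), (nat_lit 5), (nat_lit 2), (nat_lit 1), (nat_lit 3), (nat_lit 5), (nat_lit 1), (nat_lit 5), (nat_lit 2), (nat_lit 1), (nat_lit 3), (nat_lit 5), (nat_lit 1), (nat_lit 4), (nat_lit 5), (nat_lit 4)], (nat_lit 21), (nat_lit 3), (nat_lit 1), (nat_lit 3)⟩)) (BT.node (nat_lit 36) (BT.leaf ⟨[(nat_lit 0), (nat_lit 4), (nat_lit 1), (nat_lit 4), (nat_lit 1), (nat_lit 4), (nat_lit 1)], (nat_lit 6), (nat_lit 1), (nat_lit 1), (nat_lit 5)⟩) (BT.node (nat_lit 37) (BT.leaf ⟨[(nat_lit 4), (nat_lit 5), (nat_lit 4), (nat_lit 5), (nat_lit 4), (nat_lit 5), (nat_lit 4), (nat_lit 5)], (nat_lit 7), (nat_lit 1), (nat_lit 0), (nat_lit 5)⟩) (BT.leaf ⟨[(nat_lit 1), (nat_lit 5), (nat_lit 2), (nat_lit 1), (nat_lit 3), (nat_lit 5), (nat_lit 4), (nat_lit 5), (nat_lit 4), (nat_lit 1), (nat_lit 5), (nat_lit 2), (nat_lit 1), (nat_lit 3), (nat_lit 5)], (nat_lit 8), (nat_lit 6), (nat_lit 0), (nat_lit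 5)⟩)))) (BT.node (nat_lit 41) (BT.node (nat_lit 39) (BT.leaf ⟨[(nat_lit 5), (nat_lit 4), (nat_lit 1), (nat_lit 5), (nat_lit 2), (nat_lit 1), (nat_lit 3), (nat_lit 5), (nat_lit 1), (nat_lit 5), (nat_lit 2), (nat_lit 1), (nat_lit 3), (nat_lit 5), (nat_lit 4)], (nat_lit 8), (nat_lit 13), (nat_lit 0), (nat_lit 5)⟩) (BT.node (nat_lit 40) (BT.leaf ⟨[(nat_lit 0), (nat_lit 5), (nat_lit 4), (nat_lit 5), (nat_lit 4), (nat_lit 5), (nat_lit 4), (nat_lit 5), (nat_lit 4)], (nat_lit 7), (nat_lit 0), (nat_lit 1), (nat_lit 4)⟩) (BT.leaf ⟨[(nat_lit 0), (nat_lit 5), (nat_lit 4), (nat_lit 5), (nat_lit 4), (nat_lit 1), (nat_lit 5), (nat_lit 2), (nat_lit 1), (nat_lit 3), (nat_lit 5), (nat_lit 1), (nat_lit 5), (nat_lit 2), (nat_lit 1), (nat_lit 3)], (nat_lit 8), (nat_lit 11), (nat_lit 1), (nat_lit 5)⟩))) (BT.node (nat_lit 42) (BT.leaf ⟨[(nat_lit 0), (nat_lit 1), (nat_lit 5), (nat_lit 2), (nat_lit 1), (nat_lit 3), (nat_lit 5), (nat_lit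 1), (nat_lit 5), (nat_lit 2), (nat_lit 1), (nat_lit 3), (nat_lit 5), (nat_lit 4), (nat_lit 5), (nat_lit 4)], (nat_lit 8), (nat_lit 0), (nat_lit 1), (nat_lit 5)⟩) (BT.node (nat_lit 43) (BT.leaf ⟨[(nat_lit 0), (nat_lit 1), (nat_lit 3), (nat_lit 5), (nat_lit 4), (nat_lit 5), (nat_lit 4), (nat_lit 1), (nat_lit 5), (nat_lit 2), (nat_lit 1), (nat_lit 3), (nat_lit 5), (nat_lit 1), (nat_lit 5), (nat_lit 2)], (nat_lit 8), (nat_lit 9), (nat_lit 1), (nat_lit 5)⟩) (BT.leaf ⟨[(nat_lit 0), (nat_lit 5), (nat_lit 2), (nat_lit 1), (nat_lit 3), (nat_lit 5), (nat_lit 1), (nat_lit 5), (nat_lit 2), (nat_lit 1), (nat_lit 3), (nat_lit 5), (nat_lit 4), (nat_lit 5), (nat_lit 4), (nat_lit 1)], (nat_lit 8), (nat_lit 1), (nat_lit 1), (nat_lit 5)⟩)))))))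
noncomputable def e4_hcs : List CW := [⟨[(nat_lit 4)], (nat_lit 0), (nat_lit 0), (nat_lit 0), (nat_lit 0)⟩, ⟨[(nat_lit 2)], (nat_lit 1), (nat_lit 0), (nat_lit 0), (nat_lit 0)⟩, ⟨[(nat_lit 1)], (nat_lit 2), (nat_lit 0), (nat_lit 0), (nat_lit 0)⟩, ⟨[(nat_lit 4)], (nat_lit 3), (nat_lit 0), (nat_lit 0), (nat_lit 0)⟩, ⟨[(nat_lit 3)], (nat_lit 4), (nat_lit 0), (nat_lit 0), (nat_lit 0)⟩, ⟨[(nat_lit 1)], (nat_lit 5), (nat_lit 0), (nat_lit 0), (nat_lit 0)⟩]
noncomputable def e4_H (x j : Nat) : Bx (Nat → Nat → Nat) := mkH e4_L e4_pb.1 e4_e.get (lmap CW.w e4_hcs) (nat_lit 16) (nat_lit 17) (nat_lit 6) (nat_lit 128) (nat_lit 8192) (nat_lit 8191) x (e4_rots.get j)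
noncomputable def e4_F (x b : Nat) : Bool := blkOK e4_H e4_ch (nat_lit 17) (nat_lit 128) (nat_lit 64) (nat_lit 8) (nat_lit 255) (nat_lit 19) (nat_lit 524287) x b

theorem e4_k0_0 : allFrom (e4_F (nat_lit 0)) (nat_lit 0) (nat_lit 4) = true := by decide +kernel
theorem e4_k1_0 : allFrom (e4_F (nat_lit 1)) (nat_lit 0) (nat_lit 4) = true := by decide +kernel
theorem e4_k2_0 : allFrom (e4_F (nat_lit 2)) (nat_lit 0) (nat_lit 4) = true := by decide +kernel
theorem e4_k3_0 : allFrom (e4_F (nat_lit 3)) (nat_lit 0) (nat_lit 4) = true := by decide +kernel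
theorem e4_k4_0 : allFrom (e4_F (nat_lit 4)) (nat_lit 0) (nat_lit 4) = true := by decide +kernel
theorem e4_k5_0 : allFrom (e4_F (nat_lit 5)) (nat_lit 0) (nat_lit 4) = true := by decide +kernel

noncomputable def e5_c0 : BT (Bx Nat) := (BT.leaf (Bx.mk (nat_lit 0x1049c35c1e12e0d74000005039e3c1d41e0ec1e06e8d0333501e5a80f2990786d830c6c1833a0ccce071c000002e5dfa00eecd07c6203bf101df91346c606283031b401ded00c26506bd2835d68183280c6d40635203c68252cc20d7e9061538309c5d3fd80deea060ec038fa01c04e0e06706814033f341899a0c4c00001203c38a43a320c2800000c8312641ae2a0c31806bac035c0c188a40c58e06b490318381adbe0dd1806b2a8362541b0b40d75a0636d031a701862e0cc0f062e78316901a5be0d3180610e832d7c1a5be0e8a70610783188c1d04a0d4a57ca4c836c7a096380d0227e1300351641ad840c61306349831a641ad0c0c59306369831b0418b020c5c10626083170418da20d69f062cf8388581888a0c60506262835b141ad8e0c69106b6c03128018c2e0c3c0000180312dc18eb60d29c06a2d832da4184520dab4067940368ac19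d4c0c519060ca83145c19c2e0ce18060ec835960199b00d5e8060b30311bc1aa5a0cfab060eb8309ac19db80d46b0678e834ba418380000000001903155418a980c54c062aa831368189b40c4940628983120818c8c0c5d6062ad831448189b20d498062d5031240187ae0c61a06590030e801a54c0c3900622c031668196b20c2a1062128310dc19372c90400001b8324c4185660c3786654d833f68185540c17506435032da4196520c0e70618b030c60186b00c368061b8830c5c186aa0c31506188830b9c185d80c8580620c830ea8183ea0c1000001b0307c8183680c0b2060ba030764183b20c1eb06154030660182300c136060998303000000000000000000000000000000000000000000000000000000000000000000000000000000000000000000000000000000000000000000000000000000000000000000000000000)))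
noncomputable def e5_c1 : BT (Bx Nat) := (BT.leaf (Bx.mk (nat_lit 0xf8e608000000000000000000000000000000000000000000000000000000000aa26d800003987c600000f8e4f0000000000000000000000000000000000000000000000000000000000000002a7365685b5f1c7500000000003b55a200000000007c71bba39aa00000000000000000000000000f8e317c71840000000000f8e2fc60dd7f03f200000fc0fc000003f03ee00000fc0fa000003e38b600000f8e2d00000000001f81effc0f70000000000000000f8e2c00000000001f1c530000000000000001f1c510000000000000001f1c4d0000076b9c00000000000f8e258000000000000000000007e079c0000000000000000000000000000000000000000000000000000000007e07980000000000000007e07940000000000f838b800003f03be00000000007c1c5800001db06fed7c1800003b5d0000000fc0ef0000000000000000f551f00000000001f1c3800000000003f03b1f81d6f8e1980000000001d1ca6000007e074be385c00000000007c70b400001f1c2c000007e0737f039800000000007e072ff039400000fc0e3fe0713f0385f81c0fc0defe06efe0e27f81b3000000000000000000000fc0d87c1c47f035800000000007c1c43f035000000fc0d1800000000000000000000000003f030a000000000000000000001f1c23f8e117871efd4051f817efc0be000003f02f5f817800000000003e0e1a00000fc0b98000000000000000f8385fe05b7f02d5f8168000007e051bd364de1c3d000007870a40000000000fc0a07e04ffe0e0e0000000000000003e0e09f8125fc14e7e0a63f0529f828ffc145fe0a1bf04c1f070cfc12cfe0953f04a5f824efc1267e0923f046bf8114fc117fe08afb1e11d0709fc110fe0883e0e07f821dfc082fa440bf060200000)))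
noncomputable def e5_c2 : BT (Bx Nat) := (BT.leaf (Bx.mk (nat_lit 0x7aaef40000000000000000000000000000000000000000000000000000000000000000000000000000000000000000000000000007c59e000000000000000000000000001eb7710000000000000000000000000000000000001eab6a0000000000000000000000000000000000000000000000000000000000000000000000000000001ea35cf0b778000000000000000000000000000000000000000000000000000000000000000000000000000000000007a8d4400000000000000000000000000000000000000000000001ea34b00000000000000000000000000000003d46ba0000000000000000000000000000000000000000000000000000000003e122e00000000007e0780000000000000000000000000000000000000000003c5af9f163f00000765a03d467beab400000000000000001f81d9000007a8ce000000000000000000000000001f162f000007e074c0000000000ed1b4fe073fd465de16cd000000000000000000000000000000000000000000000007e0717c2d3be16bef8489800003f036ff81b400000000000000000000000000000003c2d57f091000000000003b4661f81a6f0b517c243bc2c94000000000000000000000000000000000000000001f8181000007e05fc00000000000000000000000001e16770000000000000000000000000000000000001d1653000007859afe1215e162dfc0b2800003f028a00000000000000000000000000f8483f8588ff027600000f84820000000000000000f848a7a286ff052bf8290fc1467e0a1ff04c3f811afc12d7e0957d1817f824fec508fe0927f046df8231f0487fe08b3e120be8a09fc11176301bf0211f821eec481f8240bf060200000)))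
noncomputable def e5_c3 : BT (Bx Nat) := (BT.leaf (Bx.mk (nat_lit 0x238f9200000000000000000000000000000000000000000000000f565d80000000000000000000000000000000000000000000000000000000000000000000000000000000000064e6a40000000000000000000000000000000000000000000000000000f9237000000000000000000000000003d58d000000000000000000000000000000000000000000000000000000000000000000000000007a9573c49dc0000000000000000000000000000000000000000000000000000000000000000000091dd38000000000000000f52a88000000000000000000000000000000000000000007a952c000000000000000000003d4aba000000000000000000000000000000000000000000000000000000000000000000000000000000000001f0817000007e0784000000000000000000003a628e000000000000000000001e157ef921f7ab0fc00001da4810000000000000001f81daf529c000000000000000000000000003c49a800000000000000000000000000f5297789333a48d7f81ce00000000000000000000000000000000000000000000000000003c4933e24bcf4aad7c204ff0371f81b5000000000000000000000ed298000003c495400000f84080000000000000000f12507a5527e101c00000000000000000000000000000000000000000000000fc0c0000003c48fa000000000000000000001e24760000000000000000000000000000000000001d244dfc0b87891a7d2a59f080afc0b30000000000000000000000000000000000000f4a917c201ff027800000000007c20100000000000f040d7c2053f052df8291fc146fe0a23f04c5f811bfc12dfe095ba101ff8250f4585fe092bf046ff8232f0408fe08b7c1011f0805fc111f4201bf0213f821ff0681fa2c0be100200000)))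
noncomputable def e5_c4 : BT (Bx Nat) := (BT.leaf (Bx.mk (nat_lit 0x3e317e00000f8c5efc62ec00001345ec0000000000000001298f0000007c62cc0000000000000002cf2c00000000000000007c622800000000005de540000000000000000f8c3c80000000000000000000000000000000000000000000000000000000000000000000000000000000000000000000001f185f0000000000000001eb5728c1affad1cc0000000000fc0fafc616ff03e7f185afc0f97e07c40000000000000000000000000000000fc0f5000003f03d20000000000000003a514923ca30000000000000000000000000000000000001c98ad8cc567c612800001f1849000007e07a00000000000000000000000000000000000000000000000000000000000000000000000000000000000000000000000000007e07880000000000000000000000000000000000000000000000000000000000000000000000000000007e0773f03b6000000000000000000001e2874f0c6100000000000000000000076a1b80000000000f8c16800003e305800000000000000000000000000000000000000000000000fc0e4000003e0a29f0513fc0df7e06f3f0373f81b6000000000000000000000f8288800003e0a21f81abfc0d5000003e0a1e00000f82877e068bf0340000000000000000000001e222a00000000003e3049f818200000000003e304200000fc0be80000000001f050dfc0bbfe05d80000000000f828600000000001f050b000007c142bf02d7f81690000076611000001f181d000007c607000001f8141f4b8f7a507ff027a0000000000000003f0251f8126fc14efe0a67f052ff8292fc1477e0a27f04c7f825dfc12e7e095ff04a7f8251fc126fe092ff0471f8233fc1187e08bba0a11d9309f82827a401bc240bf8107f82817e040ff060200000)))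
noncomputable def e5_c5 : BT (Bx Nat) := (BT.leaf (Bx.mk (nat_lit 0x7c6b0000000000000000000000298dd5f1ab900000000003e356c0000000000000000000004ccf50000000000000001f1a8cf8d4580000000000000000000000000000001838c800000000000000000000000000000003e34e200000000005adb4be34da0000000000000000000000000000000000003e34be00000000000000000000000000f8d2e80000000001f81f6f8d2d800000000000000000000000003f03e000000000007e07b40000000000fc0f5800000000000000000000000003e34a20000000000000003e349c000000000000000000001f1a4b00000000003e349200000000007c186c00000000000000000000000000000000000000000000000000000000000000000000000000000000000000001f81e4fc0f1fc18580000000000000000000000000000000000000000000000000000000000000000000000000f8d1d7e0777e3470000000000000000000001f1a33f14acfc68c3f03aa00000000007c68bbf03a2000000000000000000000000000000000000000001e9d42000000000000000000000fc0e4800003f0387f81c1fc0df800003b34e7f0612fc0d90000000000000000fc0d8800003f035a00000000007e06a40000000000fc0d2000003f034200000f8d1500000000001f1a2800000786993d424c00000000007c68840000000000000007e05ec00001f81790000000000000001e9d27fc0ba00000000001f8172000007e05bbf02d800000fc0b3fe051fe343bf8144f0d1a000003f0287f060700000000003f027df813900000000003f0253f0603fc14f7e0a6be0c23f8293f8307fe0a2be0c1bf825ef8305fe0963f0233f0609fc08bfc1823f022bf0606fc089fc1817f0221f810efc1127e0433f0215f0602fc10e7e0413f060200000)))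
noncomputable def e5_c6 : BT (Bx Nat) := (BT.leaf (Bx.mk (nat_lit 0x1f19b300000000000000000000000000000000000000000000000000003b3f1bd9e8c00000000003c4fb000000000000000000000000000f8cba00000000001f197000000000000000000000000000000000000000000000000000000000000000000000000000000000000000000000000000000000000000000000000000000000000000000000000000000000000003b3eb7d9e5afc0f600000000000000000000000000257b0c00000000000000000000000000f8ca6000003e32972198f00000000000000011034c000000000000000000000000000000000000000000000000000000000000000f470c800003d3ea1e9e4f960520000000000000000000007a385c00001e9f4af4f248000000000000000f8ca0800000000000000000000000000000000000000000000000000000000000000000003e3267f81d700000000003e325ff81d4f8c9700000000001f81d0000000000000000000000f539a8000000000000000000000000000000000000f820a7e07180000000000e8cda800003f0375e8e13000007a7cb7d3c597032e000007e06bff035de1991f0cc800000000001f81a7fc0d2f86623c330e00000000000000000000000000fc0c27c6493f030600000000000000000000000000000007c64800000000000f4f91fa78880000000000fc0ba8000000000000000fc0b8fe05bfc32ade1955000007c64740000000000f8c8e00000000001f8142f0c9bf864d800001f813a00000000003f0255f8127fc14ffe0a6fc4d27f0410f13457c103bf04c9f825ff132c7c102be0813f8118f82047e045be080ff8234f8202fe044bf0223f810ffc086fc100ff0217e8e04fc0837c1007f020400000)))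
noncomputable def e5_p : BT (Bx Nat) := (BT.leaf (Bx.mk (nat_lit 0x8c50630c18c10630058bf122fc18bd122ec48ba122e458b8062dc18b6162cc68b3162cc48b112278489e06248188e06230588b16228488a0e228288905dfc177a15de8477911de0377809dd4177419dd0177115dc0676e09db8176d15db0676a09da0376605d94176205d84175f15d7c475f05d78675e09d78175d15d74175c15d70175b15d6c475b05d68475a05d64675911d64375909d6047580dd60275805d5c575315d4c175219d44675115d44175011d3c474e15d34174c19d30274b19d2c574b05d28474915d24471b19c6c571b11c6c171a19c68571a11c68171911c64371909c64171815c6047180dc60271805c5c47170dc5c271705c58571611c58371609c5816450590c6641199004640098fc363e098f0163b118ec163a158e41638158e01637118d84633198cc5633058c0562f198bc362e198b8562e058b4562d118b4162c118b0162b158ac362b0985466151185436150985416141985056141184c46130d84c261305848561211848361209848161111844161011840361009840160f1183c160e11838360e09838152a154a81529094a055251549065241148c152205484552111484352109480652015434450d0d434250d05430650c11430350c0942c450b05428450a0d428250a05074641d15074441c19070441c0501c54070d01c24070501813040cc10230404c0c56140d850261115840660f15838650d15430150b1542865091942455081942054071901854051901454050d014230410c0c6303048085202104046000000000)))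
noncomputable def e5_e0 : BT Nat := (BT.node (nat_lit 8576) (BT.node (nat_lit 5120) (BT.node (nat_lit 3264) (BT.node (nat_lit 2368) (BT.node (nat_lit 1920) (BT.node (nat_lit 69) (BT.node (nat_lit 66) (BT.leaf (nat_lit 786434)) (BT.node (nat_lit 68) (BT.leaf (nat_lit 524290)) (BT.leaf (nat_lit 262146)))) (BT.node (nat_lit 1792) (BT.leaf (nat_lit 2)) (BT.node (nat_lit 1856) (BT.leaf (nat_lit 9745)) (BT.leaf (nat_lit 33541))))) (BT.node (nat_lit 2112) (BT.node (nat_lit 1984) (BT.leaf (nat_lit 8977)) (BT.node (nat_lit 2048) (BT.leaf (nat_lit 8721)) (BT.leaf (nat_lit 14873)))) (BT.node (nat_lit 2240) (BT.node (nat_lit 2176) (BT.leaf (nat_lit 11793)) (BT.leaf (nat_lit 16133))) (BT.node (nat_lit 2304) (BT.leaf (nat_lit 16389)) (BT.leaf (nat_lit 10769)))))) (BT.node (nat_lit 2816) (BT.node (nat_lit 2560) (BT.node (nat_lit 2432) (BT.leaf (nat_lit 7173)) (BT.node (nat_lit 2496) (BT.leaf (nat_lit 10773)) (BT.leaf (nat_lit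 7193)))) (BT.node (nat_lit 2688) (BT.leaf (nat_lit 17429)) (BT.node (nat_lit 2752) (BT.leaf (nat_lit 33561)) (BT.leaf (nat_lit 8453))))) (BT.node (nat_lit 3008) (BT.node (nat_lit 2880) (BT.leaf (nat_lit 19217)) (BT.node (nat_lit 2944) (BT.leaf (nat_lit 20741)) (BT.leaf (nat_lit 28181)))) (BT.node (nat_lit 3136) (BT.node (nat_lit 3072) (BT.leaf (nat_lit 28953)) (BT.leaf (nat_lit 22293))) (BT.node (nat_lit 3200) (BT.leaf (nat_lit 14345)) (BT.leaf (nat_lit 14349))))))) (BT.node (nat_lit 4096) (BT.node (nat_lit 3648) (BT.node (nat_lit 3456) (BT.node (nat_lit 3328) (BT.leaf (nat_lit 29977)) (BT.node (nat_lit 3392) (BT.leaf (nat_lit 10005)) (BT.leaf (nat_lit 26393)))) (BT.node (nat_lit 3520) (BT.leaf (nat_lit 8729)) (BT.node (nat_lit 3584) (BT.leaf (nat_lit 8985)) (BT.leaf (nat_lit 30997))))) (BT.node (nat_lit 3840) (BT.node (nat_lit 3712) (BT.leaf (nat_lit 8213)) (BT.node (nat_lit 3776) (BT.leaf (nat_lit 15877)) (BT.leaf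 (nat_lit 26893)))) (BT.node (nat_lit 3968) (BT.node (nat_lit 3904) (BT.leaf (nat_lit 27409)) (BT.leaf (nat_lit 10245))) (BT.node (nat_lit 4032) (BT.leaf (nat_lit 11797)) (BT.leaf (nat_lit 32777)))))) (BT.node (nat_lit 4672) (BT.node (nat_lit 4352) (BT.node (nat_lit 4224) (BT.leaf (nat_lit 27149)) (BT.node (nat_lit 4288) (BT.leaf (nat_lit 9241)) (BT.leaf (nat_lit 9493)))) (BT.node (nat_lit 4544) (BT.leaf (nat_lit 16657)) (BT.node (nat_lit 4608) (BT.leaf (nat_lit 16661)) (BT.leaf (nat_lit 19973))))) (BT.node (nat_lit 4864) (BT.node (nat_lit 4736) (BT.leaf (nat_lit 41237)) (BT.node (nat_lit 4800) (BT.leaf (nat_lit 16401)) (BT.leaf (nat_lit 27145)))) (BT.node (nat_lit 4992) (BT.node (nat_lit 4928) (BT.leaf (nat_lit 20761)) (BT.leaf (nat_lit 12301))) (BT.node (nat_lit 5056) (BT.leaf (nat_lit 43285)) (BT.leaf (nat_lit 18697)))))))) (BT.node (nat_lit 6848) (BT.node (nat_lit 5888) (BT.node (nat_lit 5440) (BT.node (nat_lit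 5312) (BT.node (nat_lit 5184) (BT.leaf (nat_lit 18701)) (BT.node (nat_lit 5248) (BT.leaf (nat_lit 32781)) (BT.leaf (nat_lit 11545)))) (BT.node (nat_lit 5376) (BT.leaf (nat_lit 12297)) (BT.node (nat_lit 5382) (BT.leaf (nat_lit 11801)) (BT.leaf (nat_lit 444))))) (BT.node (nat_lit 5632) (BT.node (nat_lit 5504) (BT.leaf (nat_lit 11289)) (BT.node (nat_lit 5568) (BT.leaf (nat_lit 19225)) (BT.leaf (nat_lit 23569)))) (BT.node (nat_lit 5760) (BT.node (nat_lit 5696) (BT.leaf (nat_lit 45829)) (BT.leaf (nat_lit 29461))) (BT.node (nat_lit 5824) (BT.leaf (nat_lit 35353)) (BT.leaf (nat_lit 58389)))))) (BT.node (nat_lit 6272) (BT.node (nat_lit 6080) (BT.node (nat_lit 5952) (BT.leaf (nat_lit 62997)) (BT.node (nat_lit 6016) (BT.leaf (nat_lit 63237)) (BT.leaf (nat_lit 22549)))) (BT.node (nat_lit 6144) (BT.leaf (nat_lit 22553)) (BT.node (nat_lit 6208) (BT.leaf (nat_lit 22789)) (BT.leaf (nat_lit 51717))))) (BT.node (nat_lit 6592) (BT.node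 (nat_lit 6336) (BT.leaf (nat_lit 51973)) (BT.node (nat_lit 6400) (BT.leaf (nat_lit 22801)) (BT.leaf (nat_lit 16917)))) (BT.node (nat_lit 6720) (BT.node (nat_lit 6656) (BT.leaf (nat_lit 11029)) (BT.leaf (nat_lit 41733))) (BT.node (nat_lit 6784) (BT.leaf (nat_lit 11789)) (BT.leaf (nat_lit 44037))))))) (BT.node (nat_lit 7680) (BT.node (nat_lit 7232) (BT.node (nat_lit 7040) (BT.node (nat_lit 6912) (BT.leaf (nat_lit 11785)) (BT.node (nat_lit 6976) (BT.leaf (nat_lit 11541)) (BT.leaf (nat_lit 11781)))) (BT.node (nat_lit 7104) (BT.leaf (nat_lit 54029)) (BT.node (nat_lit 7168) (BT.leaf (nat_lit 33797)) (BT.leaf (nat_lit 54297))))) (BT.node (nat_lit 7424) (BT.node (nat_lit 7296) (BT.leaf (nat_lit 54549)) (BT.node (nat_lit 7360) (BT.leaf (nat_lit 50193)) (BT.leaf (nat_lit 29717)))) (BT.node (nat_lit 7552) (BT.node (nat_lit 7488) (BT.leaf (nat_lit 24325)) (BT.leaf (nat_lit 50693))) (BT.node (nat_lit 7616) (BT.leaf (nat_lit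 13841)) (BT.leaf (nat_lit 14097)))))) (BT.node (nat_lit 8064) (BT.node (nat_lit 7872) (BT.node (nat_lit 7744) (BT.leaf (nat_lit 14341)) (BT.node (nat_lit 7808) (BT.leaf (nat_lit 56081)) (BT.leaf (nat_lit 14597)))) (BT.node (nat_lit 7936) (BT.leaf (nat_lit 53781)) (BT.node (nat_lit 8000) (BT.leaf (nat_lit 15109)) (BT.leaf (nat_lit 15629))))) (BT.node (nat_lit 8256) (BT.node (nat_lit 8128) (BT.leaf (nat_lit 15365)) (BT.node (nat_lit 8192) (BT.leaf (nat_lit 15881)) (BT.leaf (nat_lit 33029)))) (BT.node (nat_lit 8384) (BT.node (nat_lit 8320) (BT.leaf (nat_lit 26637)) (BT.leaf (nat_lit 41489))) (BT.node (nat_lit 8448) (BT.leaf (nat_lit 16665)) (BT.leaf (nat_lit 17177))))))))) (BT.node (nat_lit 12032) (BT.node (nat_lit 10240) (BT.node (nat_lit 9408) (BT.node (nat_lit 8960) (BT.node (nat_lit 8768) (BT.node (nat_lit 8640) (BT.leaf (nat_lit 44313)) (BT.node (nat_lit 8704) (BT.leaf (nat_lit 18713)) (BT.leaf (nat_lit 18969))))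 (BT.node (nat_lit 8832) (BT.leaf (nat_lit 48657)) (BT.node (nat_lit 8896) (BT.leaf (nat_lit 57873)) (BT.leaf (nat_lit 23045))))) (BT.node (nat_lit 9152) (BT.node (nat_lit 9024) (BT.leaf (nat_lit 57369)) (BT.node (nat_lit 9088) (BT.leaf (nat_lit 57625)) (BT.leaf (nat_lit 23057)))) (BT.node (nat_lit 9280) (BT.node (nat_lit 9216) (BT.leaf (nat_lit 27673)) (BT.leaf (nat_lit 20249))) (BT.node (nat_lit 9344) (BT.leaf (nat_lit 20505)) (BT.leaf (nat_lit 48145)))))) (BT.node (nat_lit 9792) (BT.node (nat_lit 9600) (BT.node (nat_lit 9472) (BT.leaf (nat_lit 23321)) (BT.node (nat_lit 9536) (BT.leaf (nat_lit 23301)) (BT.leaf (nat_lit 23305)))) (BT.node (nat_lit 9664) (BT.leaf (nat_lit 23309)) (BT.node (nat_lit 9728) (BT.leaf (nat_lit 23313)) (BT.leaf (nat_lit 55557))))) (BT.node (nat_lit 9984) (BT.node (nat_lit 9856) (BT.leaf (nat_lit 23821)) (BT.node (nat_lit 9920) (BT.leaf (nat_lit 35349)) (BT.leaf (nat_lit 46105)))) (BT.node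 (nat_lit 10112) (BT.node (nat_lit 10048) (BT.leaf (nat_lit 55813)) (BT.leaf (nat_lit 23817))) (BT.node (nat_lit 10176) (BT.leaf (nat_lit 48901)) (BT.leaf (nat_lit 46361))))))) (BT.node (nat_lit 11200) (BT.node (nat_lit 10752) (BT.node (nat_lit 10496) (BT.node (nat_lit 10246) (BT.leaf (nat_lit 18705)) (BT.node (nat_lit 10368) (BT.leaf (nat_lit 668)) (BT.leaf (nat_lit 26633)))) (BT.node (nat_lit 10624) (BT.leaf (nat_lit 19221)) (BT.node (nat_lit 10688) (BT.leaf (nat_lit 28677)) (BT.leaf (nat_lit 44813))))) (BT.node (nat_lit 10944) (BT.node (nat_lit 10816) (BT.leaf (nat_lit 19717)) (BT.node (nat_lit 10880) (BT.leaf (nat_lit 56845)) (BT.leaf (nat_lit 20241)))) (BT.node (nat_lit 11072) (BT.node (nat_lit 11008) (BT.leaf (nat_lit 20497)) (BT.leaf (nat_lit 41745))) (BT.node (nat_lit 11136) (BT.leaf (nat_lit 20757)) (BT.leaf (nat_lit 40985)))))) (BT.node (nat_lit 11584) (BT.node (nat_lit 11392) (BT.node (nat_lit 11264) (BT.leaf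 (nat_lit 42265)) (BT.node (nat_lit 11328) (BT.leaf (nat_lit 21253)) (BT.leaf (nat_lit 21269)))) (BT.node (nat_lit 11456) (BT.leaf (nat_lit 29205)) (BT.node (nat_lit 11520) (BT.leaf (nat_lit 59921)) (BT.leaf (nat_lit 22537))))) (BT.node (nat_lit 11776) (BT.node (nat_lit 11648) (BT.leaf (nat_lit 22541)) (BT.node (nat_lit 11712) (BT.leaf (nat_lit 22545)) (BT.leaf (nat_lit 22793)))) (BT.node (nat_lit 11904) (BT.node (nat_lit 11840) (BT.leaf (nat_lit 22797)) (BT.leaf (nat_lit 61461))) (BT.node (nat_lit 11968) (BT.leaf (nat_lit 55065)) (BT.leaf (nat_lit 61969)))))))) (BT.node (nat_lit 13888) (BT.node (nat_lit 12928) (BT.node (nat_lit 12416) (BT.node (nat_lit 12224) (BT.node (nat_lit 12096) (BT.leaf (nat_lit 23565)) (BT.node (nat_lit 12160) (BT.leaf (nat_lit 62225)) (BT.leaf (nat_lit 23561)))) (BT.node (nat_lit 12288) (BT.leaf (nat_lit 36357)) (BT.node (nat_lit 12352) (BT.leaf (nat_lit 49925)) (BT.leaf (nat_lit 60693)))))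 (BT.node (nat_lit 12544) (BT.node (nat_lit 12480) (BT.leaf (nat_lit 29457)) (BT.node (nat_lit 12484) (BT.leaf (nat_lit 24337)) (BT.leaf (nat_lit 800)))) (BT.node (nat_lit 12673) (BT.node (nat_lit 12672) (BT.leaf (nat_lit 24069)) (BT.leaf (nat_lit 24089))) (BT.node (nat_lit 12800) (BT.leaf (nat_lit 864)) (BT.leaf (nat_lit 56341)))))) (BT.node (nat_lit 13312) (BT.node (nat_lit 13120) (BT.node (nat_lit 12992) (BT.leaf (nat_lit 48397)) (BT.node (nat_lit 13056) (BT.leaf (nat_lit 47881)) (BT.leaf (nat_lit 32269)))) (BT.node (nat_lit 13184) (BT.leaf (nat_lit 31753)) (BT.node (nat_lit 13248) (BT.leaf (nat_lit 31757)) (BT.leaf (nat_lit 32265))))) (BT.node (nat_lit 13568) (BT.node (nat_lit 13376) (BT.leaf (nat_lit 42009)) (BT.node (nat_lit 13440) (BT.leaf (nat_lit 27925)) (BT.leaf (nat_lit 28165)))) (BT.node (nat_lit 13696) (BT.node (nat_lit 13632) (BT.leaf (nat_lit 28941)) (BT.leaf (nat_lit 53509))) (BT.node (nat_lit 13824)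 (BT.leaf (nat_lit 50949)) (BT.leaf (nat_lit 56601))))))) (BT.node (nat_lit 14912) (BT.node (nat_lit 14272) (BT.node (nat_lit 14080) (BT.node (nat_lit 13952) (BT.leaf (nat_lit 30729)) (BT.node (nat_lit 14016) (BT.leaf (nat_lit 30733)) (BT.leaf (nat_lit 60165)))) (BT.node (nat_lit 14144) (BT.leaf (nat_lit 31249)) (BT.node (nat_lit 14208) (BT.leaf (nat_lit 31253)) (BT.leaf (nat_lit 32517))))) (BT.node (nat_lit 14528) (BT.node (nat_lit 14336) (BT.leaf (nat_lit 35077)) (BT.node (nat_lit 14400) (BT.leaf (nat_lit 35337)) (BT.leaf (nat_lit 35341)))) (BT.node (nat_lit 14656) (BT.node (nat_lit 14592) (BT.leaf (nat_lit 35605)) (BT.leaf (nat_lit 35861))) (BT.node (nat_lit 14720) (BT.leaf (nat_lit 59653)) (BT.leaf (nat_lit 37381)))))) (BT.node (nat_lit 15360) (BT.node (nat_lit 15104) (BT.node (nat_lit 14976) (BT.leaf (nat_lit 45329)) (BT.node (nat_lit 15040) (BT.leaf (nat_lit 61717)) (BT.leaf (nat_lit 45845)))) (BT.node (nat_lit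 15232) (BT.node (nat_lit 15168) (BT.leaf (nat_lit 45849)) (BT.leaf (nat_lit 46613))) (BT.node (nat_lit 15296) (BT.leaf (nat_lit 46853)) (BT.leaf (nat_lit 47109))))) (BT.node (nat_lit 15552) (BT.node (nat_lit 15424) (BT.leaf (nat_lit 60433)) (BT.node (nat_lit 15488) (BT.leaf (nat_lit 47633)) (BT.leaf (nat_lit 58897)))) (BT.node (nat_lit 15744) (BT.node (nat_lit 15616) (BT.leaf (nat_lit 57105)) (BT.leaf (nat_lit 59141))) (BT.node (nat_lit 15808) (BT.leaf (nat_lit 49173)) (BT.leaf (nat_lit 49413))))))))))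
noncomputable def e5_e : BT Nat := e5_e0
noncomputable def e5_cols : List (BT (Bx Nat)) := [e5_c0, e5_c1, e5_c2, e5_c3, e5_c4, e5_c5, e5_c6]
noncomputable def e5_ch (x j : Nat) : Bx Nat := chunkG e5_cols (nat_lit 1) x j
noncomputable def e5_L (x : Nat) : Bx (Nat → Nat) := lookG e5_ch (nat_lit 8) (nat_lit 255) (nat_lit 21) (nat_lit 2097151) x
noncomputable def e5_pc (_ j : Nat) : Bx Nat := e5_p.get j
noncomputable def e5_pb : Bx (Nat → Nat) := lookG e5_pc (nat_lit 8) (nat_lit 255) (nat_lit 18) (nat_lit 262143) (nat_lit 0)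
noncomputable def e5_rots : BT CW := (BT.node (nat_lit 38) (BT.node (nat_lit 19) (BT.node (nat_lit 9) (BT.node (nat_lit 4) (BT.node (nat_lit 2) (BT.node (nat_lit 1) (BT.leaf ⟨[], (nat_lit 1000000), (nat_lit 0), (nat_lit 0), (nat_lit 0)⟩) (BT.leaf ⟨[], (nat_lit 1000000), (nat_lit 0), (nat_lit 0), (nat_lit 1)⟩)) (BT.node (nat_lit 3) (BT.leaf ⟨[], (nat_lit 1000000), (nat_lit 0), (nat_lit 0), (nat_lit 2)⟩) (BT.leaf ⟨[(nat_lit 6), (nat_lit 6)], (nat_lit 3), (nat_lit 0), (nat_lit 0), (nat_lit 3)⟩))) (BT.node (nat_lit 6) (BT.node (nat_lit 5) (BT.leaf ⟨[(nat_lit 4), (nat_lit 4)], (nat_lit 1), (nat_lit 0), (nat_lit 0), (nat_lit 3)⟩) (BT.leaf ⟨[(nat_lit 5), (nat_lit 5)], (nat_lit 2), (nat_lit 0), (nat_lit 0), (nat_lit 3)⟩)) (BT.node (nat_lit 7) (BT.leaf ⟨[(nat_lit 1), (nat_lit 1)], (nat_lit 0), (nat_lit 0), (nat_lit 0), (nat_lit 3)⟩) (BT.node (nat_lit 8) (BT.leaf ⟨[(nat_lit 3), (nat_lit 2)], (nat_lit 17), (nat_lit 1), (nat_lit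 0), (nat_lit 3)⟩) (BT.leaf ⟨[(nat_lit 2), (nat_lit 3)], (nat_lit 17), (nat_lit 0), (nat_lit 0), (nat_lit 3)⟩))))) (BT.node (nat_lit 14) (BT.node (nat_lit 11) (BT.node (nat_lit 10) (BT.leaf ⟨[(nat_lit 2), (nat_lit 2), (nat_lit 2)], (nat_lit 4), (nat_lit 0), (nat_lit 0), (nat_lit 3)⟩) (BT.leaf ⟨[(nat_lit 3), (nat_lit 6), (nat_lit 2), (nat_lit 6)], (nat_lit 10), (nat_lit 3), (nat_lit 0), (nat_lit 3)⟩)) (BT.node (nat_lit 12) (BT.leaf ⟨[(nat_lit 2), (nat_lit 6), (nat_lit 3), (nat_lit 6)], (nat_lit 10), (nat_lit 1), (nat_lit 0), (nat_lit 3)⟩) (BT.node (nat_lit 13) (BT.leaf ⟨[(nat_lit 3), (nat_lit 4), (nat_lit 3), (nat_lit 4)], (nat_lit 25), (nat_lit 0), (nat_lit 0), (nat_lit 3)⟩) (BT.leaf ⟨[(nat_lit 6), (nat_lit 5), (nat_lit 6), (nat_lit 5), (nat_lit 6), (nat_lit 5)], (nat_lit 9), (nat_lit 1), (nat_lit 0), (nat_lit 3)⟩)))) (BT.node (nat_lit 16) (BT.node (nat_lit 15) (BT.leaf ⟨[(nat_lit 1), (nat_lit 3), (nat_lit 1), (nat_lit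 3), (nat_lit 1), (nat_lit 3)], (nat_lit 24), (nat_lit 1), (nat_lit 0), (nat_lit 3)⟩) (BT.leaf ⟨[(nat_lit 4), (nat_lit 6), (nat_lit 4), (nat_lit 6), (nat_lit 4), (nat_lit 6), (nat_lit 4), (nat_lit 6)], (nat_lit 12), (nat_lit 0), (nat_lit 0), (nat_lit 3)⟩)) (BT.node (nat_lit 17) (BT.leaf ⟨[(nat_lit 1), (nat_lit 6), (nat_lit 5), (nat_lit 1), (nat_lit 5), (nat_lit 1), (nat_lit 4), (nat_lit 5), (nat_lit 4), (nat_lit 6)], (nat_lit 11), (nat_lit 1), (nat_lit 0), (nat_lit 3)⟩) (BT.node (nat_lit 18) (BT.leaf ⟨[(nat_lit 4), (nat_lit 1), (nat_lit 4), (nat_lit 1), (nat_lit 4), (nat_lit 1)], (nat_lit 7), (nat_lit 1), (nat_lit 0), (nat_lit 3)⟩) (BT.leaf ⟨[(nat_lit 4), (nat_lit 2), (nat_lit 4), (nat_lit 2)], (nat_lit 6), (nat_lit 0), (nat_lit 0), (nat_lit 3)⟩)))))) (BT.node (nat_lit 28) (BT.node (nat_lit 23) (BT.node (nat_lit 21) (BT.node (nat_lit 20) (BT.leaf ⟨[(nat_lit 4), (nat_lit 2), (nat_lit 4), (nat_lit 2)], (nat_lit 6),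 (nat_lit 0), (nat_lit 0), (nat_lit 4)⟩) (BT.leaf ⟨[(nat_lit 3), (nat_lit 3), (nat_lit 3)], (nat_lit 23), (nat_lit 0), (nat_lit 0), (nat_lit 4)⟩)) (BT.node (nat_lit 22) (BT.leaf ⟨[(nat_lit 2), (nat_lit 3)], (nat_lit 17), (nat_lit 0), (nat_lit 0), (nat_lit 4)⟩) (BT.leaf ⟨[(nat_lit 4), (nat_lit 3), (nat_lit 4), (nat_lit 3)], (nat_lit 25), (nat_lit 1), (nat_lit 0), (nat_lit 4)⟩))) (BT.node (nat_lit 25) (BT.node (nat_lit 24) (BT.leaf ⟨[(nat_lit 4), (nat_lit 4)], (nat_lit 1), (nat_lit 0), (nat_lit 0), (nat_lit 4)⟩) (BT.leaf ⟨[(nat_lit 6), (nat_lit 6)], (nat_lit 3), (nat_lit 0), (nat_lit 0), (nat_lit 4)⟩)) (BT.node (nat_lit 26) (BT.leaf ⟨[(nat_lit 5), (nat_lit 5)], (nat_lit 2), (nat_lit 0), (nat_lit 0), (nat_lit 4)⟩) (BT.node (nat_lit 27) (BT.leaf ⟨[(nat_lit 1), (nat_lit 4), (nat_lit 5), (nat_lit 4), (nat_lit 6), (nat_lit 1), (nat_lit 6), (nat_lit 5), (nat_lit 1), (nat_lit 5)], (nat_lit 11), (nat_lit 6), (nat_lit 0), (nat_lit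 4)⟩) (BT.leaf ⟨[(nat_lit 1), (nat_lit 1)], (nat_lit 0), (nat_lit 0), (nat_lit 0), (nat_lit 4)⟩))))) (BT.node (nat_lit 33) (BT.node (nat_lit 30) (BT.node (nat_lit 29) (BT.leaf ⟨[(nat_lit 5), (nat_lit 6), (nat_lit 5), (nat_lit 6), (nat_lit 5), (nat_lit 6)], (nat_lit 9), (nat_lit 0), (nat_lit 0), (nat_lit 4)⟩) (BT.leaf ⟨[(nat_lit 6), (nat_lit 3), (nat_lit 6), (nat_lit 2)], (nat_lit 10), (nat_lit 2), (nat_lit 0), (nat_lit 4)⟩)) (BT.node (nat_lit 31) (BT.leaf ⟨[(nat_lit 6), (nat_lit 2), (nat_lit 6), (nat_lit 3)], (nat_lit 10), (nat_lit 0), (nat_lit 0), (nat_lit 4)⟩) (BT.node (nat_lit 32) (BT.leaf ⟨[(nat_lit 1), (nat_lit 4), (nat_lit 1), (nat_lit 4), (nat_lit 1), (nat_lit 4)], (nat_lit 7), (nat_lit 0), (nat_lit 0), (nat_lit 4)⟩) (BT.leaf ⟨[(nat_lit 5), (nat_lit 4), (nat_lit 5), (nat_lit 4), (nat_lit 5), (nat_lit 4), (nat_lit 5), (nat_lit 4)], (nat_lit 8), (nat_lit 0), (nat_lit 0), (nat_lit 4)⟩)))) (BT.node (nat_lit 35)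 (BT.node (nat_lit 34) (BT.leaf ⟨[(nat_lit 4), (nat_lit 6), (nat_lit 1), (nat_lit 6), (nat_lit 5), (nat_lit 1), (nat_lit 5), (nat_lit 1), (nat_lit 4), (nat_lit 5)], (nat_lit 11), (nat_lit 9), (nat_lit 0), (nat_lit 4)⟩) (BT.leaf ⟨[(nat_lit 2), (nat_lit 4), (nat_lit 2), (nat_lit 4)], (nat_lit 6), (nat_lit 1), (nat_lit 0), (nat_lit 4)⟩)) (BT.node (nat_lit 36) (BT.leaf ⟨[(nat_lit 3), (nat_lit 2)], (nat_lit 17), (nat_lit 1), (nat_lit 0), (nat_lit 4)⟩) (BT.node (nat_lit 37) (BT.leaf ⟨[(nat_lit 3), (nat_lit 4), (nat_lit 3), (nat_lit 4)], (nat_lit 25), (nat_lit 0), (nat_lit 0), (nat_lit 4)⟩) (BT.leaf ⟨[(nat_lit 6), (nat_lit 6)], (nat_lit 3), (nat_lit 0), (nat_lit 0), (nat_lit 5)⟩))))))) (BT.node (nat_lit 57) (BT.node (nat_lit 47) (BT.node (nat_lit 42) (BT.node (nat_lit 40) (BT.node (nat_lit 39) (BT.leaf ⟨[(nat_lit 6), (nat_lit 1), (nat_lit 6), (nat_lit 4), (nat_lit 5), (nat_lit 4), (nat_lit 1), (nat_lit 5), (nat_lit 1),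 (nat_lit 5)], (nat_lit 30), (nat_lit 7), (nat_lit 0), (nat_lit 4)⟩) (BT.leaf ⟨[(nat_lit 4), (nat_lit 5), (nat_lit 4), (nat_lit 5), (nat_lit 4), (nat_lit 5), (nat_lit 4), (nat_lit 5)], (nat_lit 8), (nat_lit 1), (nat_lit 0), (nat_lit 4)⟩)) (BT.node (nat_lit 41) (BT.leaf ⟨[(nat_lit 5), (nat_lit 1), (nat_lit 5), (nat_lit 6), (nat_lit 1), (nat_lit 6), (nat_lit 4), (nat_lit 5), (nat_lit 4), (nat_lit 1)], (nat_lit 30), (nat_lit 4), (nat_lit 0), (nat_lit 4)⟩) (BT.leaf ⟨[(nat_lit 1), (nat_lit 5), (nat_lit 1), (nat_lit 4), (nat_lit 5), (nat_lit 4), (nat_lit 6), (nat_lit 1), (nat_lit 6), (nat_lit 5)], (nat_lit 11), (nat_lit 4), (nat_lit 0), (nat_lit 4)⟩))) (BT.node (nat_lit 44) (BT.node (nat_lit 43) (BT.leaf ⟨[(nat_lit 2), (nat_lit 1), (nat_lit 2), (nat_lit 1), (nat_lit 2), (nat_lit 1)], (nat_lit 5), (nat_lit 1), (nat_lit 0), (nat_lit 4)⟩) (BT.leaf ⟨[(nat_lit 3), (nat_lit 1), (nat_lit 3), (nat_lit 1), (nat_lit 3), (nat_lit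 1)], (nat_lit 24), (nat_lit 0), (nat_lit 0), (nat_lit 4)⟩)) (BT.node (nat_lit 45) (BT.leaf ⟨[(nat_lit 2), (nat_lit 2), (nat_lit 2)], (nat_lit 4), (nat_lit 0), (nat_lit 0), (nat_lit 4)⟩) (BT.node (nat_lit 46) (BT.leaf ⟨[(nat_lit 1), (nat_lit 2), (nat_lit 1), (nat_lit 2), (nat_lit 1), (nat_lit 2)], (nat_lit 5), (nat_lit 0), (nat_lit 0), (nat_lit 4)⟩) (BT.leaf ⟨[(nat_lit 1), (nat_lit 6), (nat_lit 5), (nat_lit 1), (nat_lit 5), (nat_lit 1), (nat_lit 4), (nat_lit 5), (nat_lit 4), (nat_lit 6)], (nat_lit 11), (nat_lit 1), (nat_lit 0), (nat_lit 4)⟩))))) (BT.node (nat_lit 52) (BT.node (nat_lit 49) (BT.node (nat_lit 48) (BT.leaf ⟨[(nat_lit 1), (nat_lit 6), (nat_lit 4), (nat_lit 5), (nat_lit 4), (nat_lit 1), (nat_lit 5), (nat_lit 1), (nat_lit 5), (nat_lit 6)], (nat_lit 30), (nat_lit 8), (nat_lit 0), (nat_lit 4)⟩) (BT.leaf ⟨[(nat_lit 3), (nat_lit 5), (nat_lit 4), (nat_lit 5), (nat_lit 4), (nat_lit 1), (nat_lit 5), (nat_lit 2),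 (nat_lit 1), (nat_lit 3), (nat_lit 5), (nat_lit 1), (nat_lit 5), (nat_lit 2), (nat_lit 1)], (nat_lit 13), (nat_lit 10), (nat_lit 0), (nat_lit 4)⟩)) (BT.node (nat_lit 50) (BT.leaf ⟨[(nat_lit 0), (nat_lit 4), (nat_lit 5), (nat_lit 4), (nat_lit 5), (nat_lit 2), (nat_lit 1), (nat_lit 3), (nat_lit 5), (nat_lit 1), (nat_lit 5), (nat_lit 2), (nat_lit 1), (nat_lit 3), (nat_lit 5), (nat_lit 1)], (nat_lit 32), (nat_lit 0), (nat_lit 1), (nat_lit 4)⟩) (BT.node (nat_lit 51) (BT.leaf ⟨[(nat_lit 0), (nat_lit 6), (nat_lit 4), (nat_lit 5), (nat_lit 4), (nat_lit 1), (nat_lit 5), (nat_lit 1), (nat_lit 5), (nat_lit 6), (nat_lit 1)], (nat_lit 30), (nat_lit 9), (nat_lit 1), (nat_lit 5)⟩) (BT.leaf ⟨[(nat_lit 4), (nat_lit 1), (nat_lit 4), (nat_lit 1), (nat_lit 4), (nat_lit 1)], (nat_lit 7), (nat_lit 1), (nat_lit 0), (nat_lit 4)⟩)))) (BT.node (nat_lit 54) (BT.node (nat_lit 53) (BT.leaf ⟨[(nat_lit 4), (nat_lit 5), (nat_lit 4), (nat_lit 6),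 (nat_lit 1), (nat_lit 6), (nat_lit 5), (nat_lit 1), (nat_lit 5), (nat_lit 1)], (nat_lit 11), (nat_lit 7), (nat_lit 0), (nat_lit 4)⟩) (BT.leaf ⟨[(nat_lit 5), (nat_lit 1), (nat_lit 4), (nat_lit 5), (nat_lit 4), (nat_lit 6), (nat_lit 1), (nat_lit 6), (nat_lit 5), (nat_lit 1)], (nat_lit 11), (nat_lit 5), (nat_lit 0), (nat_lit 4)⟩)) (BT.node (nat_lit 55) (BT.leaf ⟨[(nat_lit 2), (nat_lit 6), (nat_lit 3), (nat_lit 6)], (nat_lit 10), (nat_lit 1), (nat_lit 0), (nat_lit 4)⟩) (BT.node (nat_lit 56) (BT.leaf ⟨[(nat_lit 5), (nat_lit 4), (nat_lit 6), (nat_lit 1), (nat_lit 6), (nat_lit 5), (nat_lit 1), (nat_lit 5), (nat_lit 1), (nat_lit 4)], (nat_lit 11), (nat_lit 8), (nat_lit 0), (nat_lit 5)⟩) (BT.leaf ⟨[(nat_lit 3), (nat_lit 5), (nat_lit 1), (nat_lit 5), (nat_lit 2), (nat_lit 1), (nat_lit 3), (nat_lit 5), (nat_lit 4), (nat_lit 5), (nat_lit 4), (nat_lit 1), (nat_lit 5), (nat_lit 2), (nat_lit 1)], (nat_lit 13), (nat_lit 4), (nat_lit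 0), (nat_lit 5)⟩)))))) (BT.node (nat_lit 67) (BT.node (nat_lit 62) (BT.node (nat_lit 59) (BT.node (nat_lit 58) (BT.leaf ⟨[(nat_lit 0), (nat_lit 1), (nat_lit 3), (nat_lit 5), (nat_lit 1), (nat_lit 5), (nat_lit 2), (nat_lit 1), (nat_lit 3), (nat_lit 5), (nat_lit 1), (nat_lit 4), (nat_lit 5), (nat_lit 4), (nat_lit 5), (nat_lit 2)], (nat_lit 32), (nat_lit 5), (nat_lit 1), (nat_lit 5)⟩) (BT.leaf ⟨[(nat_lit 3), (nat_lit 6), (nat_lit 2), (nat_lit 6)], (nat_lit 10), (nat_lit 3), (nat_lit 0), (nat_lit 5)⟩)) (BT.node (nat_lit 60) (BT.leaf ⟨[(nat_lit 4), (nat_lit 1), (nat_lit 4), (nat_lit 1), (nat_lit 4), (nat_lit 1)], (nat_lit 7), (nat_lit 1), (nat_lit 0), (nat_lit 5)⟩) (BT.node (nat_lit 61) (BT.leaf ⟨[(nat_lit 6), (nat_lit 1), (nat_lit 6), (nat_lit 5), (nat_lit 1), (nat_lit 5), (nat_lit 1), (nat_lit 4), (nat_lit 5), (nat_lit 4)], (nat_lit 11), (nat_lit 0), (nat_lit 0), (nat_lit 5)⟩) (BT.leaf ⟨[(nat_lit 0), (nat_lit 1), (nat_lit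 6), (nat_lit 5), (nat_lit 1), (nat_lit 5), (nat_lit 1), (nat_lit 4), (nat_lit 5), (nat_lit 4), (nat_lit 6)], (nat_lit 11), (nat_lit 1), (nat_lit 1), (nat_lit 5)⟩)))) (BT.node (nat_lit 64) (BT.node (nat_lit 63) (BT.leaf ⟨[(nat_lit 0), (nat_lit 4), (nat_lit 1), (nat_lit 5), (nat_lit 1), (nat_lit 5), (nat_lit 6), (nat_lit 1), (nat_lit 6), (nat_lit 4), (nat_lit 5)], (nat_lit 30), (nat_lit 2), (nat_lit 1), (nat_lit 5)⟩) (BT.leaf ⟨[(nat_lit 6), (nat_lit 4), (nat_lit 5), (nat_lit 4), (nat_lit 1), (nat_lit 5), (nat_lit 1), (nat_lit 5), (nat_lit 6), (nat_lit 1)], (nat_lit 30), (nat_lit 9), (nat_lit 0), (nat_lit 5)⟩)) (BT.node (nat_lit 65) (BT.leaf ⟨[(nat_lit 0), (nat_lit 3), (nat_lit 5), (nat_lit 1), (nat_lit 5), (nat_lit 2), (nat_lit 1), (nat_lit 3), (nat_lit 5), (nat_lit 1), (nat_lit 4), (nat_lit 5), (nat_lit 4), (nat_lit 5), (nat_lit 2), (nat_lit 1)], (nat_lit 32), (nat_lit 6), (nat_lit 1), (nat_lit 5)⟩) (BT.node (nat_lit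 66) (BT.leaf ⟨[(nat_lit 1), (nat_lit 2), (nat_lit 1), (nat_lit 2), (nat_lit 1), (nat_lit 2)], (nat_lit 5), (nat_lit 0), (nat_lit 0), (nat_lit 5)⟩) (BT.leaf ⟨[(nat_lit 1), (nat_lit 5), (nat_lit 1), (nat_lit 5), (nat_lit 6), (nat_lit 1), (nat_lit 6), (nat_lit 4), (nat_lit 5), (nat_lit 4)], (nat_lit 30), (nat_lit 3), (nat_lit 0), (nat_lit 4)⟩))))) (BT.node (nat_lit 72) (BT.node (nat_lit 69) (BT.node (nat_lit 68) (BT.leaf ⟨[(nat_lit 1), (nat_lit 4), (nat_lit 5), (nat_lit 4), (nat_lit 6), (nat_lit 1), (nat_lit 6), (nat_lit 5), (nat_lit 1), (nat_lit 5)], (nat_lit 11), (nat_lit 6), (nat_lit 0), (nat_lit 5)⟩) (BT.leaf ⟨[(nat_lit 4), (nat_lit 6), (nat_lit 1), (nat_lit 6), (nat_lit 5), (nat_lit 1), (nat_lit 5), (nat_lit 1), (nat_lit 4), (nat_lit 5)], (nat_lit 11), (nat_lit 9), (nat_lit 0), (nat_lit 5)⟩)) (BT.node (nat_lit 70) (BT.leaf ⟨[(nat_lit 5), (nat_lit 4), (nat_lit 1), (nat_lit 5), (nat_lit 1), (nat_lit 5), (nat_lit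 6), (nat_lit 1), (nat_lit 6), (nat_lit 4)], (nat_lit 30), (nat_lit 1), (nat_lit 0), (nat_lit 5)⟩) (BT.node (nat_lit 71) (BT.leaf ⟨[(nat_lit 3), (nat_lit 5), (nat_lit 4), (nat_lit 5), (nat_lit 4), (nat_lit 1), (nat_lit 5), (nat_lit 2), (nat_lit 1), (nat_lit 3), (nat_lit 5), (nat_lit 1), (nat_lit 5), (nat_lit 2), (nat_lit 1)], (nat_lit 13), (nat_lit 10), (nat_lit 0), (nat_lit 5)⟩) (BT.leaf ⟨[(nat_lit 0), (nat_lit 4), (nat_lit 5), (nat_lit 4), (nat_lit 5), (nat_lit 2), (nat_lit 1), (nat_lit 3), (nat_lit 5), (nat_lit 1), (nat_lit 5), (nat_lit 2), (nat_lit 1), (nat_lit 3), (nat_lit 5), (nat_lit 1)], (nat_lit 32), (nat_lit 0), (nat_lit 1), (nat_lit 5)⟩)))) (BT.node (nat_lit 74) (BT.node (nat_lit 73) (BT.leaf ⟨[(nat_lit 0), (nat_lit 4), (nat_lit 1), (nat_lit 4), (nat_lit 1), (nat_lit 4), (nat_lit 1)], (nat_lit 7), (nat_lit 1), (nat_lit 1), (nat_lit 5)⟩) (BT.leaf ⟨[(nat_lit 0), (nat_lit 5), (nat_lit 1), (nat_lit 5), (nat_lit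 1), (nat_lit 4), (nat_lit 5), (nat_lit 4), (nat_lit 6), (nat_lit 1), (nat_lit 6)], (nat_lit 11), (nat_lit 3), (nat_lit 1), (nat_lit 5)⟩)) (BT.node (nat_lit 75) (BT.leaf ⟨[(nat_lit 0), (nat_lit 5), (nat_lit 2), (nat_lit 1), (nat_lit 3), (nat_lit 5), (nat_lit 4), (nat_lit 5), (nat_lit 4), (nat_lit 1), (nat_lit 5), (nat_lit 2), (nat_lit 1), (nat_lit 3), (nat_lit 5), (nat_lit 1)], (nat_lit 13), (nat_lit 7), (nat_lit 1), (nat_lit 5)⟩) (BT.node (nat_lit 76) (BT.leaf ⟨[(nat_lit 5), (nat_lit 4), (nat_lit 1), (nat_lit 5), (nat_lit 2), (nat_lit 1), (nat_lit 3), (nat_lit 5), (nat_lit 1), (nat_lit 5), (nat_lit 2), (nat_lit 1), (nat_lit 3), (nat_lit 5), (nat_lit 4)], (nat_lit 13), (nat_lit 13), (nat_lit 0), (nat_lit 5)⟩) (BT.leaf ⟨[(nat_lit 0), (nat_lit 5), (nat_lit 4), (nat_lit 5), (nat_lit 4), (nat_lit 5), (nat_lit 4), (nat_lit 5), (nat_lit 4)], (nat_lit 8), (nat_lit 0), (nat_lit 1), (nat_lit 5)⟩))))))))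
noncomputable def e5_hcs : List CW := [⟨[(nat_lit 5)], (nat_lit 0), (nat_lit 0), (nat_lit 0), (nat_lit 0)⟩, ⟨[(nat_lit 4)], (nat_lit 1), (nat_lit 0), (nat_lit 0), (nat_lit 0)⟩, ⟨[(nat_lit 2)], (nat_lit 2), (nat_lit 0), (nat_lit 0), (nat_lit 0)⟩, ⟨[(nat_lit 1)], (nat_lit 3), (nat_lit 0), (nat_lit 0), (nat_lit 0)⟩, ⟨[(nat_lit 5)], (nat_lit 4), (nat_lit 0), (nat_lit 0), (nat_lit 0)⟩, ⟨[(nat_lit 4)], (nat_lit 5), (nat_lit 0), (nat_lit 0), (nat_lit 0)⟩, ⟨[(nat_lit 3)], (nat_lit 6), (nat_lit 0), (nat_lit 0), (nat_lit 0)⟩, ⟨[(nat_lit 1)], (nat_lit 7), (nat_lit 0), (nat_lit 0), (nat_lit 0)⟩]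
noncomputable def e5_H (x j : Nat) : Bx (Nat → Nat → Nat) := mkH e5_L e5_pb.1 e5_e.get (lmap CW.w e5_hcs) (nat_lit 27) (nat_lit 28) (nat_lit 7) (nat_lit 256) (nat_lit 32768) (nat_lit 16383) x (e5_rots.get j)
noncomputable def e5_F (x b : Nat) : Bool := blkOK e5_H e5_ch (nat_lit 28) (nat_lit 256) (nat_lit 128) (nat_lit 8) (nat_lit 255) (nat_lit 21) (nat_lit 2097151) x b

theorem e5_k0_0 : allFrom (e5_F (nat_lit 0)) (nat_lit 0) (nat_lit 4) = true := by decide +kernel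
theorem e5_k1_0 : allFrom (e5_F (nat_lit 1)) (nat_lit 0) (nat_lit 4) = true := by decide +kernel
theorem e5_k2_0 : allFrom (e5_F (nat_lit 2)) (nat_lit 0) (nat_lit 4) = true := by decide +kernel
theorem e5_k3_0 : allFrom (e5_F (nat_lit 3)) (nat_lit 0) (nat_lit 4) = true := by decide +kernel
theorem e5_k4_0 : allFrom (e5_F (nat_lit 4)) (nat_lit 0) (nat_lit 4) = true := by decide +kernel
theorem e5_k5_0 : allFrom (e5_F (nat_lit 5)) (nat_lit 0) (nat_lit 4) = true := by decide +kernel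
theorem e5_k6_0 : allFrom (e5_F (nat_lit 6)) (nat_lit 0) (nat_lit 4) = true := by decide +kernel

noncomputable def e6_c0 : BT (Bx Nat) := (BT.leaf (Bx.mk (nat_lit 0x5a492741ca7818b5018d5630d8dd0d3819f3ec1d52591701987418c70196541a01ec975419e6c1c92ac9571e8b781897818a801887818785d86801837c1850000000000000000000000000000000000000000000000000000000000000000000000000000000000000000000000000000000000000000000000000000000000000000000000000000000000000000000000000000000000000000000000000000000000000000000000000000000000000000000000000000000000000000000000000000000000000000000000000000000000000000000000000000000000000)))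
noncomputable def e6_c1 : BT (Bx Nat) := (BT.leaf (Bx.mk (nat_lit 0x5a0d900000000000000000000ac38c91a528d1d3a578e000000000000000ad1ccb00cdad1cab00cb681cb0000000000000000000000000ac386ad1c1b00c23cc4032b3f2c3baac3b434c38ac3b330bbeac3b2303bcac3b13aa2c3ea2bb00bdb00bbb00b9b00b714ba73c3ad20ba540baf343b6383b544baa4a92954ba6103b0503a81c3ae3cba440ba350ba24439c501cc46b9d501c94039f48ba18039a84b9b6df1954396181a05a2982419e4289446293541924c18e9c38fa0c10a18518818cb0154b014898b899438ab0145ac384b0143ac383b0087b0085a8b82b018100000)))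
noncomputable def e6_c2 : BT (Bx Nat) := (BT.leaf (Bx.mk (nat_lit 0x95ccb00000b00d800000a55d6b00d5ad5d1a55d3b00d200000a944e0000062059ac50b65fcda55cc681ccb00c900000a944100000000000000000000a55c7ac5370c5b98c5ba106bf84538405c0905363c53d90835469bb9483e8c53c9852a90529945b48c733a0522285a19c5b02c52f906ac8852b9c6b294731a051a105199c5a80c527987244c6a3a472e3472da869234191a05a03419f9051c4c51ba472620725a868c1818ba0598241cc9851444513a451e4c1d2ac507a85909868e881d5a4516b014aac505a858aa0808b008f98506b0089a46849c503a4502b018100000)))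
noncomputable def e6_c3 : BT (Bx Nat) := (BT.leaf (Bx.mk (nat_lit 0x5d4cd0000000000a9655ad4d4b00d6a9652ad4d1b00d300000b00d00000000000a964a914d9ac48bad4c800000a95410000000000000000000000000a54c63c4bb0c4bd904b6407b9908b5404b7884be084bf88abcb00c0948ba8c4b8904b2884b1984aa904a9984ae307ada04a2304a18c4ac8c7ab9c634947b3984a610aa5a049a1c499944a4484a3a47b0244af9c49e3419da8612381919479c5239ba47a8147a79c49618195a860c2418b9c61448793a44a04c1d3a448fac4879448e881d6a4498b014ca4489ac4859c488b00909c886b008aa0484a0783a8782ac48100000)))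
noncomputable def e6_c4 : BT (Bx Nat) := (BT.leaf (Bx.mk (nat_lit 0x72159a5b98ac40c000000000000000696d26e253721d1a974a00000ad6cc596cbb00ce5e24da56d0681980000000000000000000000000a924200000ac4052dbc04d13fac4342cb39ac4332c437ac4322843dac43132abbac42aac429b00beb00bcb00bab00b84cb2e30b2d484302c42f410ac3cb2bb00b6b00b520b251042614b271c428a0b244441c50b2248b215019e3419d501a03419f48b23a0b1b71e196c41aa1c58181966c1cc24198a51144e80e541924c19175e0f7041048413a508db0157b014fb0147b0146ac404b0144ac403b0141b0088b0086a8b02b018100000)))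
noncomputable def e6_c5 : BT (Bx Nat) := (BT.leaf (Bx.mk (nat_lit 0xac28c000009dac100000000000000000000000000000000000000000000000000000000000000000000000000000000000000000000000000000000099b5704ec044eb6242b91edba0e73c12f3b182bd2ae3e1a73808eb7402bf4e735982afac2a7982adac2a5165309ccb42252e9ccb2a0ea3ac29ba0ea1ac2991e528b00b32a526b00b16029c9c2ac50ea29c2aa16518ac29022516ac28f66524b00ab5269ab00a9102a0ac28a1c29eac28962514ac2885418cac287b009fb009d6a50eac286b0159ac285b0097b0095b0093b0091b008db008ba4c84ac282b0083b018100000)))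
noncomputable def e6_c6 : BT (Bx Nat) := (BT.leaf (Bx.mk (nat_lit 0xa99cca98caac30b00000000000000000000a595300000a5952681d200000000000000000000000000000000000000000cfc0ac33544fbe103380c33912ebb4503a1103c1663d0d0374a7b6b00bfac32888330ac3268832e8d0332102f8cfb12cfadac31ca0f24ac31aa0f22b00b41ad27b00b226d259c32b6431b9c3294ce21ac310341ccac30f381c9b00ac6a623b00aa4ce19ac30a1819fac3092419dac30866613ac3074c18bb00a0b009eac3066e40dac305b0151b0098b0096b0094b0092b008eb008cac302a0e03b0084b018100000)))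
noncomputable def e6_c7 : BT (Bx Nat) := (BT.leaf (Bx.mk (nat_lit 0x9d3c39d2c19934500000993440823f0cd40a49bca4a3ba023ea023da49b8a4a37a023aa0239a49b5a0236a4233a8934a4231a8932ac220ac21fac21eac21da422ba892ca4229a892aac218ac217ac216ac215ac214ac213ac212ac211b00b0b00afb00aeb00adac20eac20dac20cac20bb00a8b00a7b00a6b00a5b00a4b00a3b00a2b00a19c20a9c209b009cb009bb009ab0099a0d90a0d0fa4986a4a05a0208a0207a4203a8904ac201b008200000)))
noncomputable def e6_p : BT (Bx Nat) := (BT.leaf (Bx.mk (nat_lit 0x1460ad5c251823540daa04a3016a21b5109458cd3c3516234c11a602a2c36940a8b09a404a2c1514228911040281c440c0ac10502892dc386a3434121a030cc48660c321219030c448620baa11d488ea0674e2ba619d28ac80763e3b1e1d8e8ec7066362b1a198c8ac60762e3b161d8a8ea5075263a921d488ea4065202a8f19478aa38751a3a8c1d458ea2865142a8919448a82064102a0719038a81c340e120619030a814640a2a050d02846104308098310c182408620428811c00000000)))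
noncomputable def e6_e0 : BT Nat := (BT.node (nat_lit 1860) (BT.node (nat_lit 1156) (BT.node (nat_lit 835) (BT.node (nat_lit 69) (BT.node (nat_lit 66) (BT.leaf (nat_lit 1048578)) (BT.node (nat_lit 68) (BT.leaf (nat_lit 786434)) (BT.leaf (nat_lit 524290)))) (BT.node (nat_lit 833) (BT.node (nat_lit 70) (BT.leaf (nat_lit 262146)) (BT.leaf (nat_lit 2))) (BT.node (nat_lit 834) (BT.leaf (nat_lit 336)) (BT.leaf (nat_lit 336))))) (BT.node (nat_lit 1091) (BT.node (nat_lit 1089) (BT.leaf (nat_lit 336)) (BT.node (nat_lit 1090) (BT.leaf (nat_lit 324)) (BT.leaf (nat_lit 324)))) (BT.node (nat_lit 1094) (BT.node (nat_lit 1092) (BT.leaf (nat_lit 324)) (BT.leaf (nat_lit 324))) (BT.node (nat_lit 1153) (BT.leaf (nat_lit 324)) (BT.leaf (nat_lit 356)))))) (BT.node (nat_lit 1412) (BT.node (nat_lit 1346) (BT.node (nat_lit 1157) (BT.leaf (nat_lit 356)) (BT.node (nat_lit 1345) (BT.leaf (nat_lit 356)) (BT.leaf (nat_lit 292)))) (BT.node (nat_lit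 1348) (BT.node (nat_lit 1347) (BT.leaf (nat_lit 292)) (BT.leaf (nat_lit 292))) (BT.node (nat_lit 1350) (BT.leaf (nat_lit 292)) (BT.leaf (nat_lit 292))))) (BT.node (nat_lit 1476) (BT.node (nat_lit 1474) (BT.node (nat_lit 1473) (BT.leaf (nat_lit 312)) (BT.leaf (nat_lit 304))) (BT.node (nat_lit 1475) (BT.leaf (nat_lit 304)) (BT.leaf (nat_lit 304)))) (BT.node (nat_lit 1858) (BT.node (nat_lit 1478) (BT.leaf (nat_lit 304)) (BT.leaf (nat_lit 304))) (BT.node (nat_lit 1859) (BT.leaf (nat_lit 328)) (BT.leaf (nat_lit 328))))))) (BT.node (nat_lit 4544) (BT.node (nat_lit 1990) (BT.node (nat_lit 1924) (BT.node (nat_lit 1862) (BT.leaf (nat_lit 328)) (BT.node (nat_lit 1921) (BT.leaf (nat_lit 328)) (BT.leaf (nat_lit 300)))) (BT.node (nat_lit 1987) (BT.node (nat_lit 1986) (BT.leaf (nat_lit 300)) (BT.leaf (nat_lit 332))) (BT.node (nat_lit 1988) (BT.leaf (nat_lit 332)) (BT.leaf (nat_lit 332))))) (BT.node (nat_lit 4224) (BT.node (nat_lit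 2052) (BT.node (nat_lit 2049) (BT.leaf (nat_lit 332)) (BT.leaf (nat_lit 308))) (BT.node (nat_lit 4160) (BT.leaf (nat_lit 308)) (BT.leaf (nat_lit 16901)))) (BT.node (nat_lit 4416) (BT.node (nat_lit 4352) (BT.leaf (nat_lit 17169)) (BT.leaf (nat_lit 16669))) (BT.node (nat_lit 4480) (BT.leaf (nat_lit 17181)) (BT.leaf (nat_lit 16653)))))) (BT.node (nat_lit 4928) (BT.node (nat_lit 4676) (BT.node (nat_lit 4673) (BT.leaf (nat_lit 16649)) (BT.node (nat_lit 4674) (BT.leaf (nat_lit 296)) (BT.leaf (nat_lit 296)))) (BT.node (nat_lit 4736) (BT.node (nat_lit 4678) (BT.leaf (nat_lit 296)) (BT.leaf (nat_lit 296))) (BT.node (nat_lit 4800) (BT.leaf (nat_lit 18441)) (BT.leaf (nat_lit 22793))))) (BT.node (nat_lit 5312) (BT.node (nat_lit 5056) (BT.node (nat_lit 4992) (BT.leaf (nat_lit 22797)) (BT.leaf (nat_lit 20233))) (BT.node (nat_lit 5120) (BT.leaf (nat_lit 22289)) (BT.leaf (nat_lit 22545)))) (BT.node (nat_lit 5568) (BT.node (nat_lit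 5504) (BT.leaf (nat_lit 20997)) (BT.leaf (nat_lit 21769))) (BT.node (nat_lit 5632) (BT.leaf (nat_lit 16661)) (BT.leaf (nat_lit 22281))))))))
noncomputable def e6_e : BT Nat := e6_e0
noncomputable def e6_cols : List (BT (Bx Nat)) := [e6_c0, e6_c1, e6_c2, e6_c3, e6_c4, e6_c5, e6_c6, e6_c7]
noncomputable def e6_ch (x j : Nat) : Bx Nat := chunkG e6_cols (nat_lit 1) x j
noncomputable def e6_L (x : Nat) : Bx (Nat → Nat) := lookG e6_ch (nat_lit 8) (nat_lit 255) (nat_lit 20) (nat_lit 1048575) x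
noncomputable def e6_pc (_ j : Nat) : Bx Nat := e6_p.get j
noncomputable def e6_pb : Bx (Nat → Nat) := lookG e6_pc (nat_lit 8) (nat_lit 255) (nat_lit 17) (nat_lit 131071) (nat_lit 0)
noncomputable def e6_rots : BT CW := (BT.node (nat_lit 47) (BT.node (nat_lit 23) (BT.node (nat_lit 11) (BT.node (nat_lit 5) (BT.node (nat_lit 2) (BT.node (nat_lit 1) (BT.leaf ⟨[], (nat_lit 1000000), (nat_lit 0), (nat_lit 0), (nat_lit 0)⟩) (BT.leaf ⟨[], (nat_lit 1000000), (nat_lit 0), (nat_lit 0), (nat_lit 1)⟩)) (BT.node (nat_lit 3) (BT.leaf ⟨[], (nat_lit 1000000), (nat_lit 0), (nat_lit 0), (nat_lit 2)⟩) (BT.node (nat_lit 4) (BT.leaf ⟨[(nat_lit 7), (nat_lit 7)], (nat_lit 4), (nat_lit 0), (nat_lit 0), (nat_lit 3)⟩) (BT.leaf ⟨[(nat_lit 5), (nat_lit 5)], (nat_lit 2), (nat_lit 0), (nat_lit 0), (nat_lit 3)⟩)))) (BT.node (nat_lit 8) (BT.node (nat_lit 6) (BT.leaf ⟨[(nat_lit 6), (nat_lit 6)], (nat_lit 3), (nat_lit 0), (nat_lit 0), (nat_lit 3)⟩)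 (BT.node (nat_lit 7) (BT.leaf ⟨[(nat_lit 1), (nat_lit 1)], (nat_lit 0), (nat_lit 0), (nat_lit 0), (nat_lit 3)⟩) (BT.leaf ⟨[(nat_lit 4), (nat_lit 4)], (nat_lit 1), (nat_lit 0), (nat_lit 0), (nat_lit 3)⟩))) (BT.node (nat_lit 9) (BT.leaf ⟨[(nat_lit 3), (nat_lit 2)], (nat_lit 23), (nat_lit 1), (nat_lit 0), (nat_lit 3)⟩) (BT.node (nat_lit 10) (BT.leaf ⟨[(nat_lit 2), (nat_lit 3)], (nat_lit 23), (nat_lit 0), (nat_lit 0), (nat_lit 3)⟩) (BT.leaf ⟨[(nat_lit 2), (nat_lit 2), (nat_lit 2)], (nat_lit 5), (nat_lit 0), (nat_lit 0), (nat_lit 3)⟩))))) (BT.node (nat_lit 17) (BT.node (nat_lit 14) (BT.node (nat_lit 12) (BT.leaf ⟨[(nat_lit 3), (nat_lit 6), (nat_lit 2), (nat_lit 6)], (nat_lit 11), (nat_lit 3), (nat_lit 0), (nat_lit 3)⟩) (BT.node (nat_lit 13) (BT.leaf ⟨[(nat_lit 2), (nat_lit 6), (nat_lit 3), (nat_lit 6)], (nat_lit 11), (nat_lit 1), (nat_lit 0), (nat_lit 3)⟩) (BT.leaf ⟨[(nat_lit 2), (nat_lit 7), (nat_lit 3), (nat_lit 7)],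 (nat_lit 14), (nat_lit 1), (nat_lit 0), (nat_lit 3)⟩))) (BT.node (nat_lit 15) (BT.leaf ⟨[(nat_lit 3), (nat_lit 7), (nat_lit 2), (nat_lit 7)], (nat_lit 14), (nat_lit 3), (nat_lit 0), (nat_lit 3)⟩) (BT.node (nat_lit 16) (BT.leaf ⟨[(nat_lit 2), (nat_lit 4), (nat_lit 2), (nat_lit 4)], (nat_lit 7), (nat_lit 1), (nat_lit 0), (nat_lit 3)⟩) (BT.leaf ⟨[(nat_lit 3), (nat_lit 4), (nat_lit 3), (nat_lit 4)], (nat_lit 32), (nat_lit 0), (nat_lit 0), (nat_lit 3)⟩)))) (BT.node (nat_lit 20) (BT.node (nat_lit 18) (BT.leaf ⟨[(nat_lit 7), (nat_lit 6), (nat_lit 7), (nat_lit 6), (nat_lit 5), (nat_lit 7), (nat_lit 5)], (nat_lit 17), (nat_lit 6), (nat_lit 0), (nat_lit 3)⟩) (BT.node (nat_lit 19) (BT.leaf ⟨[(nat_lit 7), (nat_lit 4), (nat_lit 7), (nat_lit 4)], (nat_lit 16), (nat_lit 0), (nat_lit 0), (nat_lit 3)⟩) (BT.leaf ⟨[(nat_lit 7), (nat_lit 1), (nat_lit 7), (nat_lit 1)], (nat_lit 15), (nat_lit 0), (nat_lit 0), (nat_lit 3)⟩))) (BT.node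 (nat_lit 21) (BT.leaf ⟨[(nat_lit 3), (nat_lit 3), (nat_lit 3)], (nat_lit 30), (nat_lit 0), (nat_lit 0), (nat_lit 3)⟩) (BT.node (nat_lit 22) (BT.leaf ⟨[(nat_lit 4), (nat_lit 7), (nat_lit 4), (nat_lit 7)], (nat_lit 16), (nat_lit 1), (nat_lit 0), (nat_lit 3)⟩) (BT.leaf ⟨[(nat_lit 1), (nat_lit 7), (nat_lit 1), (nat_lit 7)], (nat_lit 15), (nat_lit 1), (nat_lit 0), (nat_lit 3)⟩)))))) (BT.node (nat_lit 35) (BT.node (nat_lit 29) (BT.node (nat_lit 26) (BT.node (nat_lit 24) (BT.leaf ⟨[(nat_lit 1), (nat_lit 2), (nat_lit 1), (nat_lit 2), (nat_lit 1), (nat_lit 2)], (nat_lit 6), (nat_lit 0), (nat_lit 0), (nat_lit 3)⟩) (BT.node (nat_lit 25) (BT.leaf ⟨[(nat_lit 5), (nat_lit 6), (nat_lit 7), (nat_lit 6), (nat_lit 7), (nat_lit 5), (nat_lit 7)], (nat_lit 42), (nat_lit 3), (nat_lit 0), (nat_lit 3)⟩) (BT.leaf ⟨[(nat_lit 7), (nat_lit 3), (nat_lit 7), (nat_lit 2)], (nat_lit 14), (nat_lit 2), (nat_lit 0), (nat_lit 3)⟩))) (BT.node (nat_lit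 27) (BT.leaf ⟨[(nat_lit 7), (nat_lit 2), (nat_lit 7), (nat_lit 3)], (nat_lit 14), (nat_lit 0), (nat_lit 0), (nat_lit 3)⟩) (BT.node (nat_lit 28) (BT.leaf ⟨[(nat_lit 6), (nat_lit 5), (nat_lit 6), (nat_lit 5), (nat_lit 6), (nat_lit 5)], (nat_lit 10), (nat_lit 1), (nat_lit 0), (nat_lit 3)⟩) (BT.leaf ⟨[(nat_lit 5), (nat_lit 7), (nat_lit 5), (nat_lit 7), (nat_lit 6), (nat_lit 7), (nat_lit 6)], (nat_lit 17), (nat_lit 3), (nat_lit 0), (nat_lit 3)⟩)))) (BT.node (nat_lit 32) (BT.node (nat_lit 30) (BT.leaf ⟨[(nat_lit 6), (nat_lit 7), (nat_lit 6), (nat_lit 7), (nat_lit 5), (nat_lit 7), (nat_lit 5)], (nat_lit 42), (nat_lit 4), (nat_lit 0), (nat_lit 3)⟩) (BT.node (nat_lit 31) (BT.leaf ⟨[(nat_lit 6), (nat_lit 3), (nat_lit 6), (nat_lit 2)], (nat_lit 11), (nat_lit 2), (nat_lit 0), (nat_lit 3)⟩) (BT.leaf ⟨[(nat_lit 6), (nat_lit 2), (nat_lit 6), (nat_lit 3)], (nat_lit 11), (nat_lit 0), (nat_lit 0), (nat_lit 3)⟩))) (BT.node (nat_lit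 33) (BT.leaf ⟨[(nat_lit 4), (nat_lit 5), (nat_lit 4), (nat_lit 5), (nat_lit 4), (nat_lit 5), (nat_lit 4), (nat_lit 5)], (nat_lit 9), (nat_lit 1), (nat_lit 0), (nat_lit 3)⟩) (BT.node (nat_lit 34) (BT.leaf ⟨[(nat_lit 4), (nat_lit 6), (nat_lit 4), (nat_lit 6), (nat_lit 4), (nat_lit 6), (nat_lit 4), (nat_lit 6)], (nat_lit 13), (nat_lit 0), (nat_lit 0), (nat_lit 3)⟩) (BT.leaf ⟨[(nat_lit 1), (nat_lit 1)], (nat_lit 0), (nat_lit 0), (nat_lit 0), (nat_lit 4)⟩))))) (BT.node (nat_lit 41) (BT.node (nat_lit 38) (BT.node (nat_lit 36) (BT.leaf ⟨[(nat_lit 4), (nat_lit 1), (nat_lit 4), (nat_lit 1), (nat_lit 4), (nat_lit 1)], (nat_lit 8), (nat_lit 1), (nat_lit 0), (nat_lit 4)⟩) (BT.node (nat_lit 37) (BT.leaf ⟨[(nat_lit 7), (nat_lit 4), (nat_lit 7), (nat_lit 4)], (nat_lit 16), (nat_lit 0), (nat_lit 0), (nat_lit 4)⟩) (BT.leaf ⟨[(nat_lit 7), (nat_lit 7)], (nat_lit 4), (nat_lit 0), (nat_lit 0), (nat_lit 4)⟩))) (BT.node (nat_lit 39) (BT.leaf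 ⟨[(nat_lit 7), (nat_lit 1), (nat_lit 7), (nat_lit 1)], (nat_lit 15), (nat_lit 0), (nat_lit 0), (nat_lit 4)⟩) (BT.node (nat_lit 40) (BT.leaf ⟨[(nat_lit 2), (nat_lit 4), (nat_lit 2), (nat_lit 4)], (nat_lit 7), (nat_lit 1), (nat_lit 0), (nat_lit 4)⟩) (BT.leaf ⟨[(nat_lit 3), (nat_lit 2)], (nat_lit 23), (nat_lit 1), (nat_lit 0), (nat_lit 4)⟩)))) (BT.node (nat_lit 44) (BT.node (nat_lit 42) (BT.leaf ⟨[(nat_lit 3), (nat_lit 4), (nat_lit 3), (nat_lit 4)], (nat_lit 32), (nat_lit 0), (nat_lit 0), (nat_lit 4)⟩) (BT.node (nat_lit 43) (BT.leaf ⟨[(nat_lit 2), (nat_lit 3)], (nat_lit 23), (nat_lit 0), (nat_lit 0), (nat_lit 4)⟩) (BT.leaf ⟨[(nat_lit 3), (nat_lit 3), (nat_lit 3)], (nat_lit 30), (nat_lit 0), (nat_lit 0), (nat_lit 4)⟩))) (BT.node (nat_lit 45) (BT.leaf ⟨[(nat_lit 4), (nat_lit 4)], (nat_lit 1), (nat_lit 0), (nat_lit 0), (nat_lit 4)⟩) (BT.node (nat_lit 46) (BT.leaf ⟨[(nat_lit 4), (nat_lit 3), (nat_lit 4), (nat_lit 3)],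 (nat_lit 32), (nat_lit 1), (nat_lit 0), (nat_lit 4)⟩) (BT.leaf ⟨[(nat_lit 1), (nat_lit 6), (nat_lit 4), (nat_lit 5), (nat_lit 4), (nat_lit 1), (nat_lit 5), (nat_lit 1), (nat_lit 5), (nat_lit 6)], (nat_lit 37), (nat_lit 8), (nat_lit 0), (nat_lit 3)⟩))))))) (BT.node (nat_lit 70) (BT.node (nat_lit 58) (BT.node (nat_lit 52) (BT.node (nat_lit 49) (BT.node (nat_lit 48) (BT.leaf ⟨[(nat_lit 1), (nat_lit 1)], (nat_lit 0), (nat_lit 0), (nat_lit 0), (nat_lit 5)⟩) (BT.leaf ⟨[(nat_lit 6), (nat_lit 3), (nat_lit 6), (nat_lit 2)], (nat_lit 11), (nat_lit 2), (nat_lit 0), (nat_lit 4)⟩)) (BT.node (nat_lit 50) (BT.leaf ⟨[(nat_lit 6), (nat_lit 6)], (nat_lit 3), (nat_lit 0), (nat_lit 0), (nat_lit 4)⟩) (BT.node (nat_lit 51) (BT.leaf ⟨[(nat_lit 6), (nat_lit 2), (nat_lit 6), (nat_lit 3)], (nat_lit 11), (nat_lit 0), (nat_lit 0), (nat_lit 4)⟩) (BT.leaf ⟨[(nat_lit 1), (nat_lit 3), (nat_lit 1), (nat_lit 3), (nat_lit 1), (nat_lit 3)], (nat_lit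 31), (nat_lit 1), (nat_lit 0), (nat_lit 4)⟩)))) (BT.node (nat_lit 55) (BT.node (nat_lit 53) (BT.leaf ⟨[(nat_lit 5), (nat_lit 4), (nat_lit 1), (nat_lit 5), (nat_lit 1), (nat_lit 5), (nat_lit 6), (nat_lit 1), (nat_lit 6), (nat_lit 4)], (nat_lit 37), (nat_lit 1), (nat_lit 0), (nat_lit 4)⟩) (BT.node (nat_lit 54) (BT.leaf ⟨[(nat_lit 5), (nat_lit 5)], (nat_lit 2), (nat_lit 0), (nat_lit 0), (nat_lit 4)⟩) (BT.leaf ⟨[(nat_lit 4), (nat_lit 2), (nat_lit 4), (nat_lit 2)], (nat_lit 7), (nat_lit 0), (nat_lit 0), (nat_lit 3)⟩))) (BT.node (nat_lit 56) (BT.leaf ⟨[(nat_lit 4), (nat_lit 4)], (nat_lit 1), (nat_lit 0), (nat_lit 0), (nat_lit 5)⟩) (BT.node (nat_lit 57) (BT.leaf ⟨[(nat_lit 2), (nat_lit 1), (nat_lit 3), (nat_lit 5), (nat_lit 1), (nat_lit 5), (nat_lit 2), (nat_lit 1), (nat_lit 3), (nat_lit 5), (nat_lit 1), (nat_lit 4), (nat_lit 5), (nat_lit 4), (nat_lit 5)], (nat_lit 43), (nat_lit 4), (nat_lit 0), (nat_lit 4)⟩) (BT.leaf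 ⟨[(nat_lit 0), (nat_lit 4), (nat_lit 5), (nat_lit 4), (nat_lit 5), (nat_lit 2), (nat_lit 1), (nat_lit 3), (nat_lit 5), (nat_lit 1), (nat_lit 5), (nat_lit 2), (nat_lit 1), (nat_lit 3), (nat_lit 5), (nat_lit 1)], (nat_lit 43), (nat_lit 0), (nat_lit 1), (nat_lit 3)⟩))))) (BT.node (nat_lit 64) (BT.node (nat_lit 61) (BT.node (nat_lit 59) (BT.leaf ⟨[(nat_lit 0), (nat_lit 3), (nat_lit 5), (nat_lit 1), (nat_lit 5), (nat_lit 2), (nat_lit 1), (nat_lit 3), (nat_lit 5), (nat_lit 4), (nat_lit 5), (nat_lit 4), (nat_lit 1), (nat_lit 5), (nat_lit 2), (nat_lit 1)], (nat_lit 18), (nat_lit 4), (nat_lit 1), (nat_lit 5)⟩) (BT.node (nat_lit 60) (BT.leaf ⟨[(nat_lit 4), (nat_lit 7), (nat_lit 4), (nat_lit 7)], (nat_lit 16), (nat_lit 1), (nat_lit 0), (nat_lit 5)⟩) (BT.leaf ⟨[(nat_lit 0), (nat_lit 4), (nat_lit 1), (nat_lit 4), (nat_lit 1), (nat_lit 4), (nat_lit 1)], (nat_lit 8), (nat_lit 1), (nat_lit 1), (nat_lit 5)⟩))) (BT.node (nat_lit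 62) (BT.leaf ⟨[(nat_lit 1), (nat_lit 7), (nat_lit 1), (nat_lit 7)], (nat_lit 15), (nat_lit 1), (nat_lit 0), (nat_lit 5)⟩) (BT.node (nat_lit 63) (BT.leaf ⟨[(nat_lit 2), (nat_lit 1), (nat_lit 2), (nat_lit 1), (nat_lit 2), (nat_lit 1)], (nat_lit 6), (nat_lit 1), (nat_lit 0), (nat_lit 5)⟩) (BT.leaf ⟨[(nat_lit 2), (nat_lit 2), (nat_lit 2)], (nat_lit 5), (nat_lit 0), (nat_lit 0), (nat_lit 4)⟩)))) (BT.node (nat_lit 67) (BT.node (nat_lit 65) (BT.leaf ⟨[(nat_lit 1), (nat_lit 3), (nat_lit 1), (nat_lit 3), (nat_lit 1), (nat_lit 3)], (nat_lit 31), (nat_lit 1), (nat_lit 0), (nat_lit 5)⟩) (BT.node (nat_lit 66) (BT.leaf ⟨[(nat_lit 4), (nat_lit 5), (nat_lit 4), (nat_lit 5), (nat_lit 4), (nat_lit 5), (nat_lit 4), (nat_lit 5)], (nat_lit 9), (nat_lit 1), (nat_lit 0), (nat_lit 5)⟩) (BT.leaf ⟨[(nat_lit 4), (nat_lit 6), (nat_lit 4), (nat_lit 6), (nat_lit 4), (nat_lit 6), (nat_lit 4), (nat_lit 6)], (nat_lit 13), (nat_lit 0), (nat_lit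 0), (nat_lit 5)⟩))) (BT.node (nat_lit 68) (BT.leaf ⟨[(nat_lit 4), (nat_lit 2), (nat_lit 4), (nat_lit 2)], (nat_lit 7), (nat_lit 0), (nat_lit 0), (nat_lit 4)⟩) (BT.node (nat_lit 69) (BT.leaf ⟨[(nat_lit 1), (nat_lit 4), (nat_lit 1), (nat_lit 4), (nat_lit 1), (nat_lit 4)], (nat_lit 8), (nat_lit 0), (nat_lit 0), (nat_lit 5)⟩) (BT.leaf ⟨[(nat_lit 0), (nat_lit 1), (nat_lit 2), (nat_lit 1), (nat_lit 2), (nat_lit 1), (nat_lit 2)], (nat_lit 6), (nat_lit 0), (nat_lit 1), (nat_lit 5)⟩)))))) (BT.node (nat_lit 82) (BT.node (nat_lit 76) (BT.node (nat_lit 73) (BT.node (nat_lit 71) (BT.leaf ⟨[(nat_lit 3), (nat_lit 7), (nat_lit 2), (nat_lit 7)], (nat_lit 14), (nat_lit 3), (nat_lit 0), (nat_lit 5)⟩) (BT.node (nat_lit 72) (BT.leaf ⟨[(nat_lit 6), (nat_lit 1), (nat_lit 6), (nat_lit 5), (nat_lit 1), (nat_lit 5), (nat_lit 1), (nat_lit 4), (nat_lit 5), (nat_lit 4)], (nat_lit 12), (nat_lit 0), (nat_lit 0), (nat_lit 5)⟩) (BT.leaf ⟨[(nat_lit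 0), (nat_lit 6), (nat_lit 1), (nat_lit 6), (nat_lit 4), (nat_lit 5), (nat_lit 4), (nat_lit 1), (nat_lit 5), (nat_lit 1), (nat_lit 5)], (nat_lit 37), (nat_lit 7), (nat_lit 1), (nat_lit 5)⟩))) (BT.node (nat_lit 74) (BT.leaf ⟨[(nat_lit 5), (nat_lit 6), (nat_lit 5), (nat_lit 6), (nat_lit 5), (nat_lit 6)], (nat_lit 10), (nat_lit 0), (nat_lit 0), (nat_lit 3)⟩) (BT.node (nat_lit 75) (BT.leaf ⟨[(nat_lit 0), (nat_lit 5), (nat_lit 6), (nat_lit 5), (nat_lit 6), (nat_lit 5), (nat_lit 6)], (nat_lit 10), (nat_lit 0), (nat_lit 1), (nat_lit 3)⟩) (BT.leaf ⟨[(nat_lit 6), (nat_lit 5), (nat_lit 7), (nat_lit 5), (nat_lit 7), (nat_lit 6), (nat_lit 7)], (nat_lit 17), (nat_lit 2), (nat_lit 0), (nat_lit 3)⟩)))) (BT.node (nat_lit 79) (BT.node (nat_lit 77) (BT.leaf ⟨[(nat_lit 5), (nat_lit 7), (nat_lit 6), (nat_lit 7), (nat_lit 6), (nat_lit 5), (nat_lit 7)], (nat_lit 17), (nat_lit 5), (nat_lit 0), (nat_lit 3)⟩) (BT.node (nat_lit 78) (BT.leaf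 ⟨[(nat_lit 5), (nat_lit 4), (nat_lit 5), (nat_lit 4), (nat_lit 5), (nat_lit 4), (nat_lit 5), (nat_lit 4)], (nat_lit 9), (nat_lit 0), (nat_lit 0), (nat_lit 3)⟩) (BT.leaf ⟨[(nat_lit 6), (nat_lit 4), (nat_lit 6), (nat_lit 4), (nat_lit 6), (nat_lit 4), (nat_lit 6), (nat_lit 4)], (nat_lit 13), (nat_lit 1), (nat_lit 0), (nat_lit 3)⟩))) (BT.node (nat_lit 80) (BT.leaf ⟨[(nat_lit 4), (nat_lit 6), (nat_lit 1), (nat_lit 6), (nat_lit 5), (nat_lit 1), (nat_lit 5), (nat_lit 1), (nat_lit 4), (nat_lit 5)], (nat_lit 12), (nat_lit 9), (nat_lit 0), (nat_lit 5)⟩) (BT.node (nat_lit 81) (BT.leaf ⟨[(nat_lit 1), (nat_lit 6), (nat_lit 5), (nat_lit 1), (nat_lit 5), (nat_lit 1), (nat_lit 4), (nat_lit 5), (nat_lit 4), (nat_lit 6)], (nat_lit 12), (nat_lit 1), (nat_lit 0), (nat_lit 5)⟩) (BT.leaf ⟨[(nat_lit 1), (nat_lit 5), (nat_lit 1), (nat_lit 4), (nat_lit 5), (nat_lit 4), (nat_lit 6), (nat_lit 1), (nat_lit 6), (nat_lit 5)], (nat_lit 12), (nat_lit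 4), (nat_lit 0), (nat_lit 3)⟩))))) (BT.node (nat_lit 88) (BT.node (nat_lit 85) (BT.node (nat_lit 83) (BT.leaf ⟨[(nat_lit 2), (nat_lit 1), (nat_lit 2), (nat_lit 1), (nat_lit 2), (nat_lit 1)], (nat_lit 6), (nat_lit 1), (nat_lit 0), (nat_lit 3)⟩) (BT.node (nat_lit 84) (BT.leaf ⟨[(nat_lit 1), (nat_lit 6), (nat_lit 5), (nat_lit 1), (nat_lit 5), (nat_lit 1), (nat_lit 4), (nat_lit 5), (nat_lit 4), (nat_lit 6)], (nat_lit 12), (nat_lit 1), (nat_lit 0), (nat_lit 3)⟩) (BT.leaf ⟨[(nat_lit 4), (nat_lit 1), (nat_lit 4), (nat_lit 1), (nat_lit 4), (nat_lit 1)], (nat_lit 8), (nat_lit 1), (nat_lit 0), (nat_lit 3)⟩))) (BT.node (nat_lit 86) (BT.leaf ⟨[(nat_lit 1), (nat_lit 4), (nat_lit 5), (nat_lit 4), (nat_lit 6), (nat_lit 1), (nat_lit 6), (nat_lit 5), (nat_lit 1), (nat_lit 5)], (nat_lit 12), (nat_lit 6), (nat_lit 0), (nat_lit 3)⟩) (BT.node (nat_lit 87) (BT.leaf ⟨[(nat_lit 1), (nat_lit 5), (nat_lit 2), (nat_lit 1), (nat_lit 3), (nat_lit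 5), (nat_lit 1), (nat_lit 4), (nat_lit 5), (nat_lit 4), (nat_lit 5), (nat_lit 2), (nat_lit 1), (nat_lit 3), (nat_lit 5)], (nat_lit 43), (nat_lit 8), (nat_lit 0), (nat_lit 3)⟩) (BT.leaf ⟨[(nat_lit 0), (nat_lit 5), (nat_lit 4), (nat_lit 1), (nat_lit 5), (nat_lit 1), (nat_lit 5), (nat_lit 6), (nat_lit 1), (nat_lit 6), (nat_lit 4)], (nat_lit 37), (nat_lit 1), (nat_lit 1), (nat_lit 3)⟩)))) (BT.node (nat_lit 91) (BT.node (nat_lit 89) (BT.leaf ⟨[(nat_lit 0), (nat_lit 5), (nat_lit 7), (nat_lit 5), (nat_lit 7), (nat_lit 6), (nat_lit 7), (nat_lit 6)], (nat_lit 17), (nat_lit 3), (nat_lit 1), (nat_lit 3)⟩) (BT.node (nat_lit 90) (BT.leaf ⟨[(nat_lit 6), (nat_lit 7), (nat_lit 5), (nat_lit 7), (nat_lit 5), (nat_lit 6), (nat_lit 7)], (nat_lit 42), (nat_lit 6), (nat_lit 0), (nat_lit 5)⟩) (BT.leaf ⟨[(nat_lit 5), (nat_lit 1), (nat_lit 4), (nat_lit 5), (nat_lit 4), (nat_lit 6), (nat_lit 1), (nat_lit 6), (nat_lit 5), (nat_lit 1)], (nat_lit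 12), (nat_lit 5), (nat_lit 0), (nat_lit 3)⟩))) (BT.node (nat_lit 92) (BT.leaf ⟨[(nat_lit 5), (nat_lit 4), (nat_lit 6), (nat_lit 1), (nat_lit 6), (nat_lit 5), (nat_lit 1), (nat_lit 5), (nat_lit 1), (nat_lit 4)], (nat_lit 12), (nat_lit 8), (nat_lit 0), (nat_lit 3)⟩) (BT.node (nat_lit 93) (BT.leaf ⟨[(nat_lit 6), (nat_lit 7), (nat_lit 5), (nat_lit 7), (nat_lit 5), (nat_lit 6), (nat_lit 7)], (nat_lit 42), (nat_lit 6), (nat_lit 0), (nat_lit 3)⟩) (BT.leaf ⟨[(nat_lit 5), (nat_lit 7), (nat_lit 5), (nat_lit 6), (nat_lit 7), (nat_lit 6), (nat_lit 7)], (nat_lit 42), (nat_lit 1), (nat_lit 0), (nat_lit 3)⟩))))))))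
noncomputable def e6_hcs : List CW := [⟨[(nat_lit 6)], (nat_lit 0), (nat_lit 0), (nat_lit 0), (nat_lit 0)⟩, ⟨[(nat_lit 5)], (nat_lit 1), (nat_lit 0), (nat_lit 0), (nat_lit 0)⟩, ⟨[(nat_lit 4)], (nat_lit 2), (nat_lit 0), (nat_lit 0), (nat_lit 0)⟩, ⟨[(nat_lit 2)], (nat_lit 3), (nat_lit 0), (nat_lit 0), (nat_lit 0)⟩, ⟨[(nat_lit 1)], (nat_lit 4), (nat_lit 0), (nat_lit 0), (nat_lit 0)⟩, ⟨[(nat_lit 6)], (nat_lit 5), (nat_lit 0), (nat_lit 0), (nat_lit 0)⟩, ⟨[(nat_lit 5)], (nat_lit 6), (nat_lit 0), (nat_lit 0), (nat_lit 0)⟩, ⟨[(nat_lit 4)], (nat_lit 7), (nat_lit 0), (nat_lit 0), (nat_lit 0)⟩, ⟨[(nat_lit 3)], (nat_lit 8), (nat_lit 0), (nat_lit 0), (nat_lit 0)⟩, ⟨[(nat_lit 1)], (nat_lit 9), (nat_lit 0), (nat_lit 0), (nat_lit 0)⟩]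
noncomputable def e6_H (x j : Nat) : Bx (Nat → Nat → Nat) := mkH e6_L e6_pb.1 e6_e.get (lmap CW.w e6_hcs) (nat_lit 64) (nat_lit 65) (nat_lit 8) (nat_lit 128) (nat_lit 16384) (nat_lit 8191) x (e6_rots.get j)
noncomputable def e6_F (x b : Nat) : Bool := blkOK e6_H e6_ch (nat_lit 65) (nat_lit 128) (nat_lit 128) (nat_lit 8) (nat_lit 255) (nat_lit 20) (nat_lit 1048575) x b

theorem e6_k0_0 : allFrom (e6_F (nat_lit 0)) (nat_lit 0) (nat_lit 4) = true := by decide +kernel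
theorem e6_k1_0 : allFrom (e6_F (nat_lit 1)) (nat_lit 0) (nat_lit 4) = true := by decide +kernel
theorem e6_k2_0 : allFrom (e6_F (nat_lit 2)) (nat_lit 0) (nat_lit 4) = true := by decide +kernel
theorem e6_k3_0 : allFrom (e6_F (nat_lit 3)) (nat_lit 0) (nat_lit 4) = true := by decide +kernel
theorem e6_k4_0 : allFrom (e6_F (nat_lit 4)) (nat_lit 0) (nat_lit 4) = true := by decide +kernel
theorem e6_k5_0 : allFrom (e6_F (nat_lit 5)) (nat_lit 0) (nat_lit 4) = true := by decide +kernel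
theorem e6_k6_0 : allFrom (e6_F (nat_lit 6)) (nat_lit 0) (nat_lit 4) = true := by decide +kernel
theorem e6_k7_0 : allFrom (e6_F (nat_lit 7)) (nat_lit 0) (nat_lit 4) = true := by decide +kernel

noncomputable def e7_c0 : BT (Bx Nat) := (BT.node (nat_lit 1) (BT.leaf (Bx.mk (nat_lit 0x240c86a81900d031f980637340c7c6018d8e0320a00655300c78a018c52031798063a500c589018a8c031da40655200c72c018e48031c3006382c0c6a6818fcb031a1a063e280c6ed018d470321140636680c684018b96032610062d580c965818a8e031638062b640c569818eca031632061a200c66c01918803193006452c0c5e7818c5d0362b406304c0c745018c5a7d0c42de8a00000000000170306300636600c28c81855a031838062b440c1478188cf0309a4069d85c178c81869b033f360608700c15081a0e2033d000000540c52581895a03193406306c0c5ad818aca03142c0625380c42c81890e03119a061d5c0c447818915030ea6061b340c4048187d9030f92061e640c3c60186ce0311b6061c680c28a01880b030eb6061b240c30b818bdb0313ba068b980c2f30183da030b92061a640c54e01899e03464e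060f9c0cf8d81865b0304380619740c2ed01814000002c0616640c3cc81871a030e1e0611680c26c0184900309940610680c20d01855d033cceaa19a13c2ed81829c0307b20609000000000000000000000000000000000000000000000000000000000000000000000000000000000000000000000000000000000000000000000000000000000000000000000000000000000000000000000000000000000000000000000000000000000000000000000000000000000000000000000000000000000000000000000000000000000000000000000000000000000000000000000000000000000000000000000000000000000000000000000000000000000000000000000000000000000000000000000000000000000000000000000000000000000000000000000000000000000000000000000000000000000000000000000000000000000000000000000000000000000000000000000000000000000000000000000000000000000000000000000000000000000000000000000000000000000000000000000000000000000000000000000000000000000000000000))) (BT.leaf (Bx.mk (nat_lit 0x440c30801960f0369220657400c587818752032b12065c1c0cd8381d305032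68a064b1c0cbc381d2c503238a06451c0cbe581974a0336900660300cb6581950c032d1606533a58da9ca9acb032ca606e53c0cd87819acb032c0806701660dc681bfd00335160656440cca58195d1031ca207101c0caa8819b4a032918065b280ca260196a58b35920654240ca69019a8703250e0649280c8c681920a03229a0647240c9030197c90323a718651c0ca038193ca03261c064e280c96701934903270c065e240c9a0000017037430060c61f632d01838c03129206425c0c28601a88e032028063661fa2c00000120307b006c0663d50b01a88e0308aedea7380d42d8185236e4fa2063c440d00000001c034730069a740c4e000001f7845800000500c885019008032c0c0636180c68401908d031eb00641))))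
noncomputable def e7_c1 : BT (Bx Nat) := (BT.node (nat_lit 1) (BT.leaf (Bx.mk (nat_lit 0x300cb00000000000064123f0000019048f80000000000000000000000000000000000000001980dac00000000000000000000000000000000000000019048dc000006412360000000000000000000000000000000000320919800000c82464000003209188000000000000000000000064122f0000019048b80000064122d0000019048b0000000000000000000000032091562d08d000001980c9800000660325c9310d980c9244c624accc5cc064600000324c4080000000000172643000000000000c930fa00000000000000000c82453980c8400000000000000000000003301906412250000019048900000064122300000000000000000660317cc062a0000032090f800000c8243c0000032090ee60312c824380000000000064121b0000019048680000066030d00000000000000000000000c824300000033018480000000000190485f04c664c988b9d2d1800000000000641216000001980b1c00000000000c8242790484b30160800000c824200000033015d80000000000190483f209056412092c54e87049cd315351412773c54eca8a995c0937ab066e7454e2a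049c09032e8c06606054d69049d4b09321612634c24a098493d4093918f46931e4d0a8492950924e605637824bcf8f97f302aca8f45ccc0aad981552f091ee6054a7880ace8495d77a2ae60540cc0a7ccbd14997928a82a675050cd9814db3029a2a0633540c64b0a98961430e6052ccc0a54b818b970316e60507c1a60b9048a3302806604fecc09f99813eb0152ce22821702474e8a0ef302776604eccc09d59813a3302736604e3cc09c398137f3026ee604dbcc09b198135b3026a6604d2cc09a19813373025be60242b4804d60489f302586604aecc09599812af0091e641211cc094b98128f30250e6049fcc093998126b3024ae60493cc091d98122320906660485cc090798120b3011066047fcc08f5684836e1f07660215a854179811e73023c641205bcd80f58a01b30104602a04c0d80788a00b30300800000))) (BT.leaf (Bx.mk (nat_lit 0x216bb38000008132d3235c4c00000000000c824c0f25d7800000000000000000ea6588000000000000000000000032092e8000000000000000000000064125a0000000000000000000000000000000000000000000000180e9990496000000000000000000000000000000000000000000000000000000000000000000000000000000000000000000000000000000000000000000000000000000000000000000000000000000000000000000000000000000000000000000000000000000000000000000000000000c9318600000324c5b6498b10000000000000000000000000000000000170361800000c9315000000324c538000008d32cc0000000000000000000000000000324c4c5ed6be00000000000324c488000000000000000031142180000000000000000000000000000))))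
noncomputable def e7_c2 : BT (Bx Nat) := (BT.node (nat_lit 1) (BT.leaf (Bx.mk (nat_lit 0x18aa2a40000000000000000000000315353d8813000000000000000000000000000000000000000000000000000000000019549400000000000000000000000000000000000000003301b48000000000011202780000000000000000000000000000000000914d45980d9a553500000000000012a9a75a7b6c0000000000000000000000000000000000000000324042800000000000000000000000000000000019201fc000000000000000000000000000000000000000000000000000000000000000000000000000000000000000000000000000000000000000000304079800000c101e8000000000000000000000011a0378000000000000000011aa33e3406c8000000000000000029543f48b291000000000000000005ea680cc06180000025403e800000000000000000000006480790000018203280000000000000000000000330162000000000000000000000005c809b0000000000025564c64160fc100f800000330145e602898840da0859b221035c018770840ed0861d6f0b2c860658b830e21819c210b3a06a473882ce558595640b2a441653882ca5105946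a0c35441669802cd108599e10b33441e60c82c8588617df0b2ec2205c982cb720596b01037e6054bc4487978615ec1032ca20648c48c720818a41230da1639b42c713078de4101b482435904069606142c0c27c8164e88309b18613230c25d62044802c8798097a71020c21640a03c7f3080f9e101ee01656c82c418860eee10255c2449942c9118591e40b23481645bc2c3f78587a40b0ec8161c902c377060cee0c194416318c2c611858beb0b14c02428c82c2b88609e70b12ce1624982c47585889e0b10e6023ac0485d8080b6512164ca42b9944558878433024b5e181acc091f68785b30113522014a43c27689049e1208e01618cc08f790582310c075a160ca8401748582ad0b04e6020db82c0f50581af1802e02004c03c0780580b30300800000))) (BT.leaf (Bx.mk (nat_lit 0x44d510c901a4000000000000000000000018b54140000000000000000000000000000000000c54e0400000000000000000000000000000000000000000000000000000000000000000000000000000000641658c10298000000000000000000000000000000000000000000000000000000000000000000000000000000000000000000016b53c000000000000000000000000000000000000000000000000000054813a00000000000000000000000000000000000000000000000000000000000000000000000000000000000000000000000000000000000000000000000000000000000000000000000000000000000000000c90142000000000000000000000000000000000000000095a97a00000000000000000000000000003040af00000000000182057c00000000000))))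
noncomputable def e7_c3 : BT (Bx Nat) := (BT.node (nat_lit 1) (BT.leaf (Bx.mk (nat_lit 0x62b4a7c539520000000000058933a000000000000000000000000000000000000000000000000000000000184e990000000000000000000000000000000000122d2880000000000000000000000245a4e80000000000000000000000000000000001980d9c0000000000089253c000000000000000000000018a722800000000000000000000000000000000000000000000000000000000000000000000000000660322000000000000000000000000000000000000000000000000000000000000000000000000000000000000000000000000000000030497b000000c125e2000000000000000000000011a4b4f30189c892d10000011a736a44967000000bd690000000000000000000000000000000000000000000000014a71fa3494c00000000000000000000000627e8bc924f20000000000000000000000000000330162800000000000000000000005c9294cc057c00000265048e27e7bc8281e000003301460000007c28e80851ce00a3944226d0828d91889aed0a3786066ebc28b220196210a3b84b0768428eb4851963343242686388d0c511a186b0a2ac814548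828a718514a30a28c21460c028bd90510a0112ec0145c9c44b728996b01138e6054cb828ad8898f2c11354a22698c4cd118899e3133356144aac289328712210a23c4144688288b6850e6d0a1c4c1c3790446d2898d65111a54144484388798097e60a20c426409c287f2850f9d0a1ee01457c02875905082e11285c264f94289d18513630a2646144bb4285d6850b63341648682b90d05578507ef0a0f48141d94283928506ec1314be1428c0284d90505680e12d026249c4c47608889f0e10e6023bc04c678088ca51318cab030955c5f7050633024be21c10cc092160505b30113d01414a02827605049d0a08e0141acc08f980503720a045c320ca4281750c82ae0e04e6020ebc380f58981ae0a02de1404bc280788980b20a00800000))) (BT.leaf (Bx.mk (nat_lit 0xc4fecd924b4a2808800000000000000000000000000000c56a058c04140000000000000000000000000000000000000000000000000000000000000000000000000000000000000000000000000627f4bc828b0000000000000000000000000000000000000000000000000000000000000000000000000000000000000000000015c04c00000000000000000000000000000000000000000000000000005b00f0000000000000000000000000000000000000000000000000000103bc200000000000000000000000000000000000000000000000000000000000000000000000000000000000000000000000000000000000000000000000000000000000000000000000000000000000000000000000000000000000000003049b1000000000001824d6c00000000000))))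
noncomputable def e7_c4 : BT (Bx Nat) := (BT.node (nat_lit 1) (BT.leaf (Bx.mk (nat_lit 0xc81c800000032071f800000c81c7c00000000000000000c81c7800000000000640e3b0000000000032071d0000000000000000032071c000000c81c6e0000032071b000000c81c6a00000000000640e340000019038cc00000640e320000019038c40000000000000000000000320717800000c81c5c00000320716800000c81c58000000000000000000000019038a800000000000c9811400000000000000000000000000000000000000000000017b130b0608ae0c117000000000000000005cc4bc0000000000000000064c07a0000019038a00000000000000000000000320712800000c81c4800000320711e6031e0000019038873018de60318c81c4190387c00000640e1e00000190387400000640e1c0000000000032070d800000c81c3400000000000640e1900000000000000000640e180000000000032070b8000000000000000000000050948b000001980b2c0000000000000000000000000000640e1300000000000320708e40e1000000000000320707800000000001980ae293e3c800000181ce40839cc7943a0c0e750834ec39c1dca913786066e241ce21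819c08913595226c1c1cda283994891311126611c1cc838398c69235112267224ccc3839a470734660564cc0abf98156f302ad660558cc0aaf981557302a8e6054dcc0a9198151b302a1e60541cc0a7f9814f33029de60539cc0a719814df3029ae60533cc0a639814bf3029766052dcc0a579814a730293da1a44cc0a0d98140b30280e604ffcc09fb9813ef3027ce604f7cc09e99813c730277e604edcc09d79813a730273e604e4cc09c59813833026f6604dccc09b398135f3026ae604d3cc09a398133ae1714e604b6b01c4d69c09f30258e604afcc095b70688b302556604a7cc094d981293302516604a0cc093b98126f3024c660494cc092379a85ae370ae21a0bcc090978b84b30240e60480cc08fb683836e3807640e07c01c2990381b03504de6e08cc041998082b20701e01a04cc040b88b80b30300800000))) (BT.leaf (Bx.mk (nat_lit 0x32072d000000000000000000000000000000000000000000000012c14b2a4a98b4147400000000000000000000000000000000000000000000000000000000000000000000000000000000000000000000000000000000000000000000000000000000000000000000000000000000000000000000000000000000000000000000000000000000000000000000000000000000000000000002af9200000019302b1560a5000000c9815200000000000000000c5c980b81aa717160800000000000000000000000000000000016b1428000000000000000016304380000000000000000190390c0000000000000000190390800000000000))))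
noncomputable def e7_c5 : BT (Bx Nat) := (BT.node (nat_lit 1) (BT.leaf (Bx.mk (nat_lit 0x4d369a0000000000000000000000000000000000509b4200000000000000000000000000000000000000002c07210000000000032081a00000000000000000000000000000000000000000000000000000000019040bc000000000000000000000000000000000000000000000000000000000c8205400000000000000000999d7000000000000000000b1363e00000000000000000000001926a06f6350e49a8000000000000000000649a7d00000000000324d3d4a9acb000000000000000000000000000000000000000000000000000000000000000000000000001980c7400000641020cc062c00000000000000000000001980c5000000000000cc062390406f30187800000000000000002b411866030e000000000000000000000000000015a08af30185000000000001980c2324d3c800000000001980b3000000000000cc059190405730163000000000000000003301616602c00000016208733015e000000000001980ae730146800000a020d590419c29a38d01065c820c48cb9bc1083ae410574020e590415a9082ae41052480cb348b1de80828544868cc04ed0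121329163a50104aa890c79809ce024234a4c44cc0ac198157320820e0105bc458b92920ff302a964103ccc04e19809baa1636d21039ac90a79809b29241ad24c69a8c89f51913ab30193e1066cc0a65493192a3224d46448acc05af841873029448106098908798140f3012ee410249020b520409632611660258cc09eb9813caa262a566438acc86f61807a80828e604e5a890675041372080d548499cc09b55120baa0823e41018a9092598133e62414e41016cc09699812ca52d1f660240c820271040f642410e604a8ac903f5840db2080856847ecc093d9808c72080766022cc8201b9808a3302434e2c14cc044721204b20804e6021dc820119808673010bd2720cb4200f41202b30108e6020fb8b41790400e73c02e04c04cc040d89200b30300800000))) (BT.leaf (Bx.mk (nat_lit 0x723acf540c4000000000000000000000000000000000000000000000000000000000000000000000000000000000000000000000000000000000000000000000000000000000000190416400000470b1a0000000000014847b80000000000000000000000000000000000000000000000000000000014c0bc00000000000000000000000000000000000000000000000000000000000000000000000000000000000000190412c000000000000000000000000000000000000000000000000000641045000000000002e7690daeac900000000000000000000000b5cd8e00000324d5500000000000000000000000000000000001926a9c00000649aa200000000000000000529b6a000001926a6000000000000000001926a4400000649a8e0000000000000000000000000000000000000000000000))))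
noncomputable def e7_c6 : BT (Bx Nat) := (BT.node (nat_lit 1) (BT.leaf (Bx.mk (nat_lit 0x19028ec00000000000c81474000000000004c91100000000000000000000000000000000000000000000000000000000002a251b00000000000000000000000000000000000000000000000000000000018928c4000000000000000000000000000000000000000000000000000000000c49458000000000000000000000000000032484400000000000000000000000000000c9210200000000000000000c920fe0000000000040067f00000000000316141800000000000000000000000000000000000000000000066031f00000000000000000000000000000000003205106603190000000000000000000000000000000000000000000000000001892874000004cb67d00000000000290519000000000000000000000000000000000014828b400000000000000000000000000000000000000019241e3301656602c900000000000000000000000c1217200000330161800000cc057f50287a5484e000000000001980ae80000066028a2c14e2f929d8e74a6160a6f7c94e674852cc233b8606753088e82019c8d032cce4a6c900ed4881da252c34c00a67848cd1490999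203b2ca58648014c509118e92130c60a5bcc0ac39815761252ec44a5a90ccc1082973302a9e6054ecc0a9398151f302a24c5854a4b0a540294ea2128ce664e8c8c9930294185c99440a4fa81461399922422234c0a4a657251182926a0515d4623f8cb08398141220521ca4a40a414892960f9f331ee604f8cc09ed9813ce8331bd20a359c14734ae396a211c560a1cb48c67521a6705c6d56584bc814336910baa434960b8cfacb08b90285ea0512504a28cc096b9812cf2050a5642299c944700288612c116604a9b8843f5a19fb05c4f585834c8141f90283b30117e40a0dcc045590283330243e60225c8141579084a62508e40a08cc043798086b3010c660216b8b01798084f20502e60210c8140981281b30104e60207c8140598080f30300800000))) (BT.leaf (Bx.mk (nat_lit 0x13b64f40000040913a0000000000020489800000000000000000000000000000000000000000000000000000000000000000000000000000000000000000000000000c814b200000000000000000000000000000000001a0a753414e4000000000000000000000000000000000000000000000000000000000000000000000000002648b50000000000010c45a00000000000000000000000000000000000000000cbf93400000430f65000000000000000000000000000000000000000034fe470000000000000000000000000000103a2f800000000000c9216000000000000450d500000000000032485400000000000000000000000000000000000000000000004ed8f000000000000000000000000000000000000000000000000000000000000000000000000000000000000000000000))))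
noncomputable def e7_c7 : BT (Bx Nat) := (BT.node (nat_lit 1) (BT.leaf (Bx.mk (nat_lit 0xc11eb0000003047abe08f56c5795b8a32b315e55000000c11ea20000000000000000000000000000000000000000c5794d8a3297047a1800000c11e83823d0315e51628ca1c11e78000002b5d72e2bc9dc51939823ce40000062bc9bc51935823cd70479a62bc980000010b2b6b04798800000c11e5e00000315e4a628c93c11e57823cab15e48e28c8e85919f823c9c0000000000000000000000000000000000000000000002f65465ec88b0000000000000000000000000000000000000000000000b91e2400000000000000000c11e0e0000000000000000000000000000000000000000c11e03823c030477de08efac51905823be73018e66031a000001823bbf0477762bc80c518ff823ba70477462bc7dc518f552ea7b04772608ee3c11dc1823b7c00000608edc00000000000000000608ed5c11da800000304768800000000001823b40000005c8ec5b91d88000000000000000000000000000031463c800000951907823aac00000608ea4c11d4600000304750000000000001823a7f04742800000c818d08cc9c320633640c634664dd9031872062ba00c76c818ac8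031cf20629cd156ac818a390313f20627660277c818999809d720624e40c48cc04e990311b30139640c4394acbf29517a23a2d640c40c8187f0831772061e66054fcc04e39809bf2061c640c37cc04db9030d730135e40c33cc04d59809a720618e60267c8185f9030bb30132e60264c8185998098b20615640c29cc04c131490b2061266025ccc04b790308f20610e602598cac771950eb2060fe60255cc04a990307730129640c1bcc04a190306b30126e40c19cc049798092b2060c660247c8182f980917301224e7428b0ac4f61509a62712e60241cc047d90304b3011ec85220cc04739030433011b640c0fcc04699808cb3011866022dcc045741385ad290ae40c0a989c2798088a53a08e6021ecc043961583ac2a06dc500cc8180d98085262704da5208bc9c0f98082ee2802e40c02bc9c0798081330300800000))) (BT.leaf (Bx.mk (nat_lit 0x13c49b0000000000000000000000000000062bd06c11a0a000000000000000000000000000000000000000000000102f556046aa62bcffc579fb8a33f1f47ad3e8f5900000000000315e7b800000000000000000000000000000000000000000000000000000000000000000000000000c579da00000315e75e28cea0000000000000000062bce700000000000315e7100000000000000000315e6f628cdd00000000000315e6c800000c579ae00000000000000000c579a78a334800000000000c5799c000000000000000000000000000000000000000000000000000000000000000000001923aa000000000000000000000000000000000000000017a32ee46d5c8000000000000000000000000000000000000000000000000000c5196f823d92f47b180000000000000000315e57e28cae))))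
noncomputable def e7_c8 : BT (Bx Nat) := (BT.node (nat_lit 1) (BT.leaf (Bx.mk (nat_lit 0x897d631222c315f56e288acc116ab822d5000000000000c57d4e00000000000608b48000000000003045a364083900000000000315f526288a3c57d458a22870459fe08b3ec57d3b8a2273301b5608b3b0000018afa6f1444d608b38000001822cdf0459b000000000001980da304599800000c57d298a224f04597000000c1165b822cb000000000000cc06cb822ca4000000000000000000000000000000000000000000000000000000000000000000000000000000000000000000032453e80000000000000000000000000000c51111822c18000000000000000000000021457fc28afec57d098a220f0457ee08afc0000018afa0400000000000c115ef8afa031443fe08aedc115d9822baf04575000000a9113f980c4304573e08ae6c115c5822b840000000000000000000000000000608ad7c115ac0000033018580000000000000000000000523c27a4744c00000000000608ab700000000000000000608aafc1155d8a21e304555608aa6c1154b90203f3015e800000000000000002b1c0ae08a823810d2fc69da004339c08647e34e7082189c1e3886065f7074de2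019790032a465c6c900ca4881940f1e3be4084d8478eb90212d203251e3a74c8108f10e9cb20422c67660cc0ac598157a02e2dc0345c7c10bb9020f9d1c2ce60550c810779020eb302a2e60542c8106d9814f72041a66053ac810659020c73013464082fcc04cd9814c320416e4082ccc04c79020ab30130cc3444c8105198141611a20c85c25c81047980969e3b1ee40820cc04af98095b3027864081ec8103b98094f2040de60251c8103598093f30127545e30cc049990206330124e60248a8bc5798091b2040b660243a0f51941ea2e30420640813cc047ef8d08b20408e6023cc810219808e33011bd65e1ccc046b9808cf3024ce6022ecc09259808a6a3d3cd63614cc044990202730110e6021fcc08fd70f03ae1d06d8360ab0bc17582033301095e3808b0100d69701f01b02d63404c4680790200730101000000))) (BT.leaf (Bx.mk (nat_lit 0x190217c00000000000000001902178000000000000000000000000000000000000000000000315f7de288fa00000000000000000000000000000000000000000c065f180cbc0000000000062bef40000018afbc40000000000000000190215000000000000c57dd38a23a320429000000c57dc99021400000062bee0c57dbd8a237400000000000c57db20000000000064084a0000018afb5715f69e288d200000000000315f67000000000000000000000000000000000000000000000000000000000000000000000000000000000000000000000000000000000000000000000000000000000000000000648a9e00000000000000000000000000000000000000000000000000018afadb2042100000000000000000000000000000))))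
noncomputable def e7_p : BT (Bx Nat) := (BT.node (nat_lit 1) (BT.leaf (Bx.mk (nat_lit 0x820090400607e240fc181f0903e0607a240f0681e0903b1a0762c0ec481d0d03a16074240e4881c8903906070240e0181b890370606c240d8181a89035060682c0d0481a03033120660c0c8481903031120620c0c048180302f1605e240bc18170902e0605a240b418160902c06056240ac18150b02a120540ba28574508e8919d1033a1c574302e8515d0a1ba1427408ce8115d020ba00573f8ce7f0dcfa439f4573e82e7a19cf42b9e8471482e2811c4e3389c57130ce2615c4a23894171208e2405c462388c171102e2111c4033880571008e1f11c3e0b878470f02e1d11c3a0b870470e02e1b15c362386c170d08e1a05c3243864470c86e1909c320b860470c02e1721c2e2385c370b84e17058f22b1e4363c84c78198f013058160a8cc15158280b04c460982c120582223040460802c0f2181e2303c360784c0f054140a8241a340f467168cc3d18c7a310b4611e4ae3c95c592b0f256164a63c94859288f24f1e49c3c93489260f24b224923c9207923912461e48a4410c7821070420a0822c100781f8f03e220783c0f0581d9103a220703c0dc781b110351e068440cc781911031220623c0bc88178f02e1e05a440b088160f02a220543b8a4771410e2805c483b890571190e231dc423b880871006e2009c3e3b878870e90e1d1dc364386c770d10e1a1dc342b864770c8ce1821c303b860570b8ee171982c43058560a86c15098283304c86098ac121d82243044160810c101d8202b03c76078cc0e1981c2b03466068aa0c194180a82875050ca09214122a82065040aa080d4101201c44030e8061100a3201413020c60314c062100872010c20120000000000)))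 (BT.leaf (Bx.mk (nat_lit 0x979032e5225ba14b688969072d20a59e4498049300325f224be3497c592f8925e224bc34978592f0925d124ba0c970492d8925b064b424968192c8d259164b224960892c0f2581a4b024960392c05258064ae3495c492b0d256124aa44954692a89254224a824950192989253064a444948492889250224a02493c49270924e0649a2493419260924b164962492889250924912490249201923892470648c249145922890ca061900c3181861830bc0e16c0c2c418580d0ac121542c2a47854890a81e150342a04854030a71614e0c2885850870a00613e2c278884e8b098161300c24c284891091161220c238582203043120844410868210b04212082241041))))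
noncomputable def e7_e0 : BT Nat := (BT.node (nat_lit 14464) (BT.node (nat_lit 9984) (BT.node (nat_lit 7744) (BT.node (nat_lit 6856) (BT.node (nat_lit 4801) (BT.node (nat_lit 70) (BT.node (nat_lit 68) (BT.node (nat_lit 66) (BT.leaf (nat_lit 1310722)) (BT.leaf (nat_lit 1048578))) (BT.node (nat_lit 69) (BT.leaf (nat_lit 786434)) (BT.leaf (nat_lit 524290)))) (BT.node (nat_lit 4417) (BT.node (nat_lit 71) (BT.leaf (nat_lit 262146)) (BT.leaf (nat_lit 2))) (BT.node (nat_lit 4481) (BT.leaf (nat_lit 848)) (BT.leaf (nat_lit 856))))) (BT.node (nat_lit 6790) (BT.node (nat_lit 6470) (BT.node (nat_lit 4865) (BT.leaf (nat_lit 892)) (BT.leaf (nat_lit 900))) (BT.node (nat_lit 6472) (BT.leaf (nat_lit 1216)) (BT.leaf (nat_lit 1216)))) (BT.node (nat_lit 6853) (BT.node (nat_lit 6792) (BT.leaf (nat_lit 1256)) (BT.leaf (nat_lit 1256))) (BT.node (nat_lit 6854) (BT.leaf (nat_lit 1352)) (BT.leaf (nat_lit 1268)))))) (BT.node (nat_lit 7046)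 (BT.node (nat_lit 6984) (BT.node (nat_lit 6977) (BT.node (nat_lit 6913) (BT.leaf (nat_lit 1268)) (BT.leaf (nat_lit 1420))) (BT.node (nat_lit 6982) (BT.leaf (nat_lit 1380)) (BT.leaf (nat_lit 1356)))) (BT.node (nat_lit 7043) (BT.node (nat_lit 7042) (BT.leaf (nat_lit 1288)) (BT.leaf (nat_lit 1324))) (BT.node (nat_lit 7044) (BT.leaf (nat_lit 1324)) (BT.leaf (nat_lit 1324))))) (BT.node (nat_lit 7172) (BT.node (nat_lit 7170) (BT.node (nat_lit 7048) (BT.leaf (nat_lit 1324)) (BT.leaf (nat_lit 1324))) (BT.node (nat_lit 7171) (BT.leaf (nat_lit 1328)) (BT.leaf (nat_lit 1328)))) (BT.node (nat_lit 7176) (BT.node (nat_lit 7174) (BT.leaf (nat_lit 1328)) (BT.leaf (nat_lit 1328))) (BT.node (nat_lit 7680) (BT.leaf (nat_lit 1328)) (BT.leaf (nat_lit 35353))))))) (BT.node (nat_lit 8960) (BT.node (nat_lit 8384) (BT.node (nat_lit 8128) (BT.node (nat_lit 8000) (BT.node (nat_lit 7808) (BT.leaf (nat_lit 32017)) (BT.leaf (nat_lit 30981)))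 (BT.node (nat_lit 8064) (BT.leaf (nat_lit 37129)) (BT.leaf (nat_lit 68361)))) (BT.node (nat_lit 8256) (BT.node (nat_lit 8192) (BT.leaf (nat_lit 48153)) (BT.leaf (nat_lit 40213))) (BT.node (nat_lit 8320) (BT.leaf (nat_lit 49945)) (BT.leaf (nat_lit 30753))))) (BT.node (nat_lit 8640) (BT.node (nat_lit 8512) (BT.node (nat_lit 8448) (BT.leaf (nat_lit 31257)) (BT.leaf (nat_lit 33041))) (BT.node (nat_lit 8576) (BT.leaf (nat_lit 53513)) (BT.leaf (nat_lit 32277)))) (BT.node (nat_lit 8832) (BT.node (nat_lit 8704) (BT.leaf (nat_lit 32281)) (BT.leaf (nat_lit 51481))) (BT.node (nat_lit 8896) (BT.leaf (nat_lit 36101)) (BT.leaf (nat_lit 37137)))))) (BT.node (nat_lit 9472) (BT.node (nat_lit 9216) (BT.node (nat_lit 9088) (BT.node (nat_lit 9024) (BT.leaf (nat_lit 38921)) (BT.leaf (nat_lit 30997))) (BT.node (nat_lit 9152) (BT.leaf (nat_lit 35589)) (BT.leaf (nat_lit 31497)))) (BT.node (nat_lit 9344) (BT.node (nat_lit 9280) (BT.leaf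 (nat_lit 31501)) (BT.leaf (nat_lit 67845))) (BT.node (nat_lit 9408) (BT.leaf (nat_lit 35617)) (BT.leaf (nat_lit 52485))))) (BT.node (nat_lit 9728) (BT.node (nat_lit 9600) (BT.node (nat_lit 9536) (BT.leaf (nat_lit 32781)) (BT.leaf (nat_lit 68869))) (BT.node (nat_lit 9664) (BT.leaf (nat_lit 31753)) (BT.leaf (nat_lit 31757)))) (BT.node (nat_lit 9856) (BT.node (nat_lit 9792) (BT.leaf (nat_lit 37133)) (BT.leaf (nat_lit 35873))) (BT.node (nat_lit 9920) (BT.leaf (nat_lit 37641)) (BT.leaf (nat_lit 32777)))))))) (BT.node (nat_lit 12038) (BT.node (nat_lit 11008) (BT.node (nat_lit 10496) (BT.node (nat_lit 10240) (BT.node (nat_lit 10112) (BT.node (nat_lit 10048) (BT.leaf (nat_lit 32025)) (BT.leaf (nat_lit 73233))) (BT.node (nat_lit 10176) (BT.leaf (nat_lit 43289)) (BT.leaf (nat_lit 40965)))) (BT.node (nat_lit 10368) (BT.node (nat_lit 10304) (BT.leaf (nat_lit 32029)) (BT.leaf (nat_lit 49429))) (BT.node (nat_lit 10432) (BT.leaf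 (nat_lit 42773)) (BT.leaf (nat_lit 32541))))) (BT.node (nat_lit 10752) (BT.node (nat_lit 10624) (BT.node (nat_lit 10560) (BT.leaf (nat_lit 32797)) (BT.leaf (nat_lit 32545))) (BT.node (nat_lit 10688) (BT.leaf (nat_lit 32801)) (BT.leaf (nat_lit 70917)))) (BT.node (nat_lit 10880) (BT.node (nat_lit 10816) (BT.leaf (nat_lit 40469)) (BT.leaf (nat_lit 71185))) (BT.node (nat_lit 10944) (BT.leaf (nat_lit 33057)) (BT.leaf (nat_lit 33309)))))) (BT.node (nat_lit 11520) (BT.node (nat_lit 11264) (BT.node (nat_lit 11136) (BT.node (nat_lit 11072) (BT.leaf (nat_lit 70405)) (BT.leaf (nat_lit 49681))) (BT.node (nat_lit 11200) (BT.leaf (nat_lit 33569)) (BT.leaf (nat_lit 33825)))) (BT.node (nat_lit 11392) (BT.node (nat_lit 11328) (BT.leaf (nat_lit 73497)) (BT.leaf (nat_lit 46609))) (BT.node (nat_lit 11456) (BT.leaf (nat_lit 37397)) (BT.leaf (nat_lit 37401))))) (BT.node (nat_lit 11840) (BT.node (nat_lit 11648) (BT.node (nat_lit 11584)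 (BT.leaf (nat_lit 39189)) (BT.leaf (nat_lit 39193))) (BT.node (nat_lit 11712) (BT.leaf (nat_lit 73989)) (BT.leaf (nat_lit 34849)))) (BT.node (nat_lit 11968) (BT.node (nat_lit 11904) (BT.leaf (nat_lit 69917)) (BT.leaf (nat_lit 47385))) (BT.node (nat_lit 12032) (BT.leaf (nat_lit 32005)) (BT.leaf (nat_lit 32021))))))) (BT.node (nat_lit 13376) (BT.node (nat_lit 12608) (BT.node (nat_lit 12352) (BT.node (nat_lit 12160) (BT.node (nat_lit 12096) (BT.leaf (nat_lit 764)) (BT.leaf (nat_lit 32033))) (BT.node (nat_lit 12288) (BT.leaf (nat_lit 74265)) (BT.leaf (nat_lit 43025)))) (BT.node (nat_lit 12480) (BT.node (nat_lit 12416) (BT.leaf (nat_lit 33029)) (BT.leaf (nat_lit 33045))) (BT.node (nat_lit 12544) (BT.leaf (nat_lit 71941)) (BT.leaf (nat_lit 35613))))) (BT.node (nat_lit 12864) (BT.node (nat_lit 12736) (BT.node (nat_lit 12672) (BT.leaf (nat_lit 40973)) (BT.leaf (nat_lit 34069))) (BT.node (nat_lit 12800) (BT.leaf (nat_lit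 34309)) (BT.leaf (nat_lit 34581)))) (BT.node (nat_lit 13248) (BT.node (nat_lit 13184) (BT.leaf (nat_lit 74773)) (BT.leaf (nat_lit 40205))) (BT.node (nat_lit 13312) (BT.leaf (nat_lit 62233)) (BT.leaf (nat_lit 36381)))))) (BT.node (nat_lit 13888) (BT.node (nat_lit 13632) (BT.node (nat_lit 13504) (BT.node (nat_lit 13440) (BT.leaf (nat_lit 37149)) (BT.leaf (nat_lit 91913))) (BT.node (nat_lit 13568) (BT.leaf (nat_lit 41485)) (BT.leaf (nat_lit 37661)))) (BT.node (nat_lit 13760) (BT.node (nat_lit 13696) (BT.leaf (nat_lit 37917)) (BT.leaf (nat_lit 37665))) (BT.node (nat_lit 13824) (BT.leaf (nat_lit 37921)) (BT.leaf (nat_lit 52489))))) (BT.node (nat_lit 14144) (BT.node (nat_lit 14016) (BT.node (nat_lit 13952) (BT.leaf (nat_lit 40201)) (BT.leaf (nat_lit 63001))) (BT.node (nat_lit 14080) (BT.leaf (nat_lit 50437)) (BT.leaf (nat_lit 38941)))) (BT.node (nat_lit 14272) (BT.node (nat_lit 14208) (BT.leaf (nat_lit 92421)) (BT.leaf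 (nat_lit 41481))) (BT.node (nat_lit 14336) (BT.leaf (nat_lit 39453)) (BT.node (nat_lit 14400) (BT.leaf (nat_lit 39709)) (BT.leaf (nat_lit 39457)))))))))) (BT.node (nat_lit 19008) (BT.node (nat_lit 16384) (BT.node (nat_lit 15424) (BT.node (nat_lit 14912) (BT.node (nat_lit 14720) (BT.node (nat_lit 14592) (BT.node (nat_lit 14528) (BT.leaf (nat_lit 39713)) (BT.leaf (nat_lit 39965))) (BT.node (nat_lit 14656) (BT.leaf (nat_lit 40221)) (BT.leaf (nat_lit 66849)))) (BT.node (nat_lit 14848) (BT.node (nat_lit 14784) (BT.leaf (nat_lit 39969)) (BT.leaf (nat_lit 40225))) (BT.node (nat_lit 14853) (BT.leaf (nat_lit 41245)) (BT.leaf (nat_lit 1172))))) (BT.node (nat_lit 15168) (BT.node (nat_lit 15040) (BT.node (nat_lit 14976) (BT.leaf (nat_lit 41501)) (BT.leaf (nat_lit 41249))) (BT.node (nat_lit 15104) (BT.leaf (nat_lit 41505)) (BT.leaf (nat_lit 41761)))) (BT.node (nat_lit 15296) (BT.node (nat_lit 15232) (BT.leaf (nat_lit 42017))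 (BT.leaf (nat_lit 42269))) (BT.node (nat_lit 15360) (BT.leaf (nat_lit 42525)) (BT.leaf (nat_lit 77837)))))) (BT.node (nat_lit 15936) (BT.node (nat_lit 15680) (BT.node (nat_lit 15552) (BT.node (nat_lit 15488) (BT.leaf (nat_lit 42765)) (BT.leaf (nat_lit 53013))) (BT.node (nat_lit 15616) (BT.leaf (nat_lit 43273)) (BT.leaf (nat_lit 42761)))) (BT.node (nat_lit 15808) (BT.node (nat_lit 15744) (BT.leaf (nat_lit 55829)) (BT.leaf (nat_lit 43277))) (BT.node (nat_lit 15872) (BT.leaf (nat_lit 42785)) (BT.leaf (nat_lit 69657))))) (BT.node (nat_lit 16192) (BT.node (nat_lit 16064) (BT.node (nat_lit 16000) (BT.leaf (nat_lit 43549)) (BT.leaf (nat_lit 44061))) (BT.node (nat_lit 16128) (BT.leaf (nat_lit 44317)) (BT.leaf (nat_lit 44065)))) (BT.node (nat_lit 16320) (BT.node (nat_lit 16256) (BT.leaf (nat_lit 44321)) (BT.leaf (nat_lit 45089))) (BT.node (nat_lit 16321) (BT.leaf (nat_lit 45345)) (BT.leaf (nat_lit 1320))))))) (BT.node (nat_lit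 17792) (BT.node (nat_lit 17088) (BT.node (nat_lit 16640) (BT.node (nat_lit 16512) (BT.node (nat_lit 16448) (BT.leaf (nat_lit 44573)) (BT.leaf (nat_lit 44829))) (BT.node (nat_lit 16576) (BT.leaf (nat_lit 73745)) (BT.leaf (nat_lit 58645)))) (BT.node (nat_lit 16768) (BT.node (nat_lit 16704) (BT.leaf (nat_lit 58649)) (BT.leaf (nat_lit 65285))) (BT.node (nat_lit 16832) (BT.leaf (nat_lit 46625)) (BT.leaf (nat_lit 46877))))) (BT.node (nat_lit 17408) (BT.node (nat_lit 17216) (BT.node (nat_lit 17152) (BT.leaf (nat_lit 37153)) (BT.leaf (nat_lit 48645))) (BT.node (nat_lit 17344) (BT.leaf (nat_lit 38917)) (BT.leaf (nat_lit 49173)))) (BT.node (nat_lit 17600) (BT.node (nat_lit 17536) (BT.leaf (nat_lit 40481)) (BT.leaf (nat_lit 47901))) (BT.node (nat_lit 17728) (BT.leaf (nat_lit 91653)) (BT.leaf (nat_lit 49425)))))) (BT.node (nat_lit 18368) (BT.node (nat_lit 17985) (BT.node (nat_lit 17920) (BT.node (nat_lit 17796) (BT.leaf (nat_lit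 70677)) (BT.leaf (nat_lit 1132))) (BT.node (nat_lit 17984) (BT.leaf (nat_lit 71441)) (BT.leaf (nat_lit 43033)))) (BT.node (nat_lit 18240) (BT.node (nat_lit 18176) (BT.leaf (nat_lit 1164)) (BT.leaf (nat_lit 43293))) (BT.node (nat_lit 18304) (BT.leaf (nat_lit 43541)) (BT.leaf (nat_lit 44049))))) (BT.node (nat_lit 18688) (BT.node (nat_lit 18496) (BT.node (nat_lit 18432) (BT.leaf (nat_lit 50965)) (BT.leaf (nat_lit 45317))) (BT.node (nat_lit 18560) (BT.leaf (nat_lit 59413)) (BT.leaf (nat_lit 48141)))) (BT.node (nat_lit 18880) (BT.node (nat_lit 18752) (BT.leaf (nat_lit 50693)) (BT.leaf (nat_lit 51205))) (BT.node (nat_lit 18944) (BT.leaf (nat_lit 52765)) (BT.leaf (nat_lit 58633)))))))) (BT.node (nat_lit 21185) (BT.node (nat_lit 20096) (BT.node (nat_lit 19584) (BT.node (nat_lit 19264) (BT.node (nat_lit 19136) (BT.node (nat_lit 19072) (BT.leaf (nat_lit 52769)) (BT.leaf (nat_lit 53789))) (BT.node (nat_lit 19200) (BT.leaf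 (nat_lit 54045)) (BT.leaf (nat_lit 53793)))) (BT.node (nat_lit 19392) (BT.node (nat_lit 19328) (BT.leaf (nat_lit 54049)) (BT.leaf (nat_lit 54561))) (BT.node (nat_lit 19520) (BT.leaf (nat_lit 55069)) (BT.leaf (nat_lit 55581))))) (BT.node (nat_lit 19840) (BT.node (nat_lit 19712) (BT.node (nat_lit 19648) (BT.leaf (nat_lit 58637)) (BT.leaf (nat_lit 55585))) (BT.node (nat_lit 19776) (BT.leaf (nat_lit 56605)) (BT.leaf (nat_lit 56861)))) (BT.node (nat_lit 19968) (BT.node (nat_lit 19904) (BT.leaf (nat_lit 56609)) (BT.leaf (nat_lit 56865))) (BT.node (nat_lit 20032) (BT.leaf (nat_lit 57377)) (BT.leaf (nat_lit 57885)))))) (BT.node (nat_lit 20672) (BT.node (nat_lit 20416) (BT.node (nat_lit 20224) (BT.node (nat_lit 20160) (BT.leaf (nat_lit 77833)) (BT.leaf (nat_lit 58401))) (BT.node (nat_lit 20352) (BT.leaf (nat_lit 59165)) (BT.leaf (nat_lit 59425)))) (BT.node (nat_lit 20544) (BT.node (nat_lit 20480) (BT.leaf (nat_lit 59681))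 (BT.leaf (nat_lit 59933))) (BT.node (nat_lit 20608) (BT.leaf (nat_lit 60189)) (BT.leaf (nat_lit 61461))))) (BT.node (nat_lit 20928) (BT.node (nat_lit 20800) (BT.node (nat_lit 20736) (BT.leaf (nat_lit 60701)) (BT.leaf (nat_lit 61465))) (BT.node (nat_lit 20864) (BT.leaf (nat_lit 61473)) (BT.leaf (nat_lit 61729)))) (BT.node (nat_lit 21056) (BT.node (nat_lit 20992) (BT.leaf (nat_lit 91417)) (BT.leaf (nat_lit 62497))) (BT.node (nat_lit 21120) (BT.leaf (nat_lit 92185)) (BT.leaf (nat_lit 72977))))))) (BT.node (nat_lit 22208) (BT.node (nat_lit 21568) (BT.node (nat_lit 21312) (BT.node (nat_lit 21248) (BT.node (nat_lit 21192) (BT.leaf (nat_lit 1400)) (BT.leaf (nat_lit 1400))) (BT.node (nat_lit 21256) (BT.leaf (nat_lit 84741)) (BT.leaf (nat_lit 1416)))) (BT.node (nat_lit 21440) (BT.node (nat_lit 21376) (BT.leaf (nat_lit 63253)) (BT.leaf (nat_lit 92697))) (BT.node (nat_lit 21504) (BT.leaf (nat_lit 92701)) (BT.leaf (nat_lit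 72729))))) (BT.node (nat_lit 21952) (BT.node (nat_lit 21824) (BT.node (nat_lit 21760) (BT.leaf (nat_lit 63261)) (BT.leaf (nat_lit 64033))) (BT.node (nat_lit 21888) (BT.leaf (nat_lit 64289)) (BT.leaf (nat_lit 64541)))) (BT.node (nat_lit 22080) (BT.node (nat_lit 22016) (BT.leaf (nat_lit 64797)) (BT.leaf (nat_lit 65309))) (BT.node (nat_lit 22144) (BT.leaf (nat_lit 87069)) (BT.leaf (nat_lit 87325)))))) (BT.node (nat_lit 22720) (BT.node (nat_lit 22464) (BT.node (nat_lit 22336) (BT.node (nat_lit 22272) (BT.leaf (nat_lit 66061)) (BT.leaf (nat_lit 75797))) (BT.node (nat_lit 22400) (BT.leaf (nat_lit 75801)) (BT.leaf (nat_lit 66825)))) (BT.node (nat_lit 22592) (BT.node (nat_lit 22528) (BT.leaf (nat_lit 66057)) (BT.leaf (nat_lit 78357))) (BT.node (nat_lit 22656) (BT.leaf (nat_lit 78361)) (BT.leaf (nat_lit 66829))))) (BT.node (nat_lit 22976) (BT.node (nat_lit 22848) (BT.node (nat_lit 22784) (BT.leaf (nat_lit 66845)) (BT.leaf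 (nat_lit 67101))) (BT.node (nat_lit 22912) (BT.leaf (nat_lit 53025)) (BT.leaf (nat_lit 91917)))) (BT.node (nat_lit 23104) (BT.node (nat_lit 23040) (BT.leaf (nat_lit 92949)) (BT.leaf (nat_lit 55841))) (BT.node (nat_lit 23168) (BT.leaf (nat_lit 91909)) (BT.node (nat_lit 23232) (BT.leaf (nat_lit 69653)) (BT.leaf (nat_lit 61957)))))))))))
noncomputable def e7_e : BT Nat := e7_e0
noncomputable def e7_cols : List (BT (Bx Nat)) := [e7_c0, e7_c1, e7_c2, e7_c3, e7_c4, e7_c5, e7_c6, e7_c7, e7_c8]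
noncomputable def e7_ch (x j : Nat) : Bx Nat := chunkG e7_cols (nat_lit 2) x j
noncomputable def e7_L (x : Nat) : Bx (Nat → Nat) := lookG e7_ch (nat_lit 8) (nat_lit 255) (nat_lit 23) (nat_lit 8388607) x
noncomputable def e7_pc (_ j : Nat) : Bx Nat := e7_p.get j
noncomputable def e7_pb : Bx (Nat → Nat) := lookG e7_pc (nat_lit 8) (nat_lit 255) (nat_lit 19) (nat_lit 524287) (nat_lit 0)
noncomputable def e7_rots : BT CW := (BT.node (nat_lit 77) (BT.node (nat_lit 38) (BT.node (nat_lit 19) (BT.node (nat_lit 9) (BT.node (nat_lit 4) (BT.node (nat_lit 2) (BT.node (nat_lit 1) (BT.leaf ⟨[], (nat_lit 1000000), (nat_lit 0), (nat_lit 0), (nat_lit 0)⟩) (BT.leaf ⟨[], (nat_lit 1000000), (nat_lit 0), (nat_lit 0), (nat_lit 1)⟩)) (BT.node (nat_lit 3) (BT.leaf ⟨[], (nat_lit 1000000), (nat_lit 0), (nat_lit 0), (nat_lit 2)⟩) (BT.leaf ⟨[(nat_lit 8), (nat_lit 8)], (nat_lit 5), (nat_lit 0), (nat_lit 0), (nat_lit 3)⟩))) (BT.node (nat_lit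 6) (BT.node (nat_lit 5) (BT.leaf ⟨[(nat_lit 6), (nat_lit 6)], (nat_lit 3), (nat_lit 0), (nat_lit 0), (nat_lit 3)⟩) (BT.leaf ⟨[(nat_lit 7), (nat_lit 7)], (nat_lit 4), (nat_lit 0), (nat_lit 0), (nat_lit 3)⟩)) (BT.node (nat_lit 7) (BT.leaf ⟨[(nat_lit 4), (nat_lit 4)], (nat_lit 1), (nat_lit 0), (nat_lit 0), (nat_lit 3)⟩) (BT.node (nat_lit 8) (BT.leaf ⟨[(nat_lit 5), (nat_lit 5)], (nat_lit 2), (nat_lit 0), (nat_lit 0), (nat_lit 3)⟩) (BT.leaf ⟨[(nat_lit 1), (nat_lit 1)], (nat_lit 0), (nat_lit 0), (nat_lit 0), (nat_lit 3)⟩))))) (BT.node (nat_lit 14) (BT.node (nat_lit 11) (BT.node (nat_lit 10) (BT.leaf ⟨[(nat_lit 3), (nat_lit 2)], (nat_lit 30), (nat_lit 1), (nat_lit 0), (nat_lit 3)⟩) (BT.leaf ⟨[(nat_lit 2), (nat_lit 3)], (nat_lit 30), (nat_lit 0), (nat_lit 0), (nat_lit 3)⟩)) (BT.node (nat_lit 12) (BT.leaf ⟨[(nat_lit 2), (nat_lit 2), (nat_lit 2)], (nat_lit 6), (nat_lit 0), (nat_lit 0), (nat_lit 3)⟩) (BT.node (nat_lit 13)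 (BT.leaf ⟨[(nat_lit 4), (nat_lit 7), (nat_lit 4), (nat_lit 7)], (nat_lit 17), (nat_lit 1), (nat_lit 0), (nat_lit 3)⟩) (BT.leaf ⟨[(nat_lit 3), (nat_lit 6), (nat_lit 2), (nat_lit 6)], (nat_lit 12), (nat_lit 3), (nat_lit 0), (nat_lit 3)⟩)))) (BT.node (nat_lit 16) (BT.node (nat_lit 15) (BT.leaf ⟨[(nat_lit 2), (nat_lit 6), (nat_lit 3), (nat_lit 6)], (nat_lit 12), (nat_lit 1), (nat_lit 0), (nat_lit 3)⟩) (BT.leaf ⟨[(nat_lit 2), (nat_lit 7), (nat_lit 3), (nat_lit 7)], (nat_lit 15), (nat_lit 1), (nat_lit 0), (nat_lit 3)⟩)) (BT.node (nat_lit 17) (BT.leaf ⟨[(nat_lit 3), (nat_lit 7), (nat_lit 2), (nat_lit 7)], (nat_lit 15), (nat_lit 3), (nat_lit 0), (nat_lit 3)⟩) (BT.node (nat_lit 18) (BT.leaf ⟨[(nat_lit 2), (nat_lit 8), (nat_lit 3), (nat_lit 8)], (nat_lit 19), (nat_lit 1), (nat_lit 0), (nat_lit 3)⟩) (BT.leaf ⟨[(nat_lit 3), (nat_lit 8), (nat_lit 2), (nat_lit 8)], (nat_lit 19), (nat_lit 3), (nat_lit 0), (nat_lit 3)⟩)))))) (BT.node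 (nat_lit 28) (BT.node (nat_lit 23) (BT.node (nat_lit 21) (BT.node (nat_lit 20) (BT.leaf ⟨[(nat_lit 1), (nat_lit 8), (nat_lit 1), (nat_lit 8)], (nat_lit 20), (nat_lit 1), (nat_lit 0), (nat_lit 3)⟩) (BT.leaf ⟨[(nat_lit 1), (nat_lit 7), (nat_lit 1), (nat_lit 7)], (nat_lit 16), (nat_lit 1), (nat_lit 0), (nat_lit 3)⟩)) (BT.node (nat_lit 22) (BT.leaf ⟨[(nat_lit 5), (nat_lit 7), (nat_lit 5), (nat_lit 8), (nat_lit 5), (nat_lit 8), (nat_lit 7)], (nat_lit 54), (nat_lit 1), (nat_lit 0), (nat_lit 3)⟩) (BT.leaf ⟨[(nat_lit 4), (nat_lit 8), (nat_lit 4), (nat_lit 8)], (nat_lit 21), (nat_lit 1), (nat_lit 0), (nat_lit 3)⟩))) (BT.node (nat_lit 25) (BT.node (nat_lit 24) (BT.leaf ⟨[(nat_lit 2), (nat_lit 4), (nat_lit 2), (nat_lit 4)], (nat_lit 8), (nat_lit 1), (nat_lit 0), (nat_lit 3)⟩) (BT.leaf ⟨[(nat_lit 3), (nat_lit 4), (nat_lit 3), (nat_lit 4)], (nat_lit 40), (nat_lit 0), (nat_lit 0), (nat_lit 3)⟩)) (BT.node (nat_lit 26) (BT.leaf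 ⟨[(nat_lit 8), (nat_lit 6), (nat_lit 8), (nat_lit 6), (nat_lit 8), (nat_lit 6)], (nat_lit 23), (nat_lit 0), (nat_lit 0), (nat_lit 3)⟩) (BT.node (nat_lit 27) (BT.leaf ⟨[(nat_lit 8), (nat_lit 4), (nat_lit 8), (nat_lit 4)], (nat_lit 21), (nat_lit 0), (nat_lit 0), (nat_lit 3)⟩) (BT.leaf ⟨[(nat_lit 8), (nat_lit 1), (nat_lit 8), (nat_lit 1)], (nat_lit 20), (nat_lit 0), (nat_lit 0), (nat_lit 3)⟩))))) (BT.node (nat_lit 33) (BT.node (nat_lit 30) (BT.node (nat_lit 29) (BT.leaf ⟨[(nat_lit 8), (nat_lit 3), (nat_lit 8), (nat_lit 2)], (nat_lit 19), (nat_lit 2), (nat_lit 0), (nat_lit 3)⟩) (BT.leaf ⟨[(nat_lit 8), (nat_lit 2), (nat_lit 8), (nat_lit 3)], (nat_lit 19), (nat_lit 0), (nat_lit 0), (nat_lit 3)⟩)) (BT.node (nat_lit 31) (BT.leaf ⟨[(nat_lit 1), (nat_lit 2), (nat_lit 1), (nat_lit 2), (nat_lit 1), (nat_lit 2)], (nat_lit 7), (nat_lit 0), (nat_lit 0), (nat_lit 3)⟩) (BT.node (nat_lit 32) (BT.leaf ⟨[(nat_lit 1), (nat_lit 3), (nat_lit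 1), (nat_lit 3), (nat_lit 1), (nat_lit 3)], (nat_lit 39), (nat_lit 1), (nat_lit 0), (nat_lit 3)⟩) (BT.leaf ⟨[(nat_lit 6), (nat_lit 8), (nat_lit 6), (nat_lit 8), (nat_lit 6), (nat_lit 8)], (nat_lit 23), (nat_lit 1), (nat_lit 0), (nat_lit 3)⟩)))) (BT.node (nat_lit 35) (BT.node (nat_lit 34) (BT.leaf ⟨[(nat_lit 6), (nat_lit 3), (nat_lit 6), (nat_lit 2)], (nat_lit 12), (nat_lit 2), (nat_lit 0), (nat_lit 3)⟩) (BT.leaf ⟨[(nat_lit 6), (nat_lit 2), (nat_lit 6), (nat_lit 3)], (nat_lit 12), (nat_lit 0), (nat_lit 0), (nat_lit 3)⟩)) (BT.node (nat_lit 36) (BT.leaf ⟨[(nat_lit 5), (nat_lit 8), (nat_lit 5), (nat_lit 7), (nat_lit 5), (nat_lit 7), (nat_lit 8)], (nat_lit 22), (nat_lit 1), (nat_lit 0), (nat_lit 3)⟩) (BT.node (nat_lit 37) (BT.leaf ⟨[(nat_lit 6), (nat_lit 5), (nat_lit 6), (nat_lit 5), (nat_lit 6), (nat_lit 5)], (nat_lit 11), (nat_lit 1), (nat_lit 0), (nat_lit 3)⟩) (BT.leaf ⟨[(nat_lit 5), (nat_lit 7), (nat_lit 8), (nat_lit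 5), (nat_lit 8), (nat_lit 5), (nat_lit 7)], (nat_lit 22), (nat_lit 5), (nat_lit 0), (nat_lit 3)⟩))))))) (BT.node (nat_lit 57) (BT.node (nat_lit 47) (BT.node (nat_lit 42) (BT.node (nat_lit 40) (BT.node (nat_lit 39) (BT.leaf ⟨[(nat_lit 7), (nat_lit 6), (nat_lit 5), (nat_lit 7), (nat_lit 5), (nat_lit 7), (nat_lit 6)], (nat_lit 18), (nat_lit 1), (nat_lit 0), (nat_lit 3)⟩) (BT.leaf ⟨[(nat_lit 7), (nat_lit 4), (nat_lit 7), (nat_lit 4)], (nat_lit 17), (nat_lit 0), (nat_lit 0), (nat_lit 3)⟩)) (BT.node (nat_lit 41) (BT.leaf ⟨[(nat_lit 7), (nat_lit 1), (nat_lit 7), (nat_lit 1)], (nat_lit 16), (nat_lit 0), (nat_lit 0), (nat_lit 3)⟩) (BT.leaf ⟨[(nat_lit 7), (nat_lit 3), (nat_lit 7), (nat_lit 2)], (nat_lit 15), (nat_lit 2), (nat_lit 0), (nat_lit 3)⟩))) (BT.node (nat_lit 44) (BT.node (nat_lit 43) (BT.leaf ⟨[(nat_lit 7), (nat_lit 2), (nat_lit 7), (nat_lit 3)], (nat_lit 15), (nat_lit 0), (nat_lit 0), (nat_lit 3)⟩) (BT.leaf ⟨[(nat_lit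 6), (nat_lit 7), (nat_lit 6), (nat_lit 5), (nat_lit 7), (nat_lit 5), (nat_lit 7)], (nat_lit 18), (nat_lit 0), (nat_lit 0), (nat_lit 3)⟩)) (BT.node (nat_lit 45) (BT.leaf ⟨[(nat_lit 5), (nat_lit 7), (nat_lit 5), (nat_lit 7), (nat_lit 6), (nat_lit 7), (nat_lit 6)], (nat_lit 18), (nat_lit 3), (nat_lit 0), (nat_lit 3)⟩) (BT.node (nat_lit 46) (BT.leaf ⟨[(nat_lit 8), (nat_lit 5), (nat_lit 7), (nat_lit 5), (nat_lit 7), (nat_lit 8), (nat_lit 5)], (nat_lit 22), (nat_lit 2), (nat_lit 0), (nat_lit 3)⟩) (BT.leaf ⟨[(nat_lit 8), (nat_lit 7), (nat_lit 5), (nat_lit 7), (nat_lit 5), (nat_lit 8), (nat_lit 5)], (nat_lit 54), (nat_lit 6), (nat_lit 0), (nat_lit 3)⟩))))) (BT.node (nat_lit 52) (BT.node (nat_lit 49) (BT.node (nat_lit 48) (BT.leaf ⟨[(nat_lit 5), (nat_lit 7), (nat_lit 6), (nat_lit 7), (nat_lit 6), (nat_lit 5), (nat_lit 7)], (nat_lit 18), (nat_lit 5), (nat_lit 0), (nat_lit 3)⟩) (BT.leaf ⟨[(nat_lit 6), (nat_lit 7), (nat_lit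 5), (nat_lit 7), (nat_lit 5), (nat_lit 6), (nat_lit 7)], (nat_lit 50), (nat_lit 6), (nat_lit 0), (nat_lit 3)⟩)) (BT.node (nat_lit 50) (BT.leaf ⟨[(nat_lit 5), (nat_lit 8), (nat_lit 7), (nat_lit 5), (nat_lit 7), (nat_lit 5), (nat_lit 8)], (nat_lit 54), (nat_lit 5), (nat_lit 0), (nat_lit 3)⟩) (BT.node (nat_lit 51) (BT.leaf ⟨[(nat_lit 6), (nat_lit 5), (nat_lit 7), (nat_lit 5), (nat_lit 7), (nat_lit 6), (nat_lit 7)], (nat_lit 18), (nat_lit 2), (nat_lit 0), (nat_lit 3)⟩) (BT.leaf ⟨[(nat_lit 3), (nat_lit 3), (nat_lit 3)], (nat_lit 38), (nat_lit 0), (nat_lit 0), (nat_lit 3)⟩)))) (BT.node (nat_lit 54) (BT.node (nat_lit 53) (BT.leaf ⟨[(nat_lit 4), (nat_lit 6), (nat_lit 4), (nat_lit 6), (nat_lit 4), (nat_lit 6), (nat_lit 4), (nat_lit 6)], (nat_lit 14), (nat_lit 0), (nat_lit 0), (nat_lit 3)⟩) (BT.leaf ⟨[(nat_lit 1), (nat_lit 6), (nat_lit 5), (nat_lit 1), (nat_lit 5), (nat_lit 1), (nat_lit 4), (nat_lit 5), (nat_lit 4), (nat_lit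 6)], (nat_lit 13), (nat_lit 1), (nat_lit 0), (nat_lit 3)⟩)) (BT.node (nat_lit 55) (BT.leaf ⟨[(nat_lit 4), (nat_lit 1), (nat_lit 4), (nat_lit 1), (nat_lit 4), (nat_lit 1)], (nat_lit 9), (nat_lit 1), (nat_lit 0), (nat_lit 3)⟩) (BT.node (nat_lit 56) (BT.leaf ⟨[(nat_lit 4), (nat_lit 2), (nat_lit 4), (nat_lit 2)], (nat_lit 8), (nat_lit 0), (nat_lit 0), (nat_lit 3)⟩) (BT.leaf ⟨[(nat_lit 5), (nat_lit 4), (nat_lit 6), (nat_lit 1), (nat_lit 6), (nat_lit 5), (nat_lit 1), (nat_lit 5), (nat_lit 1), (nat_lit 4)], (nat_lit 13), (nat_lit 8), (nat_lit 0), (nat_lit 3)⟩)))))) (BT.node (nat_lit 67) (BT.node (nat_lit 62) (BT.node (nat_lit 59) (BT.node (nat_lit 58) (BT.leaf ⟨[(nat_lit 7), (nat_lit 5), (nat_lit 7), (nat_lit 6), (nat_lit 7), (nat_lit 6), (nat_lit 5)], (nat_lit 18), (nat_lit 4), (nat_lit 0), (nat_lit 3)⟩) (BT.leaf ⟨[(nat_lit 8), (nat_lit 5), (nat_lit 8), (nat_lit 5), (nat_lit 7), (nat_lit 5), (nat_lit 7)], (nat_lit 22),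 (nat_lit 0), (nat_lit 0), (nat_lit 3)⟩)) (BT.node (nat_lit 60) (BT.leaf ⟨[(nat_lit 5), (nat_lit 4), (nat_lit 5), (nat_lit 4), (nat_lit 5), (nat_lit 4), (nat_lit 5), (nat_lit 4)], (nat_lit 10), (nat_lit 0), (nat_lit 0), (nat_lit 3)⟩) (BT.node (nat_lit 61) (BT.leaf ⟨[(nat_lit 8), (nat_lit 8)], (nat_lit 5), (nat_lit 0), (nat_lit 0), (nat_lit 5)⟩) (BT.leaf ⟨[(nat_lit 4), (nat_lit 8), (nat_lit 4), (nat_lit 8)], (nat_lit 21), (nat_lit 1), (nat_lit 0), (nat_lit 4)⟩)))) (BT.node (nat_lit 64) (BT.node (nat_lit 63) (BT.leaf ⟨[(nat_lit 3), (nat_lit 3), (nat_lit 3)], (nat_lit 38), (nat_lit 0), (nat_lit 0), (nat_lit 4)⟩) (BT.leaf ⟨[(nat_lit 2), (nat_lit 3)], (nat_lit 30), (nat_lit 0), (nat_lit 0), (nat_lit 4)⟩)) (BT.node (nat_lit 65) (BT.leaf ⟨[(nat_lit 5), (nat_lit 7), (nat_lit 5), (nat_lit 7), (nat_lit 8), (nat_lit 5), (nat_lit 8)], (nat_lit 22), (nat_lit 3), (nat_lit 0), (nat_lit 3)⟩) (BT.node (nat_lit 66) (BT.leaf ⟨[(nat_lit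 5), (nat_lit 5)], (nat_lit 2), (nat_lit 0), (nat_lit 0), (nat_lit 5)⟩) (BT.leaf ⟨[(nat_lit 6), (nat_lit 5), (nat_lit 7), (nat_lit 5), (nat_lit 7), (nat_lit 6), (nat_lit 7)], (nat_lit 18), (nat_lit 2), (nat_lit 0), (nat_lit 5)⟩))))) (BT.node (nat_lit 72) (BT.node (nat_lit 69) (BT.node (nat_lit 68) (BT.leaf ⟨[(nat_lit 8), (nat_lit 1), (nat_lit 8), (nat_lit 1)], (nat_lit 20), (nat_lit 0), (nat_lit 0), (nat_lit 4)⟩) (BT.leaf ⟨[(nat_lit 8), (nat_lit 8)], (nat_lit 5), (nat_lit 0), (nat_lit 0), (nat_lit 4)⟩)) (BT.node (nat_lit 70) (BT.leaf ⟨[(nat_lit 7), (nat_lit 1), (nat_lit 7), (nat_lit 1)], (nat_lit 16), (nat_lit 0), (nat_lit 0), (nat_lit 4)⟩) (BT.node (nat_lit 71) (BT.leaf ⟨[(nat_lit 7), (nat_lit 7)], (nat_lit 4), (nat_lit 0), (nat_lit 0), (nat_lit 4)⟩) (BT.leaf ⟨[(nat_lit 6), (nat_lit 6)], (nat_lit 3), (nat_lit 0), (nat_lit 0), (nat_lit 4)⟩)))) (BT.node (nat_lit 74) (BT.node (nat_lit 73) (BT.leaf ⟨[(nat_lit 3), (nat_lit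 2)], (nat_lit 30), (nat_lit 1), (nat_lit 0), (nat_lit 4)⟩) (BT.leaf ⟨[(nat_lit 4), (nat_lit 3), (nat_lit 4), (nat_lit 3)], (nat_lit 40), (nat_lit 1), (nat_lit 0), (nat_lit 4)⟩)) (BT.node (nat_lit 75) (BT.leaf ⟨[(nat_lit 1), (nat_lit 8), (nat_lit 1), (nat_lit 8)], (nat_lit 20), (nat_lit 1), (nat_lit 0), (nat_lit 4)⟩) (BT.node (nat_lit 76) (BT.leaf ⟨[(nat_lit 1), (nat_lit 1)], (nat_lit 0), (nat_lit 0), (nat_lit 0), (nat_lit 4)⟩) (BT.leaf ⟨[(nat_lit 5), (nat_lit 5)], (nat_lit 2), (nat_lit 0), (nat_lit 0), (nat_lit 4)⟩)))))))) (BT.node (nat_lit 115) (BT.node (nat_lit 96) (BT.node (nat_lit 86) (BT.node (nat_lit 81) (BT.node (nat_lit 79) (BT.node (nat_lit 78) (BT.leaf ⟨[(nat_lit 3), (nat_lit 6), (nat_lit 2), (nat_lit 6)], (nat_lit 12), (nat_lit 3), (nat_lit 0), (nat_lit 4)⟩) (BT.leaf ⟨[(nat_lit 0), (nat_lit 8), (nat_lit 3), (nat_lit 8), (nat_lit 2)], (nat_lit 19), (nat_lit 2), (nat_lit 1), (nat_lit 3)⟩)) (BT.node (nat_lit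 80) (BT.leaf ⟨[(nat_lit 3), (nat_lit 4), (nat_lit 3), (nat_lit 4)], (nat_lit 40), (nat_lit 0), (nat_lit 0), (nat_lit 5)⟩) (BT.leaf ⟨[(nat_lit 2), (nat_lit 6), (nat_lit 3), (nat_lit 6)], (nat_lit 12), (nat_lit 1), (nat_lit 0), (nat_lit 5)⟩))) (BT.node (nat_lit 83) (BT.node (nat_lit 82) (BT.leaf ⟨[(nat_lit 2), (nat_lit 7), (nat_lit 3), (nat_lit 7)], (nat_lit 15), (nat_lit 1), (nat_lit 0), (nat_lit 5)⟩) (BT.leaf ⟨[(nat_lit 2), (nat_lit 4), (nat_lit 2), (nat_lit 4)], (nat_lit 8), (nat_lit 1), (nat_lit 0), (nat_lit 4)⟩)) (BT.node (nat_lit 84) (BT.leaf ⟨[(nat_lit 2), (nat_lit 6), (nat_lit 3), (nat_lit 6)], (nat_lit 12), (nat_lit 1), (nat_lit 0), (nat_lit 4)⟩) (BT.node (nat_lit 85) (BT.leaf ⟨[(nat_lit 0), (nat_lit 8), (nat_lit 2), (nat_lit 8), (nat_lit 3)], (nat_lit 19), (nat_lit 0), (nat_lit 1), (nat_lit 3)⟩) (BT.leaf ⟨[(nat_lit 2), (nat_lit 4), (nat_lit 2), (nat_lit 4)], (nat_lit 8), (nat_lit 1), (nat_lit 0), (nat_lit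 5)⟩))))) (BT.node (nat_lit 91) (BT.node (nat_lit 88) (BT.node (nat_lit 87) (BT.leaf ⟨[(nat_lit 3), (nat_lit 6), (nat_lit 2), (nat_lit 6)], (nat_lit 12), (nat_lit 3), (nat_lit 0), (nat_lit 5)⟩) (BT.leaf ⟨[(nat_lit 3), (nat_lit 7), (nat_lit 2), (nat_lit 7)], (nat_lit 15), (nat_lit 3), (nat_lit 0), (nat_lit 5)⟩)) (BT.node (nat_lit 89) (BT.leaf ⟨[(nat_lit 2), (nat_lit 2), (nat_lit 2)], (nat_lit 6), (nat_lit 0), (nat_lit 0), (nat_lit 4)⟩) (BT.node (nat_lit 90) (BT.leaf ⟨[(nat_lit 3), (nat_lit 4), (nat_lit 3), (nat_lit 4)], (nat_lit 40), (nat_lit 0), (nat_lit 0), (nat_lit 4)⟩) (BT.leaf ⟨[(nat_lit 6), (nat_lit 4), (nat_lit 5), (nat_lit 4), (nat_lit 1), (nat_lit 5), (nat_lit 1), (nat_lit 5), (nat_lit 6), (nat_lit 1)], (nat_lit 45), (nat_lit 9), (nat_lit 0), (nat_lit 4)⟩)))) (BT.node (nat_lit 93) (BT.node (nat_lit 92) (BT.leaf ⟨[(nat_lit 6), (nat_lit 6)], (nat_lit 3), (nat_lit 0), (nat_lit 0), (nat_lit 5)⟩) (BT.leaf ⟨[(nat_lit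 7), (nat_lit 5), (nat_lit 7), (nat_lit 6), (nat_lit 7), (nat_lit 6), (nat_lit 5)], (nat_lit 18), (nat_lit 4), (nat_lit 0), (nat_lit 4)⟩)) (BT.node (nat_lit 94) (BT.leaf ⟨[(nat_lit 7), (nat_lit 4), (nat_lit 7), (nat_lit 4)], (nat_lit 17), (nat_lit 0), (nat_lit 0), (nat_lit 4)⟩) (BT.node (nat_lit 95) (BT.leaf ⟨[(nat_lit 8), (nat_lit 4), (nat_lit 8), (nat_lit 4)], (nat_lit 21), (nat_lit 0), (nat_lit 0), (nat_lit 4)⟩) (BT.leaf ⟨[(nat_lit 4), (nat_lit 4)], (nat_lit 1), (nat_lit 0), (nat_lit 0), (nat_lit 4)⟩)))))) (BT.node (nat_lit 105) (BT.node (nat_lit 100) (BT.node (nat_lit 98) (BT.node (nat_lit 97) (BT.leaf ⟨[(nat_lit 6), (nat_lit 1), (nat_lit 6), (nat_lit 4), (nat_lit 5), (nat_lit 4), (nat_lit 1), (nat_lit 5), (nat_lit 1), (nat_lit 5)], (nat_lit 45), (nat_lit 7), (nat_lit 0), (nat_lit 4)⟩) (BT.leaf ⟨[(nat_lit 4), (nat_lit 5), (nat_lit 4), (nat_lit 5), (nat_lit 4), (nat_lit 5), (nat_lit 4), (nat_lit 5)], (nat_lit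 10), (nat_lit 1), (nat_lit 0), (nat_lit 4)⟩)) (BT.node (nat_lit 99) (BT.leaf ⟨[(nat_lit 5), (nat_lit 1), (nat_lit 5), (nat_lit 6), (nat_lit 1), (nat_lit 6), (nat_lit 4), (nat_lit 5), (nat_lit 4), (nat_lit 1)], (nat_lit 45), (nat_lit 4), (nat_lit 0), (nat_lit 4)⟩) (BT.leaf ⟨[(nat_lit 7), (nat_lit 3), (nat_lit 7), (nat_lit 2)], (nat_lit 15), (nat_lit 2), (nat_lit 0), (nat_lit 4)⟩))) (BT.node (nat_lit 102) (BT.node (nat_lit 101) (BT.leaf ⟨[(nat_lit 7), (nat_lit 2), (nat_lit 7), (nat_lit 3)], (nat_lit 15), (nat_lit 0), (nat_lit 0), (nat_lit 4)⟩) (BT.leaf ⟨[(nat_lit 1), (nat_lit 7), (nat_lit 1), (nat_lit 7)], (nat_lit 16), (nat_lit 1), (nat_lit 0), (nat_lit 4)⟩)) (BT.node (nat_lit 103) (BT.leaf ⟨[(nat_lit 5), (nat_lit 4), (nat_lit 1), (nat_lit 5), (nat_lit 1), (nat_lit 5), (nat_lit 6), (nat_lit 1), (nat_lit 6), (nat_lit 4)], (nat_lit 45), (nat_lit 1), (nat_lit 0), (nat_lit 4)⟩) (BT.node (nat_lit 104) (BT.leaf ⟨[(nat_lit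 1), (nat_lit 5), (nat_lit 1), (nat_lit 4), (nat_lit 5), (nat_lit 4), (nat_lit 6), (nat_lit 1), (nat_lit 6), (nat_lit 5)], (nat_lit 13), (nat_lit 4), (nat_lit 0), (nat_lit 4)⟩) (BT.leaf ⟨[(nat_lit 1), (nat_lit 1)], (nat_lit 0), (nat_lit 0), (nat_lit 0), (nat_lit 5)⟩))))) (BT.node (nat_lit 110) (BT.node (nat_lit 107) (BT.node (nat_lit 106) (BT.leaf ⟨[(nat_lit 2), (nat_lit 8), (nat_lit 3), (nat_lit 8)], (nat_lit 19), (nat_lit 1), (nat_lit 0), (nat_lit 4)⟩) (BT.leaf ⟨[(nat_lit 1), (nat_lit 2), (nat_lit 1), (nat_lit 2), (nat_lit 1), (nat_lit 2)], (nat_lit 7), (nat_lit 0), (nat_lit 0), (nat_lit 4)⟩)) (BT.node (nat_lit 108) (BT.leaf ⟨[(nat_lit 6), (nat_lit 8), (nat_lit 6), (nat_lit 8), (nat_lit 6), (nat_lit 8)], (nat_lit 23), (nat_lit 1), (nat_lit 0), (nat_lit 4)⟩) (BT.node (nat_lit 109) (BT.leaf ⟨[(nat_lit 7), (nat_lit 6), (nat_lit 7), (nat_lit 6), (nat_lit 5), (nat_lit 7), (nat_lit 5)], (nat_lit 18), (nat_lit 6), (nat_lit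 0), (nat_lit 4)⟩) (BT.leaf ⟨[(nat_lit 0), (nat_lit 8), (nat_lit 5), (nat_lit 7), (nat_lit 5), (nat_lit 7), (nat_lit 8), (nat_lit 5)], (nat_lit 22), (nat_lit 2), (nat_lit 1), (nat_lit 4)⟩)))) (BT.node (nat_lit 112) (BT.node (nat_lit 111) (BT.leaf ⟨[(nat_lit 0), (nat_lit 4), (nat_lit 5), (nat_lit 4), (nat_lit 5), (nat_lit 4), (nat_lit 5), (nat_lit 4), (nat_lit 5)], (nat_lit 10), (nat_lit 1), (nat_lit 1), (nat_lit 5)⟩) (BT.leaf ⟨[(nat_lit 0), (nat_lit 4), (nat_lit 5), (nat_lit 4), (nat_lit 1), (nat_lit 5), (nat_lit 1), (nat_lit 5), (nat_lit 6), (nat_lit 1), (nat_lit 6)], (nat_lit 45), (nat_lit 0), (nat_lit 1), (nat_lit 5)⟩)) (BT.node (nat_lit 113) (BT.leaf ⟨[(nat_lit 4), (nat_lit 1), (nat_lit 4), (nat_lit 1), (nat_lit 4), (nat_lit 1)], (nat_lit 9), (nat_lit 1), (nat_lit 0), (nat_lit 4)⟩) (BT.node (nat_lit 114) (BT.leaf ⟨[(nat_lit 4), (nat_lit 5), (nat_lit 4), (nat_lit 6), (nat_lit 1), (nat_lit 6), (nat_lit 5), (nat_lit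 1), (nat_lit 5), (nat_lit 1)], (nat_lit 13), (nat_lit 7), (nat_lit 0), (nat_lit 4)⟩) (BT.leaf ⟨[(nat_lit 5), (nat_lit 1), (nat_lit 5), (nat_lit 1), (nat_lit 4), (nat_lit 5), (nat_lit 4), (nat_lit 6), (nat_lit 1), (nat_lit 6)], (nat_lit 13), (nat_lit 3), (nat_lit 0), (nat_lit 4)⟩))))))) (BT.node (nat_lit 134) (BT.node (nat_lit 124) (BT.node (nat_lit 119) (BT.node (nat_lit 117) (BT.node (nat_lit 116) (BT.leaf ⟨[(nat_lit 6), (nat_lit 2), (nat_lit 6), (nat_lit 3)], (nat_lit 12), (nat_lit 0), (nat_lit 0), (nat_lit 5)⟩) (BT.leaf ⟨[(nat_lit 5), (nat_lit 6), (nat_lit 1), (nat_lit 6), (nat_lit 4), (nat_lit 5), (nat_lit 4), (nat_lit 1), (nat_lit 5), (nat_lit 1)], (nat_lit 45), (nat_lit 6), (nat_lit 0), (nat_lit 4)⟩)) (BT.node (nat_lit 118) (BT.leaf ⟨[(nat_lit 5), (nat_lit 1), (nat_lit 4), (nat_lit 5), (nat_lit 4), (nat_lit 6), (nat_lit 1), (nat_lit 6), (nat_lit 5), (nat_lit 1)], (nat_lit 13), (nat_lit 5), (nat_lit 0), (nat_lit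 4)⟩) (BT.leaf ⟨[(nat_lit 3), (nat_lit 5), (nat_lit 1), (nat_lit 5), (nat_lit 2), (nat_lit 1), (nat_lit 3), (nat_lit 5), (nat_lit 1), (nat_lit 4), (nat_lit 5), (nat_lit 4), (nat_lit 5), (nat_lit 2), (nat_lit 1)], (nat_lit 56), (nat_lit 6), (nat_lit 0), (nat_lit 5)⟩))) (BT.node (nat_lit 121) (BT.node (nat_lit 120) (BT.leaf ⟨[(nat_lit 0), (nat_lit 3), (nat_lit 5), (nat_lit 1), (nat_lit 5), (nat_lit 2), (nat_lit 1), (nat_lit 3), (nat_lit 5), (nat_lit 1), (nat_lit 4), (nat_lit 5), (nat_lit 4), (nat_lit 5), (nat_lit 2), (nat_lit 1)], (nat_lit 56), (nat_lit 6), (nat_lit 1), (nat_lit 5)⟩) (BT.leaf ⟨[(nat_lit 1), (nat_lit 8), (nat_lit 1), (nat_lit 8)], (nat_lit 20), (nat_lit 1), (nat_lit 0), (nat_lit 5)⟩)) (BT.node (nat_lit 122) (BT.leaf ⟨[(nat_lit 1), (nat_lit 7), (nat_lit 1), (nat_lit 7)], (nat_lit 16), (nat_lit 1), (nat_lit 0), (nat_lit 5)⟩) (BT.node (nat_lit 123) (BT.leaf ⟨[(nat_lit 2), (nat_lit 1), (nat_lit 2), (nat_lit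 1), (nat_lit 2), (nat_lit 1)], (nat_lit 7), (nat_lit 1), (nat_lit 0), (nat_lit 5)⟩) (BT.leaf ⟨[(nat_lit 4), (nat_lit 1), (nat_lit 4), (nat_lit 1), (nat_lit 4), (nat_lit 1)], (nat_lit 9), (nat_lit 1), (nat_lit 0), (nat_lit 5)⟩))))) (BT.node (nat_lit 129) (BT.node (nat_lit 126) (BT.node (nat_lit 125) (BT.leaf ⟨[(nat_lit 0), (nat_lit 6), (nat_lit 5), (nat_lit 1), (nat_lit 5), (nat_lit 1), (nat_lit 4), (nat_lit 5), (nat_lit 4), (nat_lit 6), (nat_lit 1)], (nat_lit 13), (nat_lit 2), (nat_lit 1), (nat_lit 5)⟩) (BT.leaf ⟨[(nat_lit 0), (nat_lit 5), (nat_lit 4), (nat_lit 1), (nat_lit 5), (nat_lit 1), (nat_lit 5), (nat_lit 6), (nat_lit 1), (nat_lit 6), (nat_lit 4)], (nat_lit 45), (nat_lit 1), (nat_lit 1), (nat_lit 5)⟩)) (BT.node (nat_lit 127) (BT.leaf ⟨[(nat_lit 6), (nat_lit 5), (nat_lit 6), (nat_lit 5), (nat_lit 6), (nat_lit 5)], (nat_lit 11), (nat_lit 1), (nat_lit 0), (nat_lit 5)⟩) (BT.node (nat_lit 128) (BT.leaf ⟨[(nat_lit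 3), (nat_lit 8), (nat_lit 2), (nat_lit 8)], (nat_lit 19), (nat_lit 3), (nat_lit 0), (nat_lit 4)⟩) (BT.leaf ⟨[(nat_lit 5), (nat_lit 8), (nat_lit 5), (nat_lit 7), (nat_lit 5), (nat_lit 7), (nat_lit 8)], (nat_lit 22), (nat_lit 1), (nat_lit 0), (nat_lit 4)⟩)))) (BT.node (nat_lit 131) (BT.node (nat_lit 130) (BT.leaf ⟨[(nat_lit 4), (nat_lit 5), (nat_lit 4), (nat_lit 6), (nat_lit 1), (nat_lit 6), (nat_lit 5), (nat_lit 1), (nat_lit 5), (nat_lit 1)], (nat_lit 13), (nat_lit 7), (nat_lit 0), (nat_lit 5)⟩) (BT.leaf ⟨[(nat_lit 1), (nat_lit 5), (nat_lit 2), (nat_lit 1), (nat_lit 3), (nat_lit 5), (nat_lit 1), (nat_lit 4), (nat_lit 5), (nat_lit 4), (nat_lit 5), (nat_lit 2), (nat_lit 1), (nat_lit 3), (nat_lit 5)], (nat_lit 56), (nat_lit 8), (nat_lit 0), (nat_lit 3)⟩)) (BT.node (nat_lit 132) (BT.leaf ⟨[(nat_lit 5), (nat_lit 4), (nat_lit 1), (nat_lit 5), (nat_lit 2), (nat_lit 1), (nat_lit 3), (nat_lit 5), (nat_lit 1), (nat_lit 5),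 (nat_lit 2), (nat_lit 1), (nat_lit 3), (nat_lit 5), (nat_lit 4)], (nat_lit 24), (nat_lit 13), (nat_lit 0), (nat_lit 4)⟩) (BT.node (nat_lit 133) (BT.leaf ⟨[(nat_lit 5), (nat_lit 7), (nat_lit 5), (nat_lit 7), (nat_lit 8), (nat_lit 5), (nat_lit 8)], (nat_lit 22), (nat_lit 3), (nat_lit 0), (nat_lit 4)⟩) (BT.leaf ⟨[(nat_lit 6), (nat_lit 5), (nat_lit 7), (nat_lit 5), (nat_lit 7), (nat_lit 6), (nat_lit 7)], (nat_lit 18), (nat_lit 2), (nat_lit 0), (nat_lit 4)⟩)))))) (BT.node (nat_lit 144) (BT.node (nat_lit 139) (BT.node (nat_lit 136) (BT.node (nat_lit 135) (BT.leaf ⟨[(nat_lit 6), (nat_lit 3), (nat_lit 6), (nat_lit 2)], (nat_lit 12), (nat_lit 2), (nat_lit 0), (nat_lit 4)⟩) (BT.leaf ⟨[(nat_lit 6), (nat_lit 2), (nat_lit 6), (nat_lit 3)], (nat_lit 12), (nat_lit 0), (nat_lit 0), (nat_lit 4)⟩)) (BT.node (nat_lit 137) (BT.leaf ⟨[(nat_lit 7), (nat_lit 5), (nat_lit 7), (nat_lit 5), (nat_lit 8), (nat_lit 5), (nat_lit 8)], (nat_lit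 54), (nat_lit 0), (nat_lit 0), (nat_lit 3)⟩) (BT.node (nat_lit 138) (BT.leaf ⟨[(nat_lit 7), (nat_lit 7)], (nat_lit 4), (nat_lit 0), (nat_lit 0), (nat_lit 5)⟩) (BT.leaf ⟨[(nat_lit 0), (nat_lit 7), (nat_lit 6), (nat_lit 5), (nat_lit 7), (nat_lit 5), (nat_lit 7), (nat_lit 6)], (nat_lit 18), (nat_lit 1), (nat_lit 1), (nat_lit 3)⟩)))) (BT.node (nat_lit 141) (BT.node (nat_lit 140) (BT.leaf ⟨[(nat_lit 0), (nat_lit 1), (nat_lit 8), (nat_lit 1), (nat_lit 8)], (nat_lit 20), (nat_lit 1), (nat_lit 1), (nat_lit 3)⟩) (BT.leaf ⟨[(nat_lit 8), (nat_lit 5), (nat_lit 8), (nat_lit 7), (nat_lit 5), (nat_lit 7), (nat_lit 5)], (nat_lit 54), (nat_lit 4), (nat_lit 0), (nat_lit 3)⟩)) (BT.node (nat_lit 142) (BT.leaf ⟨[(nat_lit 5), (nat_lit 2), (nat_lit 1), (nat_lit 3), (nat_lit 5), (nat_lit 4), (nat_lit 5), (nat_lit 4), (nat_lit 1), (nat_lit 5), (nat_lit 2), (nat_lit 1), (nat_lit 3), (nat_lit 5), (nat_lit 1)], (nat_lit 24), (nat_lit 7), (nat_lit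 0), (nat_lit 4)⟩) (BT.node (nat_lit 143) (BT.leaf ⟨[(nat_lit 0), (nat_lit 5), (nat_lit 2), (nat_lit 1), (nat_lit 3), (nat_lit 5), (nat_lit 1), (nat_lit 5), (nat_lit 2), (nat_lit 1), (nat_lit 3), (nat_lit 5), (nat_lit 1), (nat_lit 4), (nat_lit 5), (nat_lit 4)], (nat_lit 56), (nat_lit 3), (nat_lit 1), (nat_lit 5)⟩) (BT.leaf ⟨[(nat_lit 6), (nat_lit 3), (nat_lit 6), (nat_lit 2)], (nat_lit 12), (nat_lit 2), (nat_lit 0), (nat_lit 5)⟩))))) (BT.node (nat_lit 149) (BT.node (nat_lit 146) (BT.node (nat_lit 145) (BT.leaf ⟨[(nat_lit 4), (nat_lit 7), (nat_lit 4), (nat_lit 7)], (nat_lit 17), (nat_lit 1), (nat_lit 0), (nat_lit 5)⟩) (BT.leaf ⟨[(nat_lit 4), (nat_lit 2), (nat_lit 4), (nat_lit 2)], (nat_lit 8), (nat_lit 0), (nat_lit 0), (nat_lit 5)⟩)) (BT.node (nat_lit 147) (BT.leaf ⟨[(nat_lit 4), (nat_lit 8), (nat_lit 4), (nat_lit 8)], (nat_lit 21), (nat_lit 1), (nat_lit 0), (nat_lit 5)⟩) (BT.node (nat_lit 148) (BT.leaf ⟨[(nat_lit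 4), (nat_lit 3), (nat_lit 4), (nat_lit 3)], (nat_lit 40), (nat_lit 1), (nat_lit 0), (nat_lit 3)⟩) (BT.leaf ⟨[(nat_lit 0), (nat_lit 7), (nat_lit 5), (nat_lit 8), (nat_lit 5), (nat_lit 8), (nat_lit 7), (nat_lit 5)], (nat_lit 54), (nat_lit 2), (nat_lit 1), (nat_lit 5)⟩)))) (BT.node (nat_lit 151) (BT.node (nat_lit 150) (BT.leaf ⟨[(nat_lit 0), (nat_lit 5), (nat_lit 6), (nat_lit 5), (nat_lit 6), (nat_lit 5), (nat_lit 6)], (nat_lit 11), (nat_lit 0), (nat_lit 1), (nat_lit 5)⟩) (BT.leaf ⟨[(nat_lit 5), (nat_lit 7), (nat_lit 8), (nat_lit 5), (nat_lit 8), (nat_lit 5), (nat_lit 7)], (nat_lit 22), (nat_lit 5), (nat_lit 0), (nat_lit 5)⟩)) (BT.node (nat_lit 152) (BT.leaf ⟨[(nat_lit 0), (nat_lit 5), (nat_lit 8), (nat_lit 5), (nat_lit 7), (nat_lit 5), (nat_lit 7), (nat_lit 8)], (nat_lit 22), (nat_lit 1), (nat_lit 1), (nat_lit 5)⟩) (BT.node (nat_lit 153) (BT.leaf ⟨[(nat_lit 7), (nat_lit 5), (nat_lit 8), (nat_lit 5), (nat_lit 8), (nat_lit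 7), (nat_lit 5)], (nat_lit 54), (nat_lit 2), (nat_lit 0), (nat_lit 5)⟩) (BT.leaf ⟨[(nat_lit 5), (nat_lit 6), (nat_lit 5), (nat_lit 6), (nat_lit 5), (nat_lit 6)], (nat_lit 11), (nat_lit 0), (nat_lit 0), (nat_lit 5)⟩)))))))))
noncomputable def e7_hcs : List CW := [⟨[(nat_lit 7)], (nat_lit 0), (nat_lit 0), (nat_lit 0), (nat_lit 0)⟩, ⟨[(nat_lit 6)], (nat_lit 1), (nat_lit 0), (nat_lit 0), (nat_lit 0)⟩, ⟨[(nat_lit 5)], (nat_lit 2), (nat_lit 0), (nat_lit 0), (nat_lit 0)⟩, ⟨[(nat_lit 4)], (nat_lit 3), (nat_lit 0), (nat_lit 0), (nat_lit 0)⟩, ⟨[(nat_lit 2)], (nat_lit 4), (nat_lit 0), (nat_lit 0), (nat_lit 0)⟩, ⟨[(nat_lit 1)], (nat_lit 5), (nat_lit 0), (nat_lit 0), (nat_lit 0)⟩, ⟨[(nat_lit 7)], (nat_lit 6), (nat_lit 0), (nat_lit 0), (nat_lit 0)⟩, ⟨[(nat_lit 6)], (nat_lit 7), (nat_lit 0), (nat_lit 0), (nat_lit 0)⟩, ⟨[(nat_lit 5)], (nat_lit 8), (nat_lit 0), (nat_lit 0), (nat_lit 0)⟩, ⟨[(nat_lit 4)], (nat_lit 9), (nat_lit 0),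 (nat_lit 0), (nat_lit 0)⟩, ⟨[(nat_lit 3)], (nat_lit 10), (nat_lit 0), (nat_lit 0), (nat_lit 0)⟩, ⟨[(nat_lit 1)], (nat_lit 11), (nat_lit 0), (nat_lit 0), (nat_lit 0)⟩]
noncomputable def e7_H (x j : Nat) : Bx (Nat → Nat → Nat) := mkH e7_L e7_pb.1 e7_e.get (lmap CW.w e7_hcs) (nat_lit 119) (nat_lit 120) (nat_lit 9) (nat_lit 512) (nat_lit 131072) (nat_lit 32767) x (e7_rots.get j)
noncomputable def e7_F (x b : Nat) : Bool := blkOK e7_H e7_ch (nat_lit 120) (nat_lit 512) (nat_lit 256) (nat_lit 8) (nat_lit 255) (nat_lit 23) (nat_lit 8388607) x b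

theorem e7_k0_0 : allFrom (e7_F (nat_lit 0)) (nat_lit 0) (nat_lit 8) = true := by decide +kernel
theorem e7_k1_0 : allFrom (e7_F (nat_lit 1)) (nat_lit 0) (nat_lit 8) = true := by decide +kernel
theorem e7_k2_0 : allFrom (e7_F (nat_lit 2)) (nat_lit 0) (nat_lit 8) = true := by decide +kernel
theorem e7_k3_0 : allFrom (e7_F (nat_lit 3)) (nat_lit 0) (nat_lit 8) = true := by decide +kernel
theorem e7_k4_0 : allFrom (e7_F (nat_lit 4)) (nat_lit 0) (nat_lit 8) = true := by decide +kernel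
theorem e7_k5_0 : allFrom (e7_F (nat_lit 5)) (nat_lit 0) (nat_lit 8) = true := by decide +kernel
theorem e7_k6_0 : allFrom (e7_F (nat_lit 6)) (nat_lit 0) (nat_lit 8) = true := by decide +kernel
theorem e7_k7_0 : allFrom (e7_F (nat_lit 7)) (nat_lit 0) (nat_lit 8) = true := by decide +kernel
theorem e7_k8_0 : allFrom (e7_F (nat_lit 8)) (nat_lit 0) (nat_lit 8) = true := by decide +kernel

noncomputable def N0_0 : Net := (Net.cons (nat_lit 1) (nat_lit 0x40440404045010044440000555500) (Net.cons (nat_lit 2) (nat_lit 0x2130002220010021210000101000) (Net.cons (nat_lit 4) (nat_lit 0x800000c0c060008080000010400) (Net.cons (nat_lit 8) (nat_lit 0x4000c000400020002000200000) (Net.cons (nat_lit 16) (nat_lit 0x4000002f000000022000000900) (Net.cons (nat_lit 32) (nat_lit 0x2000000000cd000000) (Net.cons (nat_lit 64) (nat_lit 0x20cd000000) (Net.cons (nat_lit 32) (nat_lit 0x402b2000000000cf200900) (Net.cons (nat_lit 16) (nat_lit 0x6a00006f2a0000222b00000950)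 (Net.cons (nat_lit 8) (nat_lit 0x4000c000400020002000200005) (Net.cons (nat_lit 4) (nat_lit 0x804000e0c040008080000010400) (Net.cons (nat_lit 2) (nat_lit 0x102230302012112022221010323200) (Net.cons (nat_lit 1) (nat_lit 0x44140114415004441410101555500) Net.nil)))))))))))))
noncomputable def N0_1 : Net := (Net.cons (nat_lit 1) (nat_lit 0x11001041100041010100404000000) (Net.cons (nat_lit 2) (nat_lit 0x2012000200012020200000000000) (Net.cons (nat_lit 4) (nat_lit 0x20008000800040000000000000000) (Net.cons (nat_lit 8) (nat_lit 0x20008000400000000000000000) (Net.cons (nat_lit 16) (nat_lit 0x40800000000000000000) (Net.cons (nat_lit 32) (nat_lit 1073741824) (Net.cons (nat_lit 64) (nat_lit 1073741824) (Net.cons (nat_lit 32) (nat_lit 0x800000000040000000) (Net.cons (nat_lit 16) (nat_lit 0x200000c0800000000000000000) (Net.cons (nat_lit 8) (nat_lit 0x20008000400000000000000000) (Net.cons (nat_lit 4) (nat_lit 0x2080c000a00040808080000000000)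 (Net.cons (nat_lit 2) (nat_lit 0x102112120211132021211212111100) (Net.cons (nat_lit 1) (nat_lit 0x100104100011104001011010111100) Net.nil)))))))))))))
noncomputable def N0_2 : Net := (Net.cons (nat_lit 1) (nat_lit 0x4540000055400000454000005540) (Net.cons (nat_lit 2) (nat_lit 0x10012001110102010001100000010) (Net.cons (nat_lit 4) (nat_lit 0x4040d000e00070008040100080000) (Net.cons (nat_lit 8) (nat_lit 0xa1002000010040004100400000) (Net.cons (nat_lit 16) (nat_lit 0x200000f5400000304000000100) (Net.cons (nat_lit 32) (nat_lit 0x20400000000005000000) (Net.cons (nat_lit 64) (nat_lit 0x204005000000) (Net.cons (nat_lit 32) (nat_lit 0x20f1400000000035400100) (Net.cons (nat_lit 16) (nat_lit 0x6a0000f5c6000070e000000180) (Net.cons (nat_lit 8) (nat_lit 0xa5002000110040004500400044) (Net.cons (nat_lit 4) (nat_lit 0x4040d000e00070808040100080001) (Net.cons (nat_lit 2) (nat_lit 0x110212021132122011021302112210) (Net.cons (nat_lit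 1) (nat_lit 0x15544101155504010555010005540) Net.nil)))))))))))))
noncomputable def N0_3 : Net := (Net.cons (nat_lit 1) (nat_lit 0x44040501450500440405050505044) (Net.cons (nat_lit 2) (nat_lit 0x100010100020100000000110202000) (Net.cons (nat_lit 32) (nat_lit 0x7fff100000000000bfff40) (Net.cons (nat_lit 4) (nat_lit 0x408000e04080e0008080b0e080800) (Net.cons (nat_lit 2) (nat_lit 0x100030100020100200000110202022) (Net.cons (nat_lit 1) (nat_lit 0x44040501450500440405050505044) Net.nil))))))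
noncomputable def N0_4 : Net := (Net.cons (nat_lit 2) (nat_lit 0x1002001000020010100000000000) (Net.cons (nat_lit 4) (nat_lit 0x80008000c0000000000000000) (Net.cons (nat_lit 8) (nat_lit 0xc000c000c00000000000000000) (Net.cons (nat_lit 16) (nat_lit 0x370000c0000000007f00000000) (Net.cons (nat_lit 32) (nat_lit 3221225472) (Net.cons (nat_lit 64) (nat_lit 3221225472) (Net.cons (nat_lit 32) (nat_lit 0x37c00000000000c07f0000) (Net.cons (nat_lit 16) (nat_lit 0x370000ffc80000007f0000ff80) (Net.cons (nat_lit 8) (nat_lit 0xc000c000c00000000000000000) (Net.cons (nat_lit 4) (nat_lit 0x60c000a000c0006060000000000) (Net.cons (nat_lit 2) (nat_lit 0x1310020201010013130202010100) (Net.cons (nat_lit 1) (nat_lit 0x41514051405054115150505050511) Net.nil))))))))))))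
noncomputable def N0_5 : Net := (Net.cons (nat_lit 2) (nat_lit 0x20000000220000002200000020) (Net.cons (nat_lit 4) (nat_lit 0x800000800060000080800080000) (Net.cons (nat_lit 8) (nat_lit 0x8008000780080000800800000) (Net.cons (nat_lit 16) (nat_lit 0x78000000000000007880) (Net.cons (nat_lit 32) (nat_lit 2021654528) (Net.cons (nat_lit 64) (nat_lit 0x7fffff7f887880) (Net.cons (nat_lit 32) (nat_lit 0x800000000078800080) (Net.cons (nat_lit 16) (nat_lit 0x80000f880000000880000f880) (Net.cons (nat_lit 8) (nat_lit 0x8008000780080000800800000) (Net.cons (nat_lit 4) (nat_lit 0x70801000f00030007080c000f0008) (Net.cons (nat_lit 2) (nat_lit 0x31000000331000003300000030) Net.nil)))))))))))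
noncomputable def N0_6 : Net := (Net.cons (nat_lit 2) (nat_lit 0x11000000011000000100000010) (Net.cons (nat_lit 4) (nat_lit 0x70003000700000007000400070000) (Net.cons (nat_lit 8) (nat_lit 0x7c000000740040007000400030) (Net.cons (nat_lit 16) (nat_lit 0x7c0000003c0000003800) (Net.cons (nat_lit 32) (nat_lit 0x3f83ff000000007c000000) (Net.cons (nat_lit 64) (nat_lit 0x3f83ff7c400000) (Net.cons (nat_lit 32) (nat_lit 0x3fffff00000000fbc03800) (Net.cons (nat_lit 16) (nat_lit 0x7000007c700000787000007830) (Net.cons (nat_lit 8) (nat_lit 0x7c000000300000007400400030) (Net.cons (nat_lit 4) (nat_lit 0x708030a0708040c07080006070804) (Net.cons (nat_lit 2) (nat_lit 0x13220000013200000122000012) Net.nil)))))))))))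
noncomputable def N0 : List Net := [N0_0, N0_1, N0_2, N0_3, N0_4, N0_5, N0_6]
noncomputable def N1_0 : Net := (Net.cons (nat_lit 1) (nat_lit 0x54051545154500111405454545444) (Net.cons (nat_lit 2) (nat_lit 0x111003220220022020100000000000) (Net.cons (nat_lit 4) (nat_lit 0x8000800020000000000000000) (Net.cons (nat_lit 8) (nat_lit 0xb000c000f00040000000000000) (Net.cons (nat_lit 16) (nat_lit 0xb0000000002000000000) (Net.cons (nat_lit 32) (nat_lit 2952790016) (Net.cons (nat_lit 64) (nat_lit 2952790016) (Net.cons (nat_lit 32) (nat_lit 0x7fcff000000000f0bfff40) (Net.cons (nat_lit 16) (nat_lit 0x400000b0100000402000000000) (Net.cons (nat_lit 8) (nat_lit 0x30000000b00040006000600000) (Net.cons (nat_lit 4) (nat_lit 0x4010107030e090801010d0d0d0e00) (Net.cons (nat_lit 2) (nat_lit 0x121113021030232131312020303022) (Net.cons (nat_lit 1) (nat_lit 0x150515110441445105051111044144) Net.nil)))))))))))))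
noncomputable def N1_1 : Net := (Net.cons (nat_lit 1) (nat_lit 0x114140541100000010041110110000) (Net.cons (nat_lit 2) (nat_lit 0x131033223102011122030002202200) (Net.cons (nat_lit 4) (nat_lit 0x40506030f0e05090b080000010800) (Net.cons (nat_lit 8) (nat_lit 0xe80006003c0004005000020028) (Net.cons (nat_lit 16) (nat_lit 0x430000612000006d0000007900) (Net.cons (nat_lit 32) (nat_lit 0x79f6ff000000006d800000) (Net.cons (nat_lit 64) (nat_lit 0x7996ffed826800) (Net.cons (nat_lit 32) (nat_lit 0x4a4b2b00000000cb66fbc8) (Net.cons (nat_lit 16) (nat_lit 0x5a00006c860000731400002150) (Net.cons (nat_lit 8) (nat_lit 0xf9000700d0000200bc005400f8) (Net.cons (nat_lit 4) (nat_lit 0x50d06050a01000e090c050b070a04) (Net.cons (nat_lit 2) (nat_lit 0x133301322220331031131231212312) (Net.cons (nat_lit 1) (nat_lit 0x101415041101444010100000101000) Net.nil)))))))))))))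
noncomputable def N1_2 : Net := (Net.cons (nat_lit 1) (nat_lit 0x150501510110005100405151041140) (Net.cons (nat_lit 2) (nat_lit 0x21221212111312220100203201002) (Net.cons (nat_lit 4) (nat_lit 0x702040808010a0a040c0000000600) (Net.cons (nat_lit 8) (nat_lit 0x670054001d006800ed00600001) (Net.cons (nat_lit 16) (nat_lit 0x6c0000a0c50000bd6400001000) (Net.cons (nat_lit 32) (nat_lit 0x3038a0000000098800000) (Net.cons (nat_lit 64) (nat_lit 0x3d555399de5aad) (Net.cons (nat_lit 32) (nat_lit 0xca75100000000235f487b) (Net.cons (nat_lit 16) (nat_lit 0x290000500f000000a00000c4ff) (Net.cons (nat_lit 8) (nat_lit 0xb500640007005000ed00940057) (Net.cons (nat_lit 4) (nat_lit 0x7090c020c05030d0d0c0804040a00) (Net.cons (nat_lit 2) (nat_lit 0x110012011211303331222100222002) (Net.cons (nat_lit 1) (nat_lit 0x104514101504141405004011010554) Net.nil)))))))))))))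
noncomputable def N1_3 : Net := (Net.cons (nat_lit 1) (nat_lit 0x5005540040000501500140014000) (Net.cons (nat_lit 2) (nat_lit 0x1203120010000301020210010000) (Net.cons (nat_lit 4) (nat_lit 0x907050001000e040c0004000000) (Net.cons (nat_lit 8) (nat_lit 0x34000800250018000400080006) (Net.cons (nat_lit 16) (nat_lit 0x49000020010000171c00005400) (Net.cons (nat_lit 32) (nat_lit 0x701242000000006c000000) (Net.cons (nat_lit 64) (nat_lit 0x2bafa0ee5b3ce2) (Net.cons (nat_lit 32) (nat_lit 0x74d0e3000000003e448498) (Net.cons (nat_lit 16) (nat_lit 0x9000005010000311c00003240) (Net.cons (nat_lit 8) (nat_lit 0x17000800050059002400080064) (Net.cons (nat_lit 4) (nat_lit 0x9010b000b0008040c000a000a06) (Net.cons (nat_lit 2) (nat_lit 0x13003320132000301200212012200) (Net.cons (nat_lit 1) (nat_lit 0x5005540040000501500140014000) Net.nil)))))))))))))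
noncomputable def N1_4 : Net := (Net.cons (nat_lit 1) (nat_lit 0x55440144010004401114150015404) (Net.cons (nat_lit 2) (nat_lit 0x12232101011121013000220000000) (Net.cons (nat_lit 4) (nat_lit 0x50105090d0c0f0004010808030400) (Net.cons (nat_lit 8) (nat_lit 0xef000100e00014007b00d40048) (Net.cons (nat_lit 16) (nat_lit 0x3b0000888400006b000000e000) (Net.cons (nat_lit 32) (nat_lit 0x408000000000080000000) (Net.cons (nat_lit 64) (nat_lit 0x146a0080000000) (Net.cons (nat_lit 32) (nat_lit 0x46a5ad00000000ef0394a8) (Net.cons (nat_lit 16) (nat_lit 0x7c00000cc900007f4a00001a8a) (Net.cons (nat_lit 8) (nat_lit 0xea000400ec009400cb00c6002a) (Net.cons (nat_lit 4) (nat_lit 0x80e0304020e090308020906080a) (Net.cons (nat_lit 2) (nat_lit 0x10001230213121110201121311220) (Net.cons (nat_lit 1) (nat_lit 0x111145514001010015504410451444) Net.nil)))))))))))))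
noncomputable def N1_5 : Net := (Net.cons (nat_lit 1) (nat_lit 0x41044551104054504144454544144) (Net.cons (nat_lit 2) (nat_lit 0x113210300032012231301212302200) (Net.cons (nat_lit 4) (nat_lit 0x708000d0f000a000f010b01050200) (Net.cons (nat_lit 8) (nat_lit 0x2c00d1006200d1002a00950008) (Net.cons (nat_lit 16) (nat_lit 0x10000b010000016fa00000480) (Net.cons (nat_lit 32) (nat_lit 0x2900000000008000000) (Net.cons (nat_lit 64) (nat_lit 0x106d208000000) (Net.cons (nat_lit 32) (nat_lit 0x74bc56000000008fda3120) (Net.cons (nat_lit 16) (nat_lit 0x5b00009950000047d20000a8c2) (Net.cons (nat_lit 8) (nat_lit 0x2a00d1006c00d3000b00970028) (Net.cons (nat_lit 4) (nat_lit 0x6080c010f02080d060008020b0102) (Net.cons (nat_lit 2) (nat_lit 0x132011211112310331222020222322) (Net.cons (nat_lit 1) (nat_lit 0x50415150040504514014141000104) Net.nil)))))))))))))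
noncomputable def N1_6 : Net := (Net.cons (nat_lit 1) (nat_lit 0x41515401104000011440000050500) (Net.cons (nat_lit 2) (nat_lit 0x111220321302232010201010200000) (Net.cons (nat_lit 4) (nat_lit 0x5000100020201000b080200000000) (Net.cons (nat_lit 8) (nat_lit 0xe7001100000025000000c90000) (Net.cons (nat_lit 16) (nat_lit 0x10000086080000006100000000) (Net.cons (nat_lit 32) (nat_lit 0x800010000000000000000) (Net.cons (nat_lit 64) (nat_lit 0x8000100000000) (Net.cons (nat_lit 32) (nat_lit 0x1886010000000000610000) (Net.cons (nat_lit 16) (nat_lit 0x7300009728000025e10000c900) (Net.cons (nat_lit 8) (nat_lit 0xc7001100200025008000c90080) (Net.cons (nat_lit 4) (nat_lit 0x602010c030708060b0c04060c0c00) (Net.cons (nat_lit 2) (nat_lit 0x130223220202233200001131212100) (Net.cons (nat_lit 1) (nat_lit 0x41515001144000011440000050500) Net.nil)))))))))))))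
noncomputable def N1_7 : Net := (Net.cons (nat_lit 1) (nat_lit 0x41514104000000540500505000000) (Net.cons (nat_lit 2) (nat_lit 0x122022220000210101002000000000) (Net.cons (nat_lit 4) (nat_lit 0x804000800010402020000000800) (Net.cons (nat_lit 8) (nat_lit 0x5f00c000100088005700080000) (Net.cons (nat_lit 16) (nat_lit 0x5f800000470800001080) (Net.cons (nat_lit 32) (nat_lit 276824064) (Net.cons (nat_lit 64) (nat_lit 276824064) (Net.cons (nat_lit 32) (nat_lit 0x5f800000000057881080) (Net.cons (nat_lit 16) (nat_lit 0x7f0000df800000cf3f00001880) (Net.cons (nat_lit 8) (nat_lit 0x5f00c0001000c8005700080080) (Net.cons (nat_lit 4) (nat_lit 0x4030c080a05010403040505020a00) (Net.cons (nat_lit 2) (nat_lit 0x11322220000210320313333000000) (Net.cons (nat_lit 1) (nat_lit 0x41514504000000554150505000000) Net.nil)))))))))))))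
noncomputable def N1_8 : Net := (Net.cons (nat_lit 1) (nat_lit 0x1405141410410505000000) (Net.cons (nat_lit 2) (nat_lit 0x13003100222222100020000000) (Net.cons (nat_lit 4) (nat_lit 0x70001020100080008080008080000) (Net.cons (nat_lit 8) (nat_lit 0x27002000560008005500220000) (Net.cons (nat_lit 16) (nat_lit 0x27080000512000000400) (Net.cons (nat_lit 32) (nat_lit 0x850000000000006000000) (Net.cons (nat_lit 64) (nat_lit 0x8500006000000) (Net.cons (nat_lit 32) (nat_lit 0x877000000000057200400) (Net.cons (nat_lit 16) (nat_lit 0x250000275a000059e000002680) (Net.cons (nat_lit 8) (nat_lit 0x270020007600280055002a0000) (Net.cons (nat_lit 4) (nat_lit 0x70801020c080c0d090b050d0a0a00) (Net.cons (nat_lit 2) (nat_lit 0x13002011222222101333000000) (Net.cons (nat_lit 1) (nat_lit 0x1405050514450505000000) Net.nil)))))))))))))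
noncomputable def N1_9 : Net := (Net.cons (nat_lit 1) (nat_lit 0x40514010000000004405040000000) (Net.cons (nat_lit 2) (nat_lit 0x100210100000100210012302000000) (Net.cons (nat_lit 4) (nat_lit 0x800000c000808000000) (Net.cons (nat_lit 8) (nat_lit 0x7f0000004a0080003f00000000) (Net.cons (nat_lit 16) (nat_lit 0x7f0000003d8000000200) (Net.cons (nat_lit 32) (nat_lit 1107296256) (Net.cons (nat_lit 64) (nat_lit 1107296256) (Net.cons (nat_lit 32) (nat_lit 0x7f00000000007f800200) (Net.cons (nat_lit 16) (nat_lit 0x7f00007f080000bdf700000200) (Net.cons (nat_lit 8) (nat_lit 0xff008000ca0088003f00000000) (Net.cons (nat_lit 4) (nat_lit 0x3030104040900000c0d0904060600) (Net.cons (nat_lit 2) (nat_lit 0x100203030000100302122213000000) (Net.cons (nat_lit 1) (nat_lit 0x51515050000000015144405000000) Net.nil)))))))))))))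
noncomputable def N1_10 : Net := (Net.cons (nat_lit 1) (nat_lit 0x144054100440414000000000000000) (Net.cons (nat_lit 2) (nat_lit 0x12021020110103000000000000000) (Net.cons (nat_lit 4) (nat_lit 0x1000101050800000000000000) (Net.cons (nat_lit 8) (nat_lit 0x29005000080036000800660000) (Net.cons (nat_lit 16) (nat_lit 0x29120000086400000000) (Net.cons (nat_lit 32) (nat_lit 0x1200040000000000000000) (Net.cons (nat_lit 64) (nat_lit 0x12000400000000) (Net.cons (nat_lit 32) (nat_lit 0x1229040000000008640000) (Net.cons (nat_lit 16) (nat_lit 0x290000791a00003e6400006600) (Net.cons (nat_lit 8) (nat_lit 0x6900d0000900b6000800660000) (Net.cons (nat_lit 4) (nat_lit 0x8000101050b00000000000000) (Net.cons (nat_lit 2) (nat_lit 0x112321120133303000000000000000) (Net.cons (nat_lit 1) (nat_lit 0x115541151145441100000000000000) Net.nil)))))))))))))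
noncomputable def N1_11 : Net := (Net.cons (nat_lit 1) (nat_lit 0x144110400044104500000000000000) (Net.cons (nat_lit 2) (nat_lit 0x22011021100120000000000000000) (Net.cons (nat_lit 4) (nat_lit 0x8000800000c0000000000000000) (Net.cons (nat_lit 8) (nat_lit 0x7f000100320048001100660000) (Net.cons (nat_lit 16) (nat_lit 0x6ec00000110200000000) (Net.cons (nat_lit 32) (nat_lit 0x4010000000000022800000) (Net.cons (nat_lit 64) (nat_lit 0x40100022800000) (Net.cons (nat_lit 32) (nat_lit 0x407e000000000033820000) (Net.cons (nat_lit 16) (nat_lit 0x5d00006fd80000590300006600) (Net.cons (nat_lit 8) (nat_lit 0xff008100320048009100e60000) (Net.cons (nat_lit 4) (nat_lit 0x70f0109070f0b0a00000000000000) (Net.cons (nat_lit 2) (nat_lit 0x122111021122031100000000000000) (Net.cons (nat_lit 1) (nat_lit 0x155111441144145500000000000000) Net.nil)))))))))))))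
noncomputable def N1_12 : Net := (Net.cons (nat_lit 2) (nat_lit 0x2222220020202020200000) (Net.cons (nat_lit 4) (nat_lit 0x80a0002040200000000000000) (Net.cons (nat_lit 8) (nat_lit 0xf7002000da000000df00000000) (Net.cons (nat_lit 16) (nat_lit 0xf70000000d000000d200) (Net.cons (nat_lit 32) (nat_lit 0x80000000000d2000000) (Net.cons (nat_lit 64) (nat_lit 0x800d2000000) (Net.cons (nat_lit 32) (nat_lit 0xff0000000000df00d200) (Net.cons (nat_lit 16) (nat_lit 0x7f0000f70200000ddf0000d200) (Net.cons (nat_lit 8) (nat_lit 0xf7002000fa002000ff00200000) (Net.cons (nat_lit 4) (nat_lit 0x70f09040d0f010200000000000000) (Net.cons (nat_lit 2) (nat_lit 0x13332222331120202020200000) Net.nil)))))))))))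
noncomputable def N1 : List Net := [N1_0, N1_1, N1_2, N1_3, N1_4, N1_5, N1_6, N1_7, N1_8, N1_9, N1_10, N1_11, N1_12]
noncomputable def NW : List (List Nat) := [[(nat_lit 10), (nat_lit 8), (nat_lit 2), (nat_lit 4), (nat_lit 5), (nat_lit 1), (nat_lit 9), (nat_lit 7), (nat_lit 4), (nat_lit 9), (nat_lit 4), (nat_lit 1)],
  [(nat_lit 2), (nat_lit 8), (nat_lit 12), (nat_lit 5), (nat_lit 11), (nat_lit 7), (nat_lit 5), (nat_lit 5), (nat_lit 13), (nat_lit 1)],
  [(nat_lit 18), (nat_lit 15), (nat_lit 18), (nat_lit 16), (nat_lit 18), (nat_lit 15)],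
  [(nat_lit 17), (nat_lit 17)],
  [(nat_lit 19), (nat_lit 22), (nat_lit 20), (nat_lit 20), (nat_lit 20), (nat_lit 20), (nat_lit 21), (nat_lit 19), (nat_lit 21), (nat_lit 20)],
  [(nat_lit 22), (nat_lit 20), (nat_lit 20), (nat_lit 21), (nat_lit 19), (nat_lit 21), (nat_lit 21), (nat_lit 21)],
  [(nat_lit 24), (nat_lit 25), (nat_lit 24), (nat_lit 26), (nat_lit 26), (nat_lit 24), (nat_lit 25)],
  [(nat_lit 26), (nat_lit 24), (nat_lit 25), (nat_lit 25), (nat_lit 24), (nat_lit 24)],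
  [(nat_lit 24), (nat_lit 24), (nat_lit 26), (nat_lit 24), (nat_lit 25), (nat_lit 23), (nat_lit 26), (nat_lit 24), (nat_lit 24), (nat_lit 24)],
  [(nat_lit 32), (nat_lit 28), (nat_lit 29), (nat_lit 31), (nat_lit 28), (nat_lit 31), (nat_lit 28)],
  [(nat_lit 30), (nat_lit 27), (nat_lit 29), (nat_lit 31), (nat_lit 28), (nat_lit 31)],
  [(nat_lit 30), (nat_lit 32), (nat_lit 28), (nat_lit 28), (nat_lit 31), (nat_lit 29), (nat_lit 28)],
  [(nat_lit 35), (nat_lit 37)]]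
noncomputable def NC : List Lvl := [⟨(nat_lit 0), [[(nat_lit 1)],
  [(nat_lit 3)],
  [(nat_lit 5)],
  [(nat_lit 7)],
  [(nat_lit 9)],
  [(nat_lit 11)],
  [(nat_lit 13)]], (nat_lit 3)⟩,
  ⟨(nat_lit 8), [[(nat_lit 15)],
  [(nat_lit 17)]], (nat_lit 6)⟩,
  ⟨(nat_lit 3), [[(nat_lit 19)],
  [(nat_lit 21)]], (nat_lit 7)⟩,
  ⟨(nat_lit 1), [[(nat_lit 23)],
  [(nat_lit 25)]], (nat_lit 4)⟩,
  ⟨(nat_lit 7), [[(nat_lit 27)],
  [(nat_lit 29)],
  [(nat_lit 31)]], (nat_lit 2)⟩,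
  ⟨(nat_lit 9), [[(nat_lit 33)],
  [(nat_lit 35)],
  [(nat_lit 37)]], (nat_lit 1)⟩,
  ⟨(nat_lit 23), [[(nat_lit 39)]], (nat_lit 1)⟩]
noncomputable def NV : List (List Nat) := [[(nat_lit 0x7fffffffffffff), (nat_lit 0x7fffffffffffffff80000000000000)],
  [(nat_lit 0x7fffffff800000007fffff), (nat_lit 0x7fffffff800000007fffffff800000)],
  [(nat_lit 0x7fff80007fff80007fff80007f), (nat_lit 0x7fff80007fff80007fff80007fff80)],
  [(nat_lit 0x7f807f807f8007807f807f807f87), (nat_lit 0x7f807f807f807ff87f807f807f8078)],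
  [(nat_lit 0x7879f81878781f987878181878799), (nat_lit 0x7878607e78787e0678787e7e787866)],
  [(nat_lit 0xbb8a38ebb888e3ab8b88e8e8888aa), (nat_lit 0x74475c71447771c547477171777755)],
  [(nat_lit 0x1cc9e493cc99924fc9c993939999ff), (nat_lit 0x63361b6c33666db036366c6c666600)],
  [(nat_lit 0x2d52e925d52aa497d2d2a5a5aaaaff), (nat_lit 0x52ad16da2ad55b682d2d5a5a555500)]]
noncomputable def NS : Net := (Net.cons (nat_lit 64) (nat_lit 0x7fffffffffffff) (Net.cons (nat_lit 32) (nat_lit 0x7fffff00000000007fffff) (Net.cons (nat_lit 16) (nat_lit 0x7f0000007f0000007f0000007f) (Net.cons (nat_lit 8) (nat_lit 0x80008000800080008000800080) (Net.cons (nat_lit 4) (nat_lit 0x70707070707070707070707070707) (Net.cons (nat_lit 2) (nat_lit 0x111111111111111111111111111111) Net.nil))))))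
noncomputable def NSc : List (List Nat) := [[(nat_lit 0), (nat_lit 0x7fffffffffffffffffffffffffffff)],
  [(nat_lit 0), (nat_lit 0x7fffffffffffffffffffffffffffff)],
  [(nat_lit 0), (nat_lit 0x7fffffffffffffffffffffffffffff)],
  [(nat_lit 0), (nat_lit 0x7fffffffffffffffffffffffffffff)],
  [(nat_lit 0), (nat_lit 0x7fffffffffffffffffffffffffffff)],
  [(nat_lit 0), (nat_lit 0x7fffffffffffffffffffffffffffff)],
  [(nat_lit 0), (nat_lit 0x7fffffffffffffffffffffffffffff)]]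
noncomputable def NA : List (List (List Nat)) := [[[1, 0, 0, 0, 0, 0, 0, 0], [0, 1, 0, 0, 0, 0, 0, 0], [0, 0, 1, 0, 0, 1, 0, 1], [0, 0, 0, 1, 0, 0, 0, 0], [0, 0, 0, 0, 1, 0, 0, 0], [0, 0, 0, 0, 0, 1, 0, 0], [0, 0, 0, 0, 0, 1, 1, 0], [0, 0, 0, 0, 0, 0, 0, 1]],
  [[1, 0, 0, 0, 0, 0, 0, 0], [0, 1, 0, 0, 0, 0, 0, 0], [0, 0, 1, 0, 0, 0, 0, 0], [0, 0, 0, 1, 0, 0, 0, 0], [0, 0, 0, 0, 1, 0, 0, 0], [0, 0, 0, 0, 0, 1, 0, 0], [0, 0, 0, 0, 0, 0, 0, 1], [0, 0, 0, 0, 0, 0, 1, 1]],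
  [[1, 0, 0, 0, 0, 0, 0, 0], [0, 1, 0, 0, 0, 0, 0, 0], [0, 0, 0, 0, 0, 1, 0, 0], [0, 0, 0, 1, 0, 0, 0, 0], [0, 0, 0, 0, 1, 0, 0, 0], [0, 0, 1, 0, 0, 0, 0, 0], [0, 0, 0, 0, 0, 0, 1, 1], [0, 0, 0, 0, 0, 0, 0, 1]],
  [[1, 0, 0, 0, 0, 0, 0, 0], [0, 1, 1, 0, 0, 0, 0, 0], [0, 0, 1, 0, 0, 0, 0, 0], [0, 0, 0, 1, 0, 0, 0, 0], [0, 0, 0, 0, 1, 0, 0, 0], [0, 0, 0, 0, 1, 1, 0, 0], [0, 0, 0, 0, 0, 0, 1, 0], [0, 0, 0, 0, 0, 0, 0, 1]],
  [[1, 0, 0, 0, 0, 0, 0, 0], [0, 0, 1, 0, 0, 0, 0, 0], [0, 1, 0, 0, 0, 0, 0, 0], [0, 0, 0, 1, 0, 0, 0, 0], [0, 0, 0, 0, 0, 1, 0, 0], [0, 0, 0, 0, 1, 0, 0, 0], [0, 0, 0, 0, 0, 0, 1, 0], [0, 0, 0, 0, 0, 0, 0, 1]],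
  [[1, 1, 0, 0, 0, 0, 0, 0], [0, 1, 0, 0, 0, 0, 0, 0], [0, 0, 1, 0, 0, 0, 0, 0], [0, 0, 0, 1, 0, 0, 0, 0], [0, 0, 0, 1, 1, 0, 0, 0], [0, 0, 0, 0, 0, 1, 0, 0], [0, 0, 0, 0, 0, 0, 1, 0], [0, 0, 0, 0, 0, 0, 0, 1]],
  [[0, 1, 0, 0, 0, 0, 0, 0], [1, 0, 0, 0, 0, 0, 0, 0], [0, 0, 1, 0, 0, 0, 0, 0], [0, 0, 0, 0, 1, 0, 0, 0], [0, 0, 0, 1, 0, 0, 0, 0], [0, 0, 0, 0, 0, 1, 0, 0], [0, 0, 0, 0, 0, 0, 1, 0], [0, 0, 0, 0, 0, 0, 0, 1]]]
noncomputable def NX : List (List (List (List Nat))) := [[[[1, 0, 0, 0, 0, 0, 0, 0], [0, 1, 0, 0, 0, 0, 0, 0], [0, 0, 1, 0, 0, 0, 0, 0], [0, 0, 0, 1, 0, 0, 0, 0], [0, 0, 0, 0, 1, 0, 0, 0], [0, 0, 0, 0, 0, 1, 0, 0], [0, 0, 0, 0, 0, 0, 0, 1], [0, 0, 0, 0, 0, 0, 1, 1]],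
  [[1, 0, 0, 0, 0, 0, 0, 0], [0, 1, 0, 0, 0, 0, 0, 0], [0, 0, 1, 0, 0, 1, 0, 1], [0, 0, 0, 1, 0, 0, 0, 0], [0, 0, 0, 0, 1, 0, 0, 0], [0, 0, 0, 0, 0, 1, 0, 0], [0, 0, 0, 0, 0, 0, 0, 1], [0, 0, 0, 0, 0, 1, 1, 1]],
  [[1, 0, 0, 0, 0, 0, 0, 0], [0, 1, 0, 0, 0, 0, 0, 0], [0, 0, 1, 0, 0, 0, 0, 0], [0, 0, 0, 1, 0, 0, 0, 0], [0, 0, 0, 0, 1, 0, 0, 0], [0, 0, 0, 0, 0, 1, 0, 0], [0, 0, 0, 0, 0, 0, 1, 1], [0, 0, 0, 0, 0, 0, 1, 0]],
  [[1, 0, 0, 0, 0, 0, 0, 0], [0, 1, 0, 0, 0, 0, 0, 0], [0, 0, 1, 0, 0, 1, 1, 0], [0, 0, 0, 1, 0, 0, 0, 0], [0, 0, 0, 0, 1, 0, 0, 0], [0, 0, 0, 0, 0, 1, 0, 0], [0, 0, 0, 0, 0, 1, 1, 1], [0, 0, 0, 0, 0, 0, 1, 0]]],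
 [[[1, 0, 0, 0, 0, 0, 0, 0], [0, 1, 0, 0, 0, 0, 0, 0], [0, 0, 0, 0, 0, 1, 0, 0], [0, 0, 0, 1, 0, 0, 0, 0], [0, 0, 0, 0, 1, 0, 0, 0], [0, 0, 1, 0, 0, 0, 0, 0], [0, 0, 0, 0, 0, 0, 1, 1], [0, 0, 0, 0, 0, 0, 0, 1]],
  [[1, 0, 0, 0, 0, 0, 0, 0], [0, 1, 0, 0, 0, 0, 0, 0], [0, 0, 1, 0, 0, 0, 0, 0], [0, 0, 0, 1, 0, 0, 0, 0], [0, 0, 0, 0, 1, 0, 0, 0], [0, 0, 0, 0, 0, 1, 0, 0], [0, 0, 0, 0, 0, 0, 0, 1], [0, 0, 0, 0, 0, 0, 1, 1]],
  [[1, 0, 0, 0, 0, 0, 0, 0], [0, 1, 0, 0, 0, 0, 0, 0], [0, 0, 0, 0, 0, 1, 0, 0], [0, 0, 0, 1, 0, 0, 0, 0], [0, 0, 0, 0, 1, 0, 0, 0], [0, 0, 1, 0, 0, 0, 0, 0], [0, 0, 0, 0, 0, 0, 1, 1], [0, 0, 0, 0, 0, 0, 0, 1]],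
  [[1, 0, 0, 0, 0, 0, 0, 0], [0, 1, 0, 0, 0, 0, 0, 0], [0, 0, 1, 0, 0, 0, 0, 0], [0, 0, 0, 1, 0, 0, 0, 0], [0, 0, 0, 0, 1, 0, 0, 0], [0, 0, 0, 0, 0, 1, 0, 0], [0, 0, 0, 0, 0, 0, 1, 1], [0, 0, 0, 0, 0, 0, 1, 0]]],
 [[[1, 0, 0, 0, 0, 0, 0, 0], [0, 1, 0, 0, 0, 0, 0, 0], [0, 0, 1, 0, 0, 1, 1, 1], [0, 0, 0, 1, 0, 0, 0, 0], [0, 0, 0, 0, 1, 0, 0, 0], [0, 0, 0, 0, 0, 1, 0, 0], [0, 0, 0, 0, 0, 0, 1, 1], [0, 0, 0, 0, 0, 1, 1, 0]],
  [[1, 0, 0, 0, 0, 0, 0, 0], [0, 1, 0, 0, 0, 0, 0, 0], [0, 0, 1, 0, 0, 1, 1, 0], [0, 0, 0, 1, 0, 0, 0, 0], [0, 0, 0, 0, 1, 0, 0, 0], [0, 0, 1, 0, 0, 0, 0, 0], [0, 0, 0, 0, 0, 0, 1, 0], [0, 0, 1, 0, 0, 0, 1, 1]],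
  [[1, 0, 0, 0, 0, 0, 0, 0], [0, 1, 0, 0, 0, 0, 0, 0], [0, 0, 1, 0, 0, 1, 1, 0], [0, 0, 0, 1, 0, 0, 0, 0], [0, 0, 0, 0, 1, 0, 0, 0], [0, 0, 0, 0, 0, 1, 0, 0], [0, 0, 0, 0, 0, 1, 0, 1], [0, 0, 0, 0, 0, 1, 1, 1]],
  [[1, 0, 0, 0, 0, 0, 0, 0], [0, 1, 0, 0, 0, 0, 0, 0], [0, 0, 0, 0, 0, 1, 0, 0], [0, 0, 0, 1, 0, 0, 0, 0], [0, 0, 0, 0, 1, 0, 0, 0], [0, 0, 1, 0, 0, 1, 1, 0], [0, 0, 0, 0, 0, 0, 1, 0], [0, 0, 0, 0, 0, 1, 1, 1]]],
 [[[1, 1, 0, 0, 0, 0, 0, 0], [1, 0, 0, 0, 0, 0, 0, 0], [0, 0, 1, 0, 0, 0, 0, 0], [0, 0, 0, 0, 1, 0, 0, 0], [0, 0, 0, 1, 1, 0, 0, 0], [0, 0, 0, 0, 0, 1, 0, 0], [0, 0, 0, 0, 0, 0, 1, 0], [0, 0, 0, 0, 0, 0, 0, 1]],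
  [[1, 0, 1, 0, 0, 0, 0, 0], [0, 1, 0, 0, 0, 0, 0, 0], [0, 0, 1, 0, 0, 0, 0, 0], [0, 0, 0, 1, 0, 0, 0, 0], [0, 0, 0, 0, 1, 0, 0, 0], [0, 0, 0, 1, 0, 1, 0, 0], [0, 0, 0, 0, 0, 0, 1, 0], [0, 0, 0, 0, 0, 0, 0, 1]],
  [[0, 1, 0, 0, 0, 0, 0, 0], [1, 1, 0, 0, 0, 0, 0, 0], [0, 0, 1, 0, 0, 0, 0, 0], [0, 0, 0, 1, 1, 0, 0, 0], [0, 0, 0, 1, 0, 0, 0, 0], [0, 0, 0, 0, 0, 1, 0, 0], [0, 0, 0, 0, 0, 0, 1, 0], [0, 0, 0, 0, 0, 0, 0, 1]],
  [[1, 0, 1, 0, 0, 0, 0, 0], [0, 1, 0, 0, 0, 0, 0, 0], [0, 0, 1, 0, 0, 0, 0, 0], [0, 0, 0, 1, 0, 0, 0, 0], [0, 0, 0, 0, 1, 0, 0, 0], [0, 0, 0, 1, 0, 1, 0, 0], [0, 0, 0, 0, 0, 0, 1, 0], [0, 0, 0, 0, 0, 0, 0, 1]]],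
 [[[1, 0, 1, 0, 0, 0, 0, 0], [1, 1, 1, 0, 0, 0, 0, 0], [1, 0, 0, 0, 0, 0, 0, 0], [0, 0, 0, 0, 1, 1, 0, 0], [0, 0, 0, 0, 1, 0, 0, 0], [0, 0, 0, 1, 0, 1, 0, 0], [0, 0, 0, 0, 0, 0, 1, 0], [0, 0, 0, 0, 0, 0, 0, 1]],
  [[1, 1, 1, 0, 0, 0, 0, 0], [0, 1, 0, 0, 0, 0, 0, 0], [0, 0, 1, 0, 0, 0, 0, 0], [0, 0, 0, 1, 0, 0, 0, 0], [0, 0, 0, 1, 1, 0, 0, 0], [0, 0, 0, 1, 0, 1, 0, 0], [0, 0, 0, 0, 0, 0, 1, 0], [0, 0, 0, 0, 0, 0, 0, 1]],
  [[0, 0, 1, 0, 0, 0, 0, 0], [1, 1, 0, 0, 0, 0, 0, 0], [1, 0, 1, 0, 0, 0, 0, 0], [0, 0, 0, 1, 1, 1, 0, 0], [0, 0, 0, 0, 1, 0, 0, 0], [0, 0, 0, 1, 1, 0, 0, 0], [0, 0, 0, 0, 0, 0, 1, 0], [0, 0, 0, 0, 0, 0, 0, 1]],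
  [[1, 1, 1, 0, 0, 0, 0, 0], [0, 1, 0, 0, 0, 0, 0, 0], [0, 0, 1, 0, 0, 0, 0, 0], [0, 0, 0, 1, 0, 0, 0, 0], [0, 0, 0, 1, 1, 0, 0, 0], [0, 0, 0, 1, 0, 1, 0, 0], [0, 0, 0, 0, 0, 0, 1, 0], [0, 0, 0, 0, 0, 0, 0, 1]]],
 [[[1, 0, 0, 0, 0, 0, 0, 0], [0, 1, 1, 0, 0, 0, 0, 0], [0, 1, 0, 0, 0, 0, 0, 0], [0, 0, 0, 1, 0, 0, 0, 0], [0, 0, 0, 0, 0, 1, 0, 0], [0, 0, 0, 0, 1, 1, 0, 0], [0, 0, 0, 0, 0, 0, 1, 0], [0, 0, 0, 0, 0, 0, 0, 1]],
  [[1, 1, 0, 0, 0, 0, 0, 0], [0, 1, 1, 0, 0, 0, 0, 0], [0, 1, 0, 0, 0, 0, 0, 0], [0, 0, 0, 1, 0, 0, 0, 0], [0, 0, 0, 0, 0, 1, 0, 0], [0, 0, 0, 1, 1, 1, 0, 0], [0, 0, 0, 0, 0, 0, 1, 0], [0, 0, 0, 0, 0, 0, 0, 1]],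
  [[1, 0, 0, 0, 0, 0, 0, 0], [0, 0, 1, 0, 0, 0, 0, 0], [0, 1, 1, 0, 0, 0, 0, 0], [0, 0, 0, 1, 0, 0, 0, 0], [0, 0, 0, 0, 1, 1, 0, 0], [0, 0, 0, 0, 1, 0, 0, 0], [0, 0, 0, 0, 0, 0, 1, 0], [0, 0, 0, 0, 0, 0, 0, 1]],
  [[1, 0, 1, 0, 0, 0, 0, 0], [0, 0, 1, 0, 0, 0, 0, 0], [0, 1, 1, 0, 0, 0, 0, 0], [0, 0, 0, 1, 0, 0, 0, 0], [0, 0, 0, 1, 1, 1, 0, 0], [0, 0, 0, 0, 1, 0, 0, 0], [0, 0, 0, 0, 0, 0, 1, 0], [0, 0, 0, 0, 0, 0, 0, 1]]],
 [[[1, 0, 1, 0, 0, 0, 0, 0], [0, 1, 0, 0, 0, 0, 0, 0], [1, 1, 0, 0, 0, 0, 0, 0], [0, 0, 0, 0, 0, 1, 0, 0], [0, 0, 0, 1, 1, 1, 0, 0], [0, 0, 0, 1, 0, 1, 0, 0], [0, 0, 0, 0, 0, 0, 1, 0], [0, 0, 0, 0, 0, 0, 0, 1]],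
  [[0, 1, 1, 0, 0, 0, 0, 0], [1, 0, 0, 0, 0, 0, 0, 0], [1, 1, 0, 0, 0, 0, 0, 0], [0, 0, 0, 0, 0, 1, 0, 0], [0, 0, 0, 1, 1, 1, 0, 0], [0, 0, 0, 0, 1, 1, 0, 0], [0, 0, 0, 0, 0, 0, 1, 0], [0, 0, 0, 0, 0, 0, 0, 1]],
  [[0, 1, 1, 0, 0, 0, 0, 0], [0, 1, 0, 0, 0, 0, 0, 0], [1, 1, 1, 0, 0, 0, 0, 0], [0, 0, 0, 1, 0, 1, 0, 0], [0, 0, 0, 0, 1, 1, 0, 0], [0, 0, 0, 1, 0, 0, 0, 0], [0, 0, 0, 0, 0, 0, 1, 0], [0, 0, 0, 0, 0, 0, 0, 1]],
  [[0, 1, 0, 0, 0, 0, 0, 0], [0, 1, 1, 0, 0, 0, 0, 0], [1, 1, 1, 0, 0, 0, 0, 0], [0, 0, 0, 0, 1, 1, 0, 0], [0, 0, 0, 1, 0, 1, 0, 0], [0, 0, 0, 1, 0, 0, 0, 0], [0, 0, 0, 0, 0, 0, 1, 0], [0, 0, 0, 0, 0, 0, 0, 1]]]]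
noncomputable def NB : List (List Nat) := [[0, 0, 0, 1, 0, 0, 0, 0], [0, 0, 0, 0, 1, 0, 0, 0], [0, 0, 0, 0, 0, 1, 0, 0], [0, 0, 0, 0, 0, 0, 0, 0], [0, 0, 0, 0, 0, 0, 0, 0], [0, 0, 0, 0, 0, 0, 0, 0], [0, 0, 0, 0, 0, 0, 1, 1], [0, 0, 0, 0, 0, 0, 0, 1]]
noncomputable def NM : List Nat := [(nat_lit 0x8060201008a40201), (nat_lit 0x8060201008a40201), (nat_lit 0xc080201008040201), (nat_lit 0x40c0201008040201), (nat_lit 0x80c0041008200201), (nat_lit 0x80c0041008200201), (nat_lit 0x8040301008040601), (nat_lit 0x8040301008040601), (nat_lit 0x8040102008020401), (nat_lit 0x8040102008020401), (nat_lit 0x8040201808040203), (nat_lit 0x8040201808040203), (nat_lit 0x8040200810040102), (nat_lit 0x8040200810040102)]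

theorem e2_all : Cov e2_F 4 4 0 := by
  have h := Cov.zero e2_F 4
  have h := h.blk (b := 4) e2_k0_0 rfl
  have h := h.next (y := 1) rfl rfl
  have h := h.blk (b := 4) e2_k1_0 rfl
  have h := h.next (y := 2) rfl rfl
  have h := h.blk (b := 4) e2_k2_0 rfl
  have h := h.next (y := 3) rfl rfl
  have h := h.blk (b := 4) e2_k3_0 rfl
  have h := h.next (y := 4) rfl rfl
  exact h

theorem e2 : Enum (RK 2) [] (gensW 2) 12 :=
  ⟨e2_cols, e2_ch, e2_L, e2_H, e2_pb.1, e2_e.get, [(nat_lit 0), (nat_lit 1), (nat_lit 3), (nat_lit 4)], (nat_lit 1), (nat_lit 2), e2_rots, e2_hcs,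
    (nat_lit 13), (nat_lit 4), (nat_lit 16), (nat_lit 16), (nat_lit 256), (nat_lit 1023), (nat_lit 8), (nat_lit 255), (nat_lit 11), (nat_lit 2047), (nat_lit 1), (nat_lit 4),
    fun _ _ => rfl, fun _ => rfl, fun _ _ => rfl, by decide +kernel, e2_all.1⟩

theorem e3_all : Cov e3_F 4 5 0 := by
  have h := Cov.zero e3_F 4
  have h := h.blk (b := 4) e3_k0_0 rfl
  have h := h.next (y := 1) rfl rfl
  have h := h.blk (b := 4) e3_k1_0 rfl
  have h := h.next (y := 2) rfl rfl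
  have h := h.blk (b := 4) e3_k2_0 rfl
  have h := h.next (y := 3) rfl rfl
  have h := h.blk (b := 4) e3_k3_0 rfl
  have h := h.next (y := 4) rfl rfl
  have h := h.blk (b := 4) e3_k4_0 rfl
  have h := h.next (y := 5) rfl rfl
  exact h

theorem e3 : Enum (RK 3) (gensW 2) (gensW 3) 5 :=
  ⟨e3_cols, e3_ch, e3_L, e3_H, e3_pb.1, e3_e.get, [(nat_lit 0), (nat_lit 1), (nat_lit 3), (nat_lit 4), (nat_lit 5)], (nat_lit 5), (nat_lit 3), e3_rots, e3_hcs,
    (nat_lit 6), (nat_lit 5), (nat_lit 8), (nat_lit 16), (nat_lit 128), (nat_lit 511), (nat_lit 8), (nat_lit 255), (nat_lit 10), (nat_lit 1023), (nat_lit 1), (nat_lit 4),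
    fun _ _ => rfl, fun _ => rfl, fun _ _ => rfl, by decide +kernel, e3_all.1⟩

theorem e4_all : Cov e4_F 4 6 0 := by
  have h := Cov.zero e4_F 4
  have h := h.blk (b := 4) e4_k0_0 rfl
  have h := h.next (y := 1) rfl rfl
  have h := h.blk (b := 4) e4_k1_0 rfl
  have h := h.next (y := 2) rfl rfl
  have h := h.blk (b := 4) e4_k2_0 rfl
  have h := h.next (y := 3) rfl rfl
  have h := h.blk (b := 4) e4_k3_0 rfl
  have h := h.next (y := 4) rfl rfl
  have h := h.blk (b := 4) e4_k4_0 rfl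
  have h := h.next (y := 5) rfl rfl
  have h := h.blk (b := 4) e4_k5_0 rfl
  have h := h.next (y := 6) rfl rfl
  exact h

theorem e4 : Enum (RK 4) (gensW 3) (gensW 4) 16 :=
  ⟨e4_cols, e4_ch, e4_L, e4_H, e4_pb.1, e4_e.get, [(nat_lit 0), (nat_lit 1), (nat_lit 3), (nat_lit 4), (nat_lit 5), (nat_lit 7)], (nat_lit 13), (nat_lit 4), e4_rots, e4_hcs,
    (nat_lit 17), (nat_lit 6), (nat_lit 128), (nat_lit 64), (nat_lit 8192), (nat_lit 8191), (nat_lit 8), (nat_lit 255), (nat_lit 19), (nat_lit 524287), (nat_lit 1), (nat_lit 4),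
    fun _ _ => rfl, fun _ => rfl, fun _ _ => rfl, by decide +kernel, e4_all.1⟩

theorem e5_all : Cov e5_F 4 7 0 := by
  have h := Cov.zero e5_F 4
  have h := h.blk (b := 4) e5_k0_0 rfl
  have h := h.next (y := 1) rfl rfl
  have h := h.blk (b := 4) e5_k1_0 rfl
  have h := h.next (y := 2) rfl rfl
  have h := h.blk (b := 4) e5_k2_0 rfl
  have h := h.next (y := 3) rfl rfl
  have h := h.blk (b := 4) e5_k3_0 rfl
  have h := h.next (y := 4) rfl rfl
  have h := h.blk (b := 4) e5_k4_0 rfl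
  have h := h.next (y := 5) rfl rfl
  have h := h.blk (b := 4) e5_k5_0 rfl
  have h := h.next (y := 6) rfl rfl
  have h := h.blk (b := 4) e5_k6_0 rfl
  have h := h.next (y := 7) rfl rfl
  exact h

theorem e5 : Enum (RK 5) (gensW 4) (gensW 5) 27 :=
  ⟨e5_cols, e5_ch, e5_L, e5_H, e5_pb.1, e5_e.get, [(nat_lit 0), (nat_lit 1), (nat_lit 3), (nat_lit 4), (nat_lit 5), (nat_lit 7), (nat_lit 9)], (nat_lit 29), (nat_lit 5), e5_rots, e5_hcs,
    (nat_lit 28), (nat_lit 7), (nat_lit 256), (nat_lit 128), (nat_lit 32768), (nat_lit 16383), (nat_lit 8), (nat_lit 255), (nat_lit 21), (nat_lit 2097151), (nat_lit 1), (nat_lit 4),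
    fun _ _ => rfl, fun _ => rfl, fun _ _ => rfl, by decide +kernel, e5_all.1⟩

theorem e6_all : Cov e6_F 4 8 0 := by
  have h := Cov.zero e6_F 4
  have h := h.blk (b := 4) e6_k0_0 rfl
  have h := h.next (y := 1) rfl rfl
  have h := h.blk (b := 4) e6_k1_0 rfl
  have h := h.next (y := 2) rfl rfl
  have h := h.blk (b := 4) e6_k2_0 rfl
  have h := h.next (y := 3) rfl rfl
  have h := h.blk (b := 4) e6_k3_0 rfl
  have h := h.next (y := 4) rfl rfl
  have h := h.blk (b := 4) e6_k4_0 rfl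
  have h := h.next (y := 5) rfl rfl
  have h := h.blk (b := 4) e6_k5_0 rfl
  have h := h.next (y := 6) rfl rfl
  have h := h.blk (b := 4) e6_k6_0 rfl
  have h := h.next (y := 7) rfl rfl
  have h := h.blk (b := 4) e6_k7_0 rfl
  have h := h.next (y := 8) rfl rfl
  exact h

theorem e6 : Enum (RK 6) (gensW 5) (gensW 6) 64 :=
  ⟨e6_cols, e6_ch, e6_L, e6_H, e6_pb.1, e6_e.get, [(nat_lit 0), (nat_lit 1), (nat_lit 3), (nat_lit 4), (nat_lit 5), (nat_lit 7), (nat_lit 9), (nat_lit 11)], (nat_lit 61), (nat_lit 6), e6_rots, e6_hcs,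
    (nat_lit 65), (nat_lit 8), (nat_lit 128), (nat_lit 128), (nat_lit 16384), (nat_lit 8191), (nat_lit 8), (nat_lit 255), (nat_lit 20), (nat_lit 1048575), (nat_lit 1), (nat_lit 4),
    fun _ _ => rfl, fun _ => rfl, fun _ _ => rfl, by decide +kernel, e6_all.1⟩

theorem e7_all : Cov e7_F 8 9 0 := by
  have h := Cov.zero e7_F 8
  have h := h.blk (b := 8) e7_k0_0 rfl
  have h := h.next (y := 1) rfl rfl
  have h := h.blk (b := 8) e7_k1_0 rfl
  have h := h.next (y := 2) rfl rfl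
  have h := h.blk (b := 8) e7_k2_0 rfl
  have h := h.next (y := 3) rfl rfl
  have h := h.blk (b := 8) e7_k3_0 rfl
  have h := h.next (y := 4) rfl rfl
  have h := h.blk (b := 8) e7_k4_0 rfl
  have h := h.next (y := 5) rfl rfl
  have h := h.blk (b := 8) e7_k5_0 rfl
  have h := h.next (y := 6) rfl rfl
  have h := h.blk (b := 8) e7_k6_0 rfl
  have h := h.next (y := 7) rfl rfl
  have h := h.blk (b := 8) e7_k7_0 rfl
  have h := h.next (y := 8) rfl rfl
  have h := h.blk (b := 8) e7_k8_0 rfl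
  have h := h.next (y := 9) rfl rfl
  exact h

theorem e7 : Enum (RK 7) (gensW 6) (gensW 7) 119 :=
  ⟨e7_cols, e7_ch, e7_L, e7_H, e7_pb.1, e7_e.get, [(nat_lit 0), (nat_lit 1), (nat_lit 3), (nat_lit 4), (nat_lit 5), (nat_lit 7), (nat_lit 9), (nat_lit 11), (nat_lit 13)], (nat_lit 125), (nat_lit 7), e7_rots, e7_hcs,
    (nat_lit 120), (nat_lit 9), (nat_lit 512), (nat_lit 256), (nat_lit 131072), (nat_lit 32767), (nat_lit 8), (nat_lit 255), (nat_lit 23), (nat_lit 8388607), (nat_lit 2), (nat_lit 8),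
    fun _ _ => rfl, fun _ => rfl, fun _ _ => rfl, by decide +kernel, e7_all.1⟩

theorem linN_a : linAll (tabP 2) 119 8 NV NA N0 NSc 7 = true := by decide +kernel
theorem linN : LinOK (tabP 2) 119 8 7 NV NA N0 :=
  ⟨⟨NS, by decide +kernel⟩, by decide +kernel, by decide +kernel, rfl,
    NSc, by decide +kernel, rfl, linAll_iff.1 linN_a⟩
theorem chN : ChainGe N0 N1 119 7 7 NW NC 197406720 :=
  ⟨rfl, by decide, by decide, slp_of_slpOK (by decide +kernel), by decide +kernel, by decide +kernel,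
    by decide +kernel⟩
theorem memN : allFrom (omAt (tabP 2) 8 NB NA NX) 0 7 = true := by decide +kernel

end CF.W4.Od
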