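import Cfsg.Agent.P83.T

/-! The centraliser of the root involution acting on a subgroup of orthogonal type: fusion and an element of order three. -/

set_option autoImplicit false
set_option maxRecDepth 1000000
set_option synthInstance.maxSize 20000
set_option linter.unusedSectionVars false

namespace CF.W4.Pp
open Cfsg Subgroup CF.Loc CF.Even CF.LX CF.J4 CF.Comp CF.Dce CF.LX4 CF.MonU CF.P83 Equiv Equiv.Perm
open CF.ThR (q8 b8 el qm apq el_pow el_shl el_zero conj_chi norm_c1 q8_lt b8_lt)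

variable {G : Type*} [Group G]

/-- the setting -/
structure Cy (K : Subgroup G) (g : ℕ → G) : Prop extends Md K g where
  fr : ThR.Fr (QQ g) (g 8) (cod g)
  n18 : ∀ x ∈ QQ g, IsConj (g 8) x → x = g 8 ∨ z81 (cod g x) = true
  inn : ∀ w ∈ 𝐂₁(g 8), IsConj (g 8) w → ∃ k ∈ 𝐂₁(g 8), k * w * k⁻¹ ∈ QQ g ∨ k * w * k⁻¹ ∈ cj[g 15] (QQ g)
  to16 : ∀ x ∈ QQ g, x ≠ g 8 → IsConj (g 8) x → ∃ c ∈ 𝐂₁(g 8), c * x * c⁻¹ = g 4

variable [Finite G] {K L : Subgroup G} {g : ℕ → G} {δ : G}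

local notation "z" => g 8
local notation "n" => g 15
local notation "E" => el g (g 8)
local notation "Q" => QQ g
local notation "π" => cod g
local notation "Φ" => ph g
local notation "C0" => K ⊓ 𝐂₁(g 8)
local notation "H" => 𝐂₁(g 8)
local notation "Ac" => J4.Ac 8 (QQ g) (cod g)
local notation "C1" => K ⊓ 𝐂₁(g 8) ⊔ zpowers δ

namespace Cy
variable (h : Cy K g)
include h

theorem lq : LQ Q z := h.fr.toLQ

theorem ex_ac {x : G} (hx : x ∈ H) : ∃ M < 2 ^ (8 * 8), Ac x M := h.co.ex (h.fr.nor hx) (h.nz hx)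

theorem acH {x : G} {M : ℕ} (a : Ac x M) : x ∈ H := h.ex.norm_le a.1

theorem mem_of_ac {x : G} (a : Ac x (mo 8)) : x ∈ Q := inv_mem_iff.1 (h.lq.mem_of_comm (mem_c1.1 (inv_mem (h.acH a)))
  fun y hy => by
    have m := norm_mem a.1 hy
    have := (h.co.eq_iff hy m).1 (by rw [a.2 y hy, vm_mo (by norm_num) (h.co.lt y hy)])
    rw [inv_inv, show x⁻¹ * y * x * y⁻¹ = y * (y⁻¹ * (x⁻¹ * y * x)) * y⁻¹ by group, h.ex.conj_mem hy this]
    exact this)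

theorem div {x y : G} {M : ℕ} (a : Ac x M) (b : Ac y M) : x⁻¹ * y ∈ Q := h.mem_of_ac (h.co.ac_div a b)

theorem mul {x y : G} {M N : ℕ} (a : Ac x M) (b : Ac y N) : Ac (x * y) (mm 8 M N) := h.co.cd.mul' a b

theorem move {x y k : G} {M : ℕ} (hx : x ∈ Q) (hy : y ∈ Q) (a : Ac k M) (e : vm 8 (π x) M = π y) (n0 : π y ≠ 0) :
    ∃ u ∈ Q, (k * u)⁻¹ * x * (k * u) = y := by
  have m := norm_mem a.1 hx
  rcases h.fr.eq_or hy m (by rw [a.2 x hx, e]) with l | l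
  · exact ⟨1, one_mem _, by rwa [mul_one]⟩
  · obtain ⟨u, hu, e⟩ := h.ex.exists_conj' hy (fun e => n0 (e ▸ h.co.one)) fun e => n0 (e ▸ h.fr.pz)
    refine ⟨u, hu, ?_⟩
    rw [show (k * u)⁻¹ * x * (k * u) = u⁻¹ * (k⁻¹ * x * k) * u by group, l, h.ex.zc hy, ← e]; group

theorem fus {N : Subgroup G} (hH : H ≤ N) (hn : n ∈ N) {w : G} (hw : w ∈ H) (c : IsConj z w) : ∃ y ∈ N, y * z * y⁻¹ = w := by
  have f : ∀ {x}, x ∈ Q → IsConj z x → ∃ y ∈ N, y * z * y⁻¹ = x := fun {x} hx c => by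
    rcases eq_or_ne x z with e | e
    · exact ⟨1, one_mem _, by simp [e]⟩
    · obtain ⟨a, ha, e⟩ := h.to16 x hx e c
      refine ⟨a⁻¹ * n, mul_mem (inv_mem (hH ha)) hn, ?_⟩
      calc _ = a⁻¹ * (n * z * n⁻¹) * a := by group
        _ = _ := by rw [h.nt, ← e]; group
  obtain ⟨k, hk, m | m⟩ := h.inn w hw c
  · obtain ⟨y, hy, e⟩ := f m (c.trans (isConj_iff.2 ⟨k, rfl⟩))
    refine ⟨k⁻¹ * y, mul_mem (inv_mem (hH hk)) hy, ?_⟩
    calc _ = k⁻¹ * (y * z * y⁻¹) * k := by group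
      _ = _ := by rw [e]; group
  · obtain ⟨y, hy, e⟩ := f (mem_cj.1 m) (c.trans (isConj_iff.2 ⟨n⁻¹ * k, by group⟩))
    refine ⟨k⁻¹ * n * y, mul_mem (mul_mem (inv_mem (hH hk)) hn) hy, ?_⟩
    calc _ = k⁻¹ * n * (y * z * y⁻¹) * n⁻¹ * k := by group
      _ = _ := by rw [e]; group

theorem norL (KL : K ≤ L) (t : ∀ k ∈ H, ∃ y ∈ L ⊓ H, y⁻¹ * g 4 * y = k⁻¹ * g 4 * k)
    (gen : ∀ M, K ≤ M → H ≤ 𝐍(M) → L ≤ M) : H ≤ 𝐍(L) := by
  obtain ⟨M, eM⟩ : ∃ M, Q ⊔ ⨆ k : H, cj[(k : G) * n] Q = M := ⟨_, rfl⟩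
  have nM : H ≤ 𝐍(M) := eM ▸ le_normalizer_sup h.fr.nor fun x hx => mem_normalizer_of_cj_le (by
    rw [cj_iSup]
    exact iSup_le fun k => le_iSup_of_le ⟨x * k, mul_mem hx k.2⟩ (by rw [← cj_mul, mul_assoc]))
  have QM : Q ≤ M := eM ▸ le_sup_left
  have PM : ∀ x ∈ Q, n * x * n⁻¹ ∈ M := fun x hx => eM ▸ mem_sup_right (mem_iSup_of_mem 1 (by
    simpa using conj_mem_cj n hx))
  have aM : ∀ j < 3, g (j + 9) ∈ M := fun j hj => h.nα hj ▸ PM _ (g_mem (by omega))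
  have KM : K ≤ M := h.gen M fun i hi => by
    rcases (by decide : ∀ i < 16, i < 9 ∨ (∃ j < 3, i = j + 9) ∨ (∃ j < 3, i = j + 12) ∨ i = 15) i hi with
      l | ⟨j, hj, rfl⟩ | ⟨j, hj, rfl⟩ | rfl
    · exact QM (g_mem l)
    · exact aM j hj
    · have := h.same (u := [2 * (j + 12) + 1]) (w := cjw [2 * (j + 9) + 1, 2 * (j + 12) + 1] [2 * (j + 9) + 1])
        (by revert j; decide +kernel)
      rw [ev_single, ev_cjw, ev_single] at this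
      rw [this]
      exact norm_mem' (nM (by
        simpa only [ev_cons, ev_nil, evL_odd, mul_one] using mul_mem (h.gz (by omega)) (h.gz (by omega)))) (aM j hj)
    · have := h.same (u := [2 * 15 + 1]) (w := [2 * 0 + 1] ++ cjw [2 * 15 + 1] [2 * 0 + 1] ++ [2 * 0 + 1]) (by decide +kernel)
      simp only [ev_append, ev_cjw, ev_single] at this
      rw [this]
      exact mul_mem (mul_mem (QM (g_mem (by omega))) (PM _ (g_mem (by omega)))) (QM (g_mem (by omega)))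
  rwa [le_antisymm (gen M KM nM) (eM ▸ sup_le (h.QK.trans KL) (iSup_le fun k => ?_))]
  obtain ⟨y, hy, e⟩ := t _ (inv_mem k.2)
  rw [h.lq.cj_eq (g := y⁻¹ * n) (by
    calc _ = (k : G)⁻¹⁻¹ * (n * z * n⁻¹) * (k : G)⁻¹ := by group
      _ = y⁻¹ * (n * z * n⁻¹) * y := by rw [h.nt, e]
      _ = _ := by group)]
  exact cj_le_of_mem (mul_mem (L.inv_mem hy.1) (KL (h.mem 15))) (h.QK.trans KL)

theorem not18 {x : G} (hx : x ∈ Q) (n0 : π x ≠ 0) (k : z81 (π x) = false) : ¬ IsConj z x := fun c =>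
  (h.n18 x hx c).elim (fun e => n0 (e ▸ h.fr.pz)) fun e => by rw [k] at e; exact absurd e (by decide)

theorem q4c {k : G} (hk : k ∈ H) : k⁻¹ * g 4 * k ∈ Q ∧ IsConj z (k⁻¹ * g 4 * k) ∧ z81 (π (k⁻¹ * g 4 * k)) = true := by
  have m := norm_mem (h.fr.nor hk) (g_mem (i := 4) (by omega))
  have c : IsConj z (k⁻¹ * g 4 * k) := isConj_iff.2 ⟨k⁻¹ * n, by rw [← h.nt]; group⟩
  refine ⟨m, c, (h.n18 _ m c).resolve_left fun e => ?_⟩
  have := norm_mem' (h.nz hk) (e ▸ mem_zpowers z : k⁻¹ * g 4 * k ∈ zpowers z)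
  rw [show k * (k⁻¹ * g 4 * k) * k⁻¹ = g 4 by group, ← h.co.ker _ (g_mem (by omega)), (h.fq 4 (by omega)).2] at this
  exact absurd this (by norm_num)

theorem caseA (p : ∀ k ∈ H, pu (π (k⁻¹ * g 4 * k)) = true) : ∀ k ∈ H, ∃ y ∈ K ⊓ H, y⁻¹ * g 4 * y = k⁻¹ * g 4 * k :=
  fun k hk => by
    have m := (h.q4c hk).1
    obtain ⟨γ, e, n0⟩ := (by decide +kernel : ∀ c < 256, pu c = true → ∃ γ, vm 8 (2 ^ 4) (ν γ) = c ∧ c ≠ 0) _ (h.co.lt _ m) (p k hk)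
    obtain ⟨x, hx, rfl⟩ := h.sur γ
    obtain ⟨u, hu, e⟩ := h.move (h.fq 4 (by omega)).1 m (h.ac hx) (by rwa [(h.fq 4 (by omega)).2]) n0
    exact ⟨_, mul_mem hx (h.QC hu), e⟩

theorem q8_ac {k : G} {M : ℕ} (a : Ac k M) {c : ℕ} (hc : c < 256) : q8 (vm 8 c M) = q8 c := by
  obtain ⟨x, hx, rfl⟩ := h.co.surj c hc
  refine zp_inj h.zz h.z_ne (q8_lt _) (q8_lt _) ?_
  rw [← a.2 x hx, ← h.sq' _ (norm_mem a.1 hx), ← h.fr.conj_zp (h.acH a), ← h.sq' x hx]; group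

theorem b8_ac {k : G} {M : ℕ} (a : Ac k M) {c d : ℕ} (hc : c < 256) (hd : d < 256) : b8 (vm 8 c M) (vm 8 d M) = b8 c d := by
  have := h.q8_ac a (Nat.xor_lt_two_pow (show c < 2 ^ 8 from hc) hd)
  rw [vm_xor, ThR.q8_xor, ThR.q8_xor, h.q8_ac a hc, h.q8_ac a hd] at this
  exact Nat.xor_right_inj.1 this

theorem vm_inv {k : G} {M N : ℕ} (a : Ac k M) (b : Ac k⁻¹ N) {c : ℕ} (hc : c < 256) : vm 8 (vm 8 c M) N = c := by
  rw [← vm_mm (by norm_num), h.co.uniq (h.mul a b) (by rw [mul_inv_cancel]; exact h.co.cd.one') hc, vm_mo (by norm_num) hc]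

theorem caseB {k : G} (hk : k ∈ H) (np : ¬ pu (π (k⁻¹ * g 4 * k)) = true) : ∃ δ, Dl g δ := by
  have p : 0 < 8 := by norm_num
  have f4 := h.fq 4 (by omega)
  have all : ∀ c < 256, z81 c = true → ∃ k ∈ H, π (k⁻¹ * g 4 * k) = c := fun c hc e => by
    have m := h.q4c hk
    rcases (by decide +kernel : ∀ c < 256, z81 c = true → (∃ γ, vm 8 (2 ^ 4) (ν γ) = c) ∨ ∃ γ, vm 8 7 (ν γ) = c) c hc e with
      ⟨γ, rfl⟩ | ⟨γ, rfl⟩
    · obtain ⟨x, hx, rfl⟩ := h.sur γ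
      exact ⟨x, hx.2, by rw [(h.ac hx).2 _ f4.1, f4.2]⟩
    · obtain ⟨γ', e⟩ := (by decide +kernel : ∀ c < 256, z81 c = true → ¬ pu c = true → ∃ γ, vm 8 c (ν γ) = 7) _
        (h.co.lt _ m.1) m.2.2 np
      obtain ⟨x, hx, l⟩ := h.sur (γ' * γ)
      refine ⟨k * x, mul_mem hk hx.2, ?_⟩
      rw [show (k * x)⁻¹ * g 4 * (k * x) = x⁻¹ * (k⁻¹ * g 4 * k) * x by group, (h.ac hx).2 _ m.1, l, vν, e]
  have pz : ∀ {k M c}, Ac k M → c < 256 → z81 c = true → z81 (vm 8 c M) = true := fun {k M c} a hc e => by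
    obtain ⟨x, hx, rfl⟩ := all c hc e
    have := (h.q4c (mul_mem hx (h.acH a))).2.2
    rwa [show (x * k)⁻¹ * g 4 * (x * k) = k⁻¹ * (x⁻¹ * g 4 * x) * k by group, a.2 _ (h.q4c hx).1] at this
  have pt : ∀ {k M c}, Ac k M → c ∈ T12 → vm 8 c M ∈ T12 := fun {k M c} a hc => by
    have l := (by decide : ∀ c ∈ T12, c < 256) c hc
    obtain ⟨N, -, b⟩ := h.ex_ac (inv_mem (h.acH a))
    obtain ⟨k1, k2⟩ := (t12_iff c l).1 hc
    refine (t12_iff _ (vm_lt _ _ _)).2 ⟨by rwa [h.q8_ac a l], fun d hd e => ?_⟩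
    have l' := Nat.xor_lt_two_pow (show c < 2 ^ 8 from l) (vm_lt 8 d N)
    rw [← h.vm_inv b (by rwa [inv_inv]) hd, ← vm_xor, h.q8_ac a l']
    exact (k2 _ (vm_lt _ _ _) (pz b hd e)).imp_left (pz a l')
  obtain ⟨k, hk, e⟩ := all 30 (by norm_num) rfl
  obtain ⟨M, -, a⟩ := h.ex_ac hk
  obtain ⟨N, -, b⟩ := h.ex_ac (inv_mem hk)
  rw [a.2 _ f4.1, f4.2] at e
  obtain ⟨ι, hι, eι⟩ := h.sur (sv 7)
  have aι := eι ▸ h.ac hι
  have c := h.mul (h.mul b aι) a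
  have t : ∀ t ∈ T12, vm 8 t (mm 8 (mm 8 N (ν (sv 7))) M) = vm 8 t 0x6fafcf0e76badcf0 := fun t ht => by
    have l := (by decide : ∀ c ∈ T12, c < 256) t ht
    have t' := pt b ht
    have e' := h.vm_inv b (by rwa [inv_inv]) l
    have l16 : 2 ^ 4 < 256 := by norm_num
    rw [vm_mm p, vm_mm p]
    refine (by decide +kernel : ∀ t ∈ T12, ∀ s ∈ T12, b8 t 30 = 0 ∧ s = t ∨ b8 t 30 = 1 ∧ b8 s t = 1 ∧ b8 s 30 = 1 →
      s = vm 8 t 0x6fafcf0e76badcf0) t ht _ (pt a (pt aι t')) ?_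
    have l' := vm_lt 8 t N
    generalize vm 8 t N = s at t' e' l'
    rw [← e, ← e', h.b8_ac a l' l16, h.b8_ac a (vm_lt _ _ _) l16, h.b8_ac a (vm_lt _ _ _) l']
    exact ((by decide +kernel : ∀ t ∈ T12, b8 t (2 ^ 4) = 0 ∧ vm 8 t (ν (sv 7)) = t ∨ b8 t (2 ^ 4) = 1 ∧
      b8 (vm 8 t (ν (sv 7))) t = 1 ∧ b8 (vm 8 t (ν (sv 7))) (2 ^ 4) = 1) _ t').imp_left fun k => ⟨k.1, by rw [k.2]⟩
  have t0 : ∀ t ∈ 0 :: T12, vm 8 t (mm 8 (mm 8 N (ν (sv 7))) M) = vm 8 t 0x6fafcf0e76badcf0 :=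
    List.forall_mem_cons.2 ⟨by rw [vm_zero, vm_zero], t⟩
  replace c := h.mul aι (h.co.congr c (y := 0x6fafcf0e76badcf0) (xor_ind (by rw [vm_zero, vm_zero]) (fun i hi => by
    obtain ⟨a, ha, b, hb, c, hc, d, hd, e⟩ := (by decide +kernel : ∀ i < 8, ∃ a ∈ 0 :: T12, ∃ b ∈ 0 :: T12, ∃ c ∈ 0 :: T12,
      ∃ d ∈ 0 :: T12, 2 ^ i = a ^^^ b ^^^ c ^^^ d) i hi
    simp only [e, vm_xor, t0 a ha, t0 b hb, t0 c hc, t0 d hd]) fun a _ b _ e e' => by rw [vm_xor, vm_xor, e, e']))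
  obtain ⟨u, hu, e⟩ := exact_lift h.fr h.fq c (A := AD) (by decide +kernel) (by decide +kernel) 8 le_rfl
  have m := inv_mem (mul_mem (h.acH c) (h.Qz hu))
  obtain ⟨d, ed⟩ : ∃ d, (ι * (k⁻¹ * ι * k) * u)⁻¹ = d := ⟨_, rfl⟩
  replace e : ∀ i < 8, d * g i * d⁻¹ = E (fld 9 AD i) := fun i hi => by rw [← ed, inv_inv, e i hi]
  rw [ed] at m
  obtain ⟨δ, d1, d2, d3⟩ : ∃ δ ∈ H, (∀ i < 8, δ * g i * δ⁻¹ = E (fld 9 AD i)) ∧ δ ^ 3 = 1 := by
    have c := h.fr.conj_el h.fq m e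
    rcases h.fr.cent_of h.fq (pow_mem m 3) fun i hi => by
      rw [show d ^ 3 * g i * (d ^ 3)⁻¹ = d * (d * (d * g i * d⁻¹) * d⁻¹) * d⁻¹ by
        simp only [pow_succ, pow_zero, one_mul, mul_inv_rev, mul_assoc], e i hi, c, c,
        (by decide +kernel : ∀ i < 8, apq AD (apq AD (fld 9 AD i)) = 2 ^ i) i hi, el_pow g z hi] with l | l
    · exact ⟨d, m, e, l⟩
    · refine ⟨d * z, mul_mem m (mem_c1.2 rfl), fun i hi => ?_, ?_⟩
      · rw [← e i hi, mul_assoc d, ← mem_c1.1 (h.gz (by omega))]; group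
      · rw [(show Commute d z from mem_c1.1 m).mul_pow, l, pow_succ, sq, h.zz, one_mul, h.zz]
  refine ⟨δ, d1, d2, d3, fun j hj => h.odd3 (by rw [conj_pow, d3]; group) (by rw [inv_pow, d3, inv_one]) (inv_mem d1) ?_⟩
  have x := h.gz (i := j + 9) (by omega)
  have c := h.fr.conj_el h.fq d1 d2
  have c' := h.fr.conj_el h.fq x (h.αa hj)
  have := h.fr.cent_of h.fq (mul_mem (mul_mem (mul_mem d1 x) d1) x) fun i hi => by
    rw [show δ * g (j + 9) * δ * g (j + 9) * g i * (δ * g (j + 9) * δ * g (j + 9))⁻¹ =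
      δ * (g (j + 9) * (δ * (g (j + 9) * g i * (g (j + 9))⁻¹) * δ⁻¹) * (g (j + 9))⁻¹) * δ⁻¹ by group, h.αa hj i hi, c, c', c,
      (by decide +kernel : ∀ j < 6, ∀ i < 8, apq AD (apq (nth 0 AL j) (apq AD (fld 9 (nth 0 AL j) i))) = 2 ^ i) j hj i hi,
      el_pow g z hi]
  rw [h.gi (by omega)]
  exact this.imp (fun l => by rw [← mul_one δ⁻¹, ← l]; group) fun l => by rw [← l]; group

variable (d : Dl g δ)
include d

theorem acδ {a : ℕ} (ha : a < 3) : Ac (δ⁻¹ ^ a) (MP a) := by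
  have k : Ac δ⁻¹ (MP 1) := h.ac_of (inv_mem d.mem) (A := AD) (fun i hi => by rw [inv_inv, d.act i hi]) (by decide +kernel)
  interval_cases a
  · rw [pow_zero]; exact (by decide +kernel : mo 8 = MP 0) ▸ h.co.cd.one'
  · rwa [pow_one]
  · exact (by decide +kernel : mm 8 (MP 1) (MP 1) = MP 2) ▸ sq δ⁻¹ ▸ h.mul k k

theorem C1H : C1 ≤ H := sup_le inf_le_right (zpowers_le.2 d.mem)

theorem in1 {x : G} (hx : x ∈ C1) : ∃ γ, ∃ a < 3, Ac x (mm 8 (ν γ) (MP a)) := by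
  have p : 0 < 8 := by norm_num
  obtain ⟨I, hI⟩ : ∃ I : G → Prop, ∀ x, I x ↔ ∃ γ, ∃ a < 3, Ac x (mm 8 (ν γ) (MP a)) := ⟨_, fun _ => Iff.rfl⟩
  have mu : ∀ {x y}, I x → I y → I (x * y) := fun a b => by
    obtain ⟨γ, a, ha, k⟩ := (hI _).1 a
    obtain ⟨γ', b, hb, k'⟩ := (hI _).1 b
    obtain ⟨a', ha', e⟩ := (by decide +kernel : ∀ γ, ∀ a < 3, ∃ b < 3, mm 8 (MP a) (ν γ) = mm 8 (ν γ) (MP b)) γ' a ha
    obtain ⟨c, hc, e'⟩ := (by decide +kernel : ∀ a < 3, ∀ b < 3, ∃ c < 3, mm 8 (MP a) (MP b) = MP c) a' ha' b hb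
    refine (hI _).2 ⟨γ * γ', c, hc, ?_⟩
    rw [ν_mul, ← e', mm_assoc p, ← mm_assoc p (ν γ'), ← e, mm_assoc p, ← mm_assoc p (ν γ)]
    exact h.mul k k'
  have c0 : ∀ x ∈ C0, I x := fun x hx => (hI _).2 ⟨Φ x, 0, by omega, by
    rw [← (by decide +kernel : mo 8 = MP 0), mm_mo p (ν_lt _)]; exact h.ac hx⟩
  have i1 : I δ⁻¹ := (hI _).2 ⟨1, 1, by omega, by
    simpa only [ν_one, mo_mm p (by decide +kernel : MP 1 < 2 ^ (8 * 8)), pow_one] using h.acδ d (a := 1) (by omega)⟩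
  let U : Subgroup G := { carrier := {x | I x ∧ I x⁻¹}
                          one_mem' := ⟨c0 _ (one_mem _), c0 _ (inv_mem (one_mem _))⟩
                          mul_mem' := fun a b => ⟨mu a.1 b.1, by rw [mul_inv_rev]; exact mu b.2 a.2⟩
                          inv_mem' := fun a => ⟨a.2, by rw [inv_inv]; exact a.1⟩ }
  refine (hI _).1 ((sup_le (fun x hx => ⟨c0 x hx, c0 _ (inv_mem hx)⟩) (zpowers_le.2 ⟨?_, i1⟩) : C1 ≤ U) hx).1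
  rw [show δ = δ⁻¹ * δ⁻¹ by rw [← mul_one (δ⁻¹ * δ⁻¹), ← d.d3]; group]
  exact mu i1 i1

theorem tr {k : G} (hk : k ∈ H) : ∃ y ∈ C1, y⁻¹ * g 4 * y = k⁻¹ * g 4 * k := by
  obtain ⟨m, -, e⟩ := h.q4c hk
  obtain ⟨a, ha, γ, e, n0⟩ := (by decide +kernel : ∀ c < 256, z81 c = true → ∃ a < 3, ∃ γ,
    vm 8 (vm 8 (2 ^ 4) (MP a)) (ν γ) = c ∧ c ≠ 0) _ (h.co.lt _ m) e
  obtain ⟨x, hx, rfl⟩ := h.sur γ
  obtain ⟨u, hu, e⟩ := h.move (h.fq 4 (by omega)).1 m (h.mul (h.acδ d ha) (h.ac hx))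
    (by rwa [(h.fq 4 (by omega)).2, vm_mm (by norm_num)]) n0
  exact ⟨_, mul_mem (mul_mem (mem_sup_right (pow_mem (inv_mem (mem_zpowers δ)) a)) (mem_sup_left hx))
    (mem_sup_left (h.QC hu)), e⟩

theorem zt1 {w : G} (hw : w ∈ H) (c : IsConj z w) : w ∈ C1 := by
  obtain ⟨k, hk, m | m⟩ := h.inn w hw c
  · have := norm_mem (h.fr.nor hk) m
    rw [show k⁻¹ * (k * w * k⁻¹) * k = w by group] at this
    exact mem_sup_left (h.QC this)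
  obtain ⟨y, hy, e⟩ := h.tr d hk
  have t : k * y⁻¹ ∈ H := mul_mem hk (inv_mem (h.C1H d hy))
  have a := norm_mem ((h.lq.cj n).nor' (x := k * y⁻¹) (by
    rw [h.nt]
    calc _ = k * (y⁻¹ * g 4 * y) * y⁻¹ := by group
      _ = _ := by rw [e]; group)) m
  rw [show w = y⁻¹ * ((k * y⁻¹)⁻¹ * (k * w * k⁻¹) * (k * y⁻¹)) * y by group]
  exact mul_mem (mul_mem (inv_mem hy) (mem_sup_left ⟨cj_le_of_mem (h.mem 15) h.QK a,
    (H).mul_mem ((H).mul_mem ((H).inv_mem t) ((H).mul_mem ((H).mul_mem hk hw) ((H).inv_mem hk))) t⟩)) hy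

theorem ce {w : G} (c : IsConj z w) (c1 : Commute w (g 11)) (c2 : Commute w (ev g ew)) (c3 : ∀ d ∈ [12, 308], Commute w (E d)) :
    ∃ x ∈ [1, z, ev g uw * z * (ev g uw)⁻¹, g 11], ∃ d ∈ [0, 12, 308, 312], w = x * E d := by
  have p : 0 < 8 := by norm_num
  have g11 : ev g [23] = g 11 := ev_single g 11
  have e1 := h.same (u := cjw pw [23]) (w := [17]) (by decide +kernel)
  have e2 := h.same (u := cjw pw ew) (w := ew) (by decide +kernel)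
  have e3 := h.same (u := cjw pw (qw 308)) (w := [23] ++ qw (apq (nth 0 AL 2) 52)) (by decide +kernel)
  rw [ev_append, ev_qw] at e3
  rw [ev_cjw] at e1 e2 e3
  rw [g11, ev_z] at e1
  rw [g11, ev_qw] at e3
  have cj : ∀ {a b : G}, Commute a b → Commute (ev g pw * a * (ev g pw)⁻¹) (ev g pw * b * (ev g pw)⁻¹) := fun e => by
    rw [Commute, SemiconjBy, conj_mul, conj_mul, e.eq]
  replace c1 := e1 ▸ cj c1
  replace c2 := e2 ▸ cj c2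
  replace c3 := fun d hd => cj (c3 d hd)
  replace c := c.trans (isConj_iff.2 ⟨ev g pw, rfl⟩)
  obtain ⟨v, ev'⟩ : ∃ v, ev g pw * w * (ev g pw)⁻¹ = v := ⟨_, rfl⟩
  rw [ev'] at c c1 c2 c3
  obtain ⟨γ, a, ha, k⟩ := h.in1 d (h.zt1 d (mem_c1.2 c1.eq) c)
  have u := ce1 γ a ha
  rw [force_eq, decide_eq_true_iff] at u
  have cm : ∀ {x M}, Ac x M → Commute v x → mm 8 (mm 8 (ν γ) (MP a)) M = mm 8 M (mm 8 (ν γ) (MP a)) := fun a e =>
    h.co.uniq' (h.mul k a) (e.eq ▸ h.mul a k) (mm_lt p _ _) (mm_lt p _ _)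
  have a2 := h.αac (j := 2) (by omega)
  obtain ⟨ε, hε, m⟩ : ∃ ε < 2, (g 11 ^ ε)⁻¹ * v ∈ Q := (u (h.co.uniq' (h.mul k k) (by
      obtain ⟨b, rfl⟩ := isConj_iff.1 c
      rw [conj_mul, h.zz, mul_one, mul_inv_cancel]; exact h.co.cd.one') (mm_lt p _ _) (mo_lt p))
    (cm (h.fr.ac_mul a2 (el_mem _)) (e3 ▸ c3 308 (by simp))) (cm (by
      simpa only [ew, ev_cons, ev_nil, mul_one, ν_mul, mul_assoc, mm_assoc p, ← evL_odd g (_ + 9)] using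
        h.mul (h.mul (h.mul (h.αac (j := 0) (by omega)) (h.αac (j := 3) (by omega))) (h.αac (j := 1) (by omega)))
          (h.αac (j := 4) (by omega))) c2)).elim
    (fun e => ⟨0, by omega, by simpa using h.mem_of_ac (e ▸ k)⟩) fun e => ⟨1, by omega, by simpa using h.div a2 (e ▸ k)⟩
  obtain ⟨c, hc, e⟩ := h.el_surj' m
  have ev : ev g (wpow [23] ε ++ qw c) = v := by rw [ev_append, ev_wpow, g11, ev_qw, ← e, mul_inv_cancel_left]
  obtain ⟨x, hx, b, hb, e⟩ := ce2 ε hε c hc ((h.orc _ _).1 (by rw [ev_append, ev_append _ ew, ev, c2.eq])) fun b hb =>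
    (h.orc _ _).1 (by rw [ev_append, ev_append _ (cjw _ _), ev, ev_cjw, ev_qw, (c3 b hb).eq])
  replace e := h.same e
  rw [ev, ev_cjw, ← ev', mul_left_inj, mul_right_inj, ev_append, ev_qw] at e
  refine ⟨_, ?_, b, hb, e⟩
  simp only [List.mem_cons, List.not_mem_nil, or_false] at hx ⊢
  rcases hx with rfl | rfl | rfl | rfl
  exacts [.inl rfl, .inr (.inl (ev_z g)), .inr (.inr (.inl (by rw [ev_cjw, ev_z]))), .inr (.inr (.inr g11))]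

end Cy

end CF.W4.Pp
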